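import Cfsg.Agent.Lib.MinNonCA.Almost
import Mathlib.GroupTheory.SpecificGroups.Dihedral
import Mathlib.GroupTheory.SpecificGroups.Alternating
import Mathlib.GroupTheory.PGroup

/-!
Small CA-groups, and CA-subgroups of `PSL(2,q)`.
-/

set_option autoImplicit false
set_option linter.style.haveILetI false
set_option linter.unusedSectionVars false

namespace CfsgLib.MinNonCA

open Matrix
open CfsgLib.SL2Tori (NS commute_of_commute)
open CfsgLib.PSL2 (mk mk_eq_mk uSL coe_uSL dSL coe_dSL)

universe u v

/-- Transfer along injections, across universes. -/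
theorem isCA_of_hom {A : Type u} {B : Type v} [Group A] [Group B] (f : B →* A) (hf : Function.Injective f)
    (h : IsCA A) : IsCA B :=
  isCA_of_comm fun x hx a b ha hb => hf (by
    have hx' : f x ∉ Subgroup.center A := fun hc => hx (Subgroup.mem_center_iff.mpr fun g =>
      hf (by rw [map_mul, map_mul]; exact Subgroup.mem_center_iff.mp hc (f g)))
    rw [map_mul, map_mul]
    exact h.comm hx' (by rw [← map_mul, ← map_mul, ha]) (by rw [← map_mul, ← map_mul, hb]))

theorem isCA_dihedral (k : ℕ) : IsCA (DihedralGroup k) := by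
  refine isCA_of_comm fun x hx a b ha hb => ?_
  cases x with
  | r i =>
    have key : ∀ j, DihedralGroup.sr j * DihedralGroup.r i ≠ DihedralGroup.r i * DihedralGroup.sr j := by
      intro j e
      simp only [DihedralGroup.sr_mul_r, DihedralGroup.r_mul_sr, DihedralGroup.sr.injEq] at e
      apply hx
      rw [Subgroup.mem_center_iff]
      rintro (l | l)
      · simp [DihedralGroup.r_mul_r, add_comm]
      · simp only [DihedralGroup.sr_mul_r, DihedralGroup.r_mul_sr, DihedralGroup.sr.injEq]
        linear_combination e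
    cases a with
    | r j => cases b with
      | r l => simp [DihedralGroup.r_mul_r, add_comm]
      | sr l => exact absurd hb (key l)
    | sr j => exact absurd ha (key j)
  | sr i =>
    cases a with
    | r j => cases b with
      | r l => simp [DihedralGroup.r_mul_r, add_comm]
      | sr l =>
        simp only [DihedralGroup.sr_mul_r, DihedralGroup.r_mul_sr, DihedralGroup.sr.injEq] at ha hb ⊢
        linear_combination ha
    | sr j => cases b with
      | r l =>
        simp only [DihedralGroup.sr_mul_r, DihedralGroup.r_mul_sr, DihedralGroup.sr.injEq] at ha hb ⊢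
        linear_combination -hb
      | sr l =>
        simp only [DihedralGroup.sr_mul_sr, DihedralGroup.r.injEq] at ha hb ⊢
        linear_combination ha - hb

theorem isCA_of_commutative {A : Type u} [Group A] (h : ∀ a b : A, a * b = b * a) : IsCA A :=
  isCA_of_comm fun _ _ a b _ _ => h a b

theorem comm_of_card_le_five {A : Type u} [Group A] [Finite A] (h : Nat.card A ≤ 5) (a b : A) : a * b = b * a := by
  have hpos : 0 < Nat.card A := Nat.card_pos
  rcases (show Nat.card A = 1 ∨ Nat.card A = 2 ∨ Nat.card A = 3 ∨ Nat.card A = 4 ∨ Nat.card A = 5 by omega)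
    with e | e | e | e | e
  · exact (Nat.card_eq_one_iff_unique.mp e).1.elim _ _
  · haveI : Fact (Nat.Prime 2) := ⟨Nat.prime_two⟩
    haveI := isCyclic_of_prime_card e
    exact mul_comm' a b
  · haveI : Fact (Nat.Prime 3) := ⟨Nat.prime_three⟩
    haveI := isCyclic_of_prime_card e
    exact mul_comm' a b
  · haveI : Fact (Nat.Prime 2) := ⟨Nat.prime_two⟩
    haveI := IsPGroup.isMulCommutative_of_card_eq_prime_sq (p := 2) (G := A) (by rw [e]; norm_num)
    exact mul_comm' a b
  · haveI : Fact (Nat.Prime 5) := ⟨Nat.prime_five⟩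
    haveI := isCyclic_of_prime_card e
    exact mul_comm' a b

theorem isCA_of_card_cent {A : Type u} [Group A] [Fintype A] [DecidableEq A]
    (h : ∀ x : A, x = 1 ∨ (Finset.univ.filter fun y => y * x = x * y).card ≤ 5) : IsCA A := by
  refine isCA_of_comm fun x hx a b ha hb => ?_
  rcases h x with rfl | hc
  · exact absurd (Subgroup.center A).one_mem hx
  have hcard : Nat.card (Subgroup.centralizer ({x} : Set A)) ≤ 5 := by
    refine le_trans (le_of_eq ?_) hc
    rw [← Fintype.card_coe, ← Nat.card_eq_fintype_card]
    exact Nat.card_congr (Equiv.subtypeEquivRight fun y => by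
      rw [Subgroup.mem_centralizer_singleton_iff, Finset.mem_filter, and_iff_right (Finset.mem_univ y)])
  exact congrArg Subtype.val (comm_of_card_le_five hcard
    (⟨a, Subgroup.mem_centralizer_singleton_iff.mpr ha⟩ : Subgroup.centralizer ({x} : Set A))
    ⟨b, Subgroup.mem_centralizer_singleton_iff.mpr hb⟩)

set_option maxRecDepth 8000 in
theorem a5_cent : ∀ x : alternatingGroup (Fin 5), x = 1 ∨ (Finset.univ.filter fun y => y * x = x * y).card ≤ 5 := by
  decide +kernel

set_option maxRecDepth 8000 in
theorem a4_cent : ∀ x : alternatingGroup (Fin 4), x = 1 ∨ (Finset.univ.filter fun y => y * x = x * y).card ≤ 5 := by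
  decide +kernel

theorem isCA_a5 : IsCA (alternatingGroup (Fin 5)) := isCA_of_card_cent a5_cent

theorem isCA_a4 : IsCA (alternatingGroup (Fin 4)) := isCA_of_card_cent a4_cent

section Projective

variable {F : Type} [Field F] [Fintype F]

local notation "M2" => Matrix (Fin 2) (Fin 2) F
local notation "SL2" => Matrix.SpecialLinearGroup (Fin 2) F
local notation "PSL" => Matrix.ProjectiveSpecialLinearGroup (Fin 2) F

theorem ns_of_mk_ne_one {X : SL2} (h : mk X ≠ 1) : NS X := fun r hr =>
  h ((QuotientGroup.eq_one_iff X).mpr (SL2Tori.mem_center_iff.mpr fun hn => hn r hr))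

/-- Lifts of commuting elements commute or anticommute. -/
theorem comm_or_anti {A X : SL2} (h : mk A * mk X = mk X * mk A) :
    A.1 * X.1 = X.1 * A.1 ∨ A.1 * X.1 = -(X.1 * A.1) := by
  rw [← map_mul, ← map_mul, eq_comm] at h
  exact mk_eq_mk.mp h

/-- Commuting elements of `PSL₂` with exactly commuting lifts of one non-scalar element commute. -/
theorem mk_comm_of_exact {A B X : SL2} (hX : NS X) (hA : A.1 * X.1 = X.1 * A.1) (hB : B.1 * X.1 = X.1 * B.1) :
    mk A * mk B = mk B * mk A := by
  rw [← map_mul, ← map_mul, (commute_of_commute hX (Subtype.ext hA : Commute A X) (Subtype.ext hB : Commute B X)).eq]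

/-- `PSL(2,3)` and `PSL(2,5)` are CA. -/
theorem isCA_psl_small (h : Fintype.card F = 3 ∨ Fintype.card F = 5) : IsCA PSL := by
  refine isCA_of_comm fun x hx a b ha hb => ?_
  obtain ⟨X, rfl⟩ := QuotientGroup.mk'_surjective _ x
  obtain ⟨A, rfl⟩ := QuotientGroup.mk'_surjective _ a
  obtain ⟨B, rfl⟩ := QuotientGroup.mk'_surjective _ b
  change mk A * mk X = mk X * mk A at ha
  change mk B * mk X = mk X * mk B at hb
  change mk A * mk B = mk B * mk A
  have hx1 : mk X ≠ 1 := fun e => hx (by
    show mk X ∈ _
    rw [e]; exact one_mem _)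
  have hX := ns_of_mk_ne_one hx1
  have key : (A.1 * X.1 = -(X.1 * A.1) ∨ B.1 * X.1 = -(X.1 * B.1)) →
      ∀ C : SL2, C.1 * X.1 = X.1 * C.1 → mk C = 1 ∨ mk C = mk X := by
    intro hor
    have hanti : ∀ {A : SL2}, A.1 * X.1 = -(X.1 * A.1) → X.1.trace = 0 ∨ (2 : F) = 0 := by
      intro A hA
      have e : X.1.trace = -X.1.trace := by
        have h1 : (A⁻¹).1 * A.1 = 1 := congrArg Subtype.val (inv_mul_cancel A)
        have h1' : A.1 * (A⁻¹).1 = 1 := congrArg Subtype.val (mul_inv_cancel A)
        calc X.1.trace = ((A⁻¹).1 * (A.1 * X.1)).trace := by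
              rw [← mul_assoc, h1, one_mul]
          _ = -((A⁻¹).1 * (X.1 * A.1)).trace := by rw [hA, mul_neg, Matrix.trace_neg]
          _ = -X.1.trace := by
              rw [Matrix.trace_mul_comm, mul_assoc, h1', mul_one]
      rcases eq_or_ne (2 : F) 0 with h2 | h2
      · exact Or.inr h2
      · exact Or.inl ((mul_eq_zero.mp (show (2 : F) * X.1.trace = 0 by linear_combination e)).resolve_left h2)
    have htr : X.1.trace = 0 := by
      have h2 : (2 : F) ≠ 0 := by
        intro h2
        haveI : CharP F 2 := CharTwo.of_one_ne_zero_of_two_eq_zero one_ne_zero h2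
        obtain ⟨k, -, hk⟩ := FiniteField.card F 2
        rcases Nat.even_or_odd (2 ^ (k : ℕ)) with he | ho
        · rw [← hk] at he; rcases h with h | h <;> rw [h] at he <;> exact absurd he (by decide)
        · exact absurd ho (Nat.not_odd_iff_even.mpr (Nat.even_pow.mpr ⟨by decide, k.ne_zero⟩))
      rcases hor with hA' | hB'
      · exact (hanti hA').resolve_right h2
      · exact (hanti hB').resolve_right h2
    have exact' : ∀ C : SL2, C.1 * X.1 = X.1 * C.1 → mk C = 1 ∨ mk C = mk X := by
      intro C hC
      obtain ⟨α, β, e⟩ := SL2Centralizer.exists_of_commute hX hC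
      have hd : α * α + β * β = 1 := by
        have := SL2Centralizer.det_lin X α β
        rw [← e, C.2, htr] at this
        linear_combination -this
      have hab : α = 0 ∨ β = 0 := by
        by_contra hne
        push Not at hne
        have ha4 := FiniteField.pow_card_sub_one_eq_one α hne.1
        have hb4 := FiniteField.pow_card_sub_one_eq_one β hne.2
        have hq := FiniteField.cast_card_eq_zero F
        rcases h with h | h <;> rw [h] at ha4 hb4 hq <;> simp only [Nat.reduceSub] at ha4 hb4
        · exact one_ne_zero (α := F) (by linear_combination hd - ha4 - hb4)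
        · have hq' : (5 : F) = 0 := by exact_mod_cast hq
          have ha2 : α * α = 1 ∨ α * α = -1 := mul_self_eq_one_iff.mp (by linear_combination ha4)
          have hb2 : β * β = 1 ∨ β * β = -1 := mul_self_eq_one_iff.mp (by linear_combination hb4)
          rcases ha2 with ha2 | ha2 <;> rcases hb2 with hb2 | hb2 <;> rw [ha2, hb2] at hd
          · exact one_ne_zero (α := F) (by linear_combination hd)
          · exact one_ne_zero (α := F) (by linear_combination -hd)
          · exact one_ne_zero (α := F) (by linear_combination -hd)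
          · exact one_ne_zero (α := F) (by linear_combination -2 * hd - hq')
      rcases hab with rfl | rfl
      · right
        rw [mul_zero, zero_add] at hd
        rw [zero_smul, zero_add] at e
        apply mk_eq_mk.mpr
        rcases mul_self_eq_one_iff.mp hd with rfl | rfl
        · left; rw [e, one_smul]
        · right; rw [e, neg_one_smul, neg_neg]
      · left
        rw [mul_zero, add_zero] at hd
        rw [zero_smul, add_zero] at e
        rw [← map_one (mk : SL2 →* PSL)]
        apply mk_eq_mk.mpr
        rcases mul_self_eq_one_iff.mp hd with rfl | rfl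
        · left; simp [e]
        · right; simp [e]
    exact exact'
  rcases comm_or_anti ha with hA | hA
  · rcases comm_or_anti hb with hB | hB
    · exact mk_comm_of_exact hX hA hB
    · rcases key (Or.inr hB) A hA with e | e <;> rw [e]
      · rw [one_mul, mul_one]
      · exact hb.symm
  · rcases comm_or_anti hb with hB | hB
    · rcases key (Or.inl hA) B hB with e | e <;> rw [e]
      · rw [one_mul, mul_one]
      · exact ha
    · have hAB : (A * B).1 * X.1 = X.1 * (A * B).1 := by
        show A.1 * B.1 * X.1 = X.1 * (A.1 * B.1)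
        rw [mul_assoc, hB, mul_neg, ← mul_assoc, hA, neg_mul, neg_neg, mul_assoc]
      have hca : Commute (mk A) (mk (A * B)) := by
        rcases key (Or.inl hA) _ hAB with e | e <;> rw [e]
        · exact Commute.one_right _
        · exact ha
      rw [map_mul] at hca
      have := ((Commute.refl (mk A)).inv_right).mul_right hca
      rwa [inv_mul_cancel_left] at this

/-- Subgroups of the image of the upper triangular group are CA. -/
theorem isCA_upper (h2 : (2 : F) ≠ 0) : IsCA ((upperSL F).map (mk : SL2 →* PSL)) := by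
  refine isCA_of_comm fun x hx a b ha hb => ?_
  obtain ⟨_, X, hX0, rfl⟩ := x
  obtain ⟨_, A, hA0, rfl⟩ := a
  obtain ⟨_, B, hB0, rfl⟩ := b
  have hx1 : mk X ≠ 1 := fun e => hx (by
    have : (⟨mk X, X, hX0, rfl⟩ : (upperSL F).map (mk : SL2 →* PSL)) = 1 := Subtype.ext e
    rw [this]; exact one_mem _)
  have key : ∀ C : SL2, C.1 1 0 = 0 → mk C * mk X = mk X * mk C → C.1 * X.1 = X.1 * C.1 := by
    intro C (hC : C.1 1 0 = 0) e
    rcases comm_or_anti e with h | h
    · exact h
    · exfalso
      have hX0' : X.1 1 0 = 0 := hX0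
      have e00 := congrFun (congrFun h 0) 0
      simp [Matrix.mul_apply, Fin.sum_univ_two, hC, hX0'] at e00
      have hd := C.2
      have hdX := X.2
      rw [Matrix.det_fin_two, hC, mul_zero, sub_zero] at hd
      rw [Matrix.det_fin_two, hX0', mul_zero, sub_zero] at hdX
      have : (2 : F) * (C.1 0 0 * X.1 0 0) = 0 := by linear_combination e00
      exact mul_ne_zero h2 (mul_ne_zero (left_ne_zero_of_mul_eq_one hd) (left_ne_zero_of_mul_eq_one hdX)) this
  exact Subtype.ext (mk_comm_of_exact (ns_of_mk_ne_one hx1) (key A hA0 (congrArg Subtype.val ha))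
    (key B hB0 (congrArg Subtype.val hb)))

/-- Sylow normalisers in the defining characteristic are CA. -/
theorem isCA_sylow_normalizer (h2 : (2 : F) ≠ 0) {p : ℕ} [Fact p.Prime] [CharP F p] (P : Sylow p PSL)
    (K : Subgroup PSL) (hK : K ≤ Subgroup.normalizer ((P : Subgroup PSL) : Set PSL)) : IsCA K := by
  haveI : Finite PSL := Quotient.finite _
  obtain ⟨g, hg⟩ := MulAction.exists_smul_eq PSL P (PSL2.uSylow (F := F) p)
  have hsmul : ∀ y ∈ (P : Subgroup PSL), g * y * g⁻¹ ∈ (PSL2.uHom : Multiplicative F →* PSL).range := by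
    intro y hy
    show g * y * g⁻¹ ∈ ((PSL2.uSylow (F := F) p : Sylow p PSL) : Subgroup PSL)
    rw [← hg, Sylow.coe_subgroup_smul]
    exact ⟨y, hy, rfl⟩
  have hle : ∀ k ∈ K, g * k * g⁻¹ ∈ (upperSL F).map (mk : SL2 →* PSL) := by
    intro k hk
    obtain ⟨G0, hG0⟩ := QuotientGroup.mk'_surjective _ (g * k * g⁻¹)
    refine ⟨G0, PSL2.upper_of_normalizes G0 ?_, hG0⟩
    rw [show mk G0 = g * k * g⁻¹ from hG0]
    have hmem : g⁻¹ * PSL2.uu (1 : F) * g ∈ (P : Subgroup PSL) := by
      have : PSL2.uu (1 : F) ∈ ((g • P : Sylow p PSL) : Subgroup PSL) := by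
        rw [hg]; exact ⟨_, rfl⟩
      rw [Sylow.coe_subgroup_smul] at this
      obtain ⟨y, hy, e⟩ := this
      have e' : g * y * g⁻¹ = PSL2.uu (1 : F) := e
      rw [← e', show g⁻¹ * (g * y * g⁻¹) * g = y by group]
      exact hy
    have := hsmul _ ((Subgroup.mem_normalizer_iff.mp (hK hk) _).mp hmem)
    convert this using 1
    group
  let f : K →* ↥((upperSL F).map (mk : SL2 →* PSL)) :=
    ((MulAut.conj g).toMonoidHom.comp K.subtype).codRestrict _ fun k => hle k.1 k.2
  exact isCA_of_hom f (fun a b e => Subtype.ext ((MulAut.conj g).injective (congrArg Subtype.val e)))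
    (isCA_upper h2)

/-- `PSL(2,q)` is not CA for odd `q ≥ 7`. -/
theorem not_isCA_psl (hodd : Odd (Fintype.card F)) (h7 : 7 ≤ Fintype.card F) : ¬ IsCA PSL := by
  classical
  intro hca
  have h2 : (2 : F) ≠ 0 := by
    intro h2
    haveI : CharP F 2 := CharTwo.of_one_ne_zero_of_two_eq_zero one_ne_zero h2
    obtain ⟨k, -, hk⟩ := FiniteField.card F 2
    exact absurd (hk ▸ hodd) (Nat.not_odd_iff_even.mpr (Nat.even_pow.mpr ⟨by decide, k.ne_zero⟩))
  have hneg : (1 : F) ≠ -1 := fun e => h2 (by linear_combination e)
  let W : SL2 := ⟨!![0, 1; -1, 0], by simp [Matrix.det_fin_two_of]⟩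
  have htr : W.1.trace = 0 := by simp [W, Matrix.trace_fin_two]
  have htr4 : W.1.trace ^ 2 ≠ 4 := by
    rw [htr]
    intro e
    exact mul_ne_zero h2 h2 (by linear_combination -e)
  have hns := SL2Centralizer.not_scalar_of_trace htr4
  obtain ⟨H, hH⟩ := SL2Centralizer.exists_conj_neg h2 htr
  obtain ⟨s, hs0, hs⟩ : ∃ s : F, s ≠ 0 ∧ ∃ t : F, t ≠ 0 ∧ s * s + t * t = 1 := by
    have hc := SL2Centralizer.card_conic (F := F) (t := W.1.trace) htr4
    rw [htr] at hc
    by_contra hno
    push Not at hno
    have hsub : Nat.card {p : F × F // p.1 * p.1 + 0 * p.1 * p.2 + p.2 * p.2 = 1} ≤ 4 := by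
      have : ∀ p : {p : F × F // p.1 * p.1 + 0 * p.1 * p.2 + p.2 * p.2 = 1},
          p.1 ∈ ({(1, 0), (-1, 0), (0, 1), (0, -1)} : Finset (F × F)) := by
        rintro ⟨⟨a, b⟩, e⟩
        replace e : a * a + b * b = 1 := by linear_combination e
        by_cases ha : a = 0
        · subst ha
          rcases mul_self_eq_one_iff.mp (show b * b = 1 by linear_combination e) with rfl | rfl <;> simp
        · by_cases hb : b = 0
          · subst hb
            rcases mul_self_eq_one_iff.mp (show a * a = 1 by linear_combination e) with rfl | rfl <;> simp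
          · exact absurd e (hno a ha b hb)
      refine le_trans (Nat.card_le_card_of_injective (fun p => (⟨p.1, this p⟩ :
        ({(1, 0), (-1, 0), (0, 1), (0, -1)} : Finset (F × F)))) fun p q e => Subtype.ext (congrArg Subtype.val e :)) ?_
      rw [Nat.card_eq_finsetCard]
      exact Finset.card_le_four
    rcases SL2Centralizer.card_roots (F := F) (t := (0 : F)) (by rw [← htr]; exact htr4) with hr | hr <;>
      rw [hr] at hc <;> omega
  obtain ⟨t, ht0, hst⟩ := hs
  let A : SL2 := ⟨s • (1 : M2) + t • W.1, by
    rw [SL2Centralizer.det_lin, htr]; linear_combination hst⟩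
  have hAW : A.1 * W.1 = W.1 * A.1 := by
    show (s • (1 : M2) + t • W.1) * W.1 = W.1 * (s • 1 + t • W.1)
    simp [Matrix.add_mul, Matrix.mul_add]
  have hHW : H.1 * W.1 = -(W.1 * H.1) := by
    have := congrArg Subtype.val hH
    change H.1 * W.1 = (-W).1 * H.1 at this
    rw [this]; simp
  have hHWm : mk H * mk W = mk W * mk H := by
    rw [← map_mul, ← map_mul]
    exact mk_eq_mk.mpr (Or.inr (show W.1 * H.1 = -(H.1 * W.1) by rw [hHW, neg_neg]))
  have hHA : mk A * mk H ≠ mk H * mk A := by
    intro e
    have hHA' : H.1 * A.1 = (s • (1 : M2) + (-t) • W.1) * H.1 := by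
      show H.1 * (s • (1 : M2) + t • W.1) = _
      simp [Matrix.add_mul, Matrix.mul_add, hHW]
    have hdet : IsUnit H.1 := (Matrix.isUnit_iff_isUnit_det _).mpr (by rw [H.2]; exact isUnit_one)
    rcases comm_or_anti e with e' | e' <;> rw [hHA'] at e'
    · have h1 := hdet.mul_right_cancel e'
      obtain ⟨-, hbb⟩ := SL2Centralizer.lin_injective hns h1
      exact mul_ne_zero h2 ht0 (by linear_combination hbb)
    · rw [← neg_mul] at e'
      have h1 := hdet.mul_right_cancel e'
      rw [neg_add, ← neg_smul, ← neg_smul, neg_neg] at h1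
      obtain ⟨hss, -⟩ := SL2Centralizer.lin_injective hns h1
      exact mul_ne_zero h2 hs0 (by linear_combination hss)
  have hAWm : mk A * mk W = mk W * mk A := by
    rw [← map_mul, ← map_mul]; congr 1; exact Subtype.ext hAW
  refine hHA (hca.comm (x := mk W) (fun hz => ?_) hAWm hHWm)
  have := Subgroup.mem_center_iff.mp hz (PSL2.uu (1 : F))
  rw [PSL2.uu_eq] at this
  rcases comm_or_anti this with e | e
  · have := congrFun (congrFun e 0) 0
    simp [W, coe_uSL, Matrix.mul_apply, Fin.sum_univ_two] at this
  · have := congrFun (congrFun e 0) 1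
    simp [W, coe_uSL, Matrix.mul_apply, Fin.sum_univ_two] at this
    exact h2 (by linear_combination this)

end Projective

end CfsgLib.MinNonCA
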