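import Cfsg.Agent.Lib.MinNonCA.FourLin

/-!
The section of `t`: central characters modulo 2 separate the orbits of linear characters.
-/

set_option autoImplicit false
set_option linter.style.haveILetI false
set_option linter.unusedSectionVars false

namespace CfsgLib.MinNonCA

open Cfsg CfsgLib.CharTheory CfsgLib.KleinCent
open scoped ComplexConjugate

universe u

/-- A class sum acts as an algebraic integer. -/
theorem class_sum_mul {X : Type u} [Group X] [Fintype X] {χ : X → ℂ} (hχ : IsIrrCharacter X χ) (z : X)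
    [DecidablePred fun a => IsConj z a] :
    ∃ ω : ℂ, IsIntegral ℤ ω ∧
      ∀ g : X, ∑ a ∈ Finset.univ.filter (fun a => IsConj z a), χ (a * g) = ω * χ g := by
  obtain ⟨n, ρ, hρ, rfl⟩ := hχ
  refine ⟨_, isIntegral_centralChar ρ z, fun g => ?_⟩
  calc ∑ a ∈ Finset.univ.filter (fun a => IsConj z a), ρ.character (a * g)
      = LinearMap.trace ℂ _ ((∑ a ∈ Finset.univ.filter (fun a => IsConj z a), ρ a) * ρ g) := by
        rw [Finset.sum_mul, map_sum]
        exact Finset.sum_congr rfl fun a _ => by rw [← map_mul]; rfl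
    _ = _ := by
        rw [sum_class_eq, smul_mul_assoc, one_mul, map_smul, smul_eq_mul]
        rfl

/-- Reduction of a sum to the fixed points of an involution. -/
theorem modTwo_sum_fixed {ι : Type*} [Fintype ι] (f : ι → ι) (hf : ∀ i, f (f i) = i) (r : ι → ℂ)
    (hint : ∀ i, IsIntegral ℤ (r i)) (hr : ∀ i, r (f i) = r i) [DecidablePred fun i => f i = i] :
    ModTwo (∑ i, r i) (∑ i ∈ Finset.univ.filter (fun i => f i = i), r i) := by
  classical
  have h := modTwo_sum_involution f hf r hint hr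
  unfold ModTwo at h ⊢
  rw [sub_zero] at h
  rw [← Finset.sum_filter_add_sum_filter_not Finset.univ (fun i => f i = i), add_sub_cancel_left]
  convert h using 4

/-- Cancelling an odd factor. -/
theorem modTwo_of_odd_mul {a b : ℂ} {m : ℤ} (hm : Odd m) (ha : IsIntegral ℤ a) (hb : IsIntegral ℤ b)
    (h : ModTwo ((m : ℂ) * a) ((m : ℂ) * b)) : ModTwo a b := by
  obtain ⟨k, rfl⟩ := hm
  unfold ModTwo at h ⊢
  have e : (a - b) / 2 = (((2 * k + 1 : ℤ) : ℂ) * a - ((2 * k + 1 : ℤ) : ℂ) * b) / 2 - (k : ℂ) * (a - b) := by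
    push_cast; ring
  rw [e]
  exact h.sub ((_root_.isIntegral_intCast k).mul (ha.sub hb))

namespace Four

variable {X : Type u} [Group X] [Fintype X] (D : Four X)

theorem isIntegral_hom {A : Type u} [Group A] [Finite A] (μ : A →* ℂˣ) (a : A) :
    IsIntegral ℤ (μ a : ℂ) :=
  isIntegral_of_char (isCharacter_of_irr (isIrrCharacter_linear μ)) a

/-- The mod 2 value of the central character on the section of `t`. -/
theorem omega_point (χ : IrrCharacter X) (z : D.O0) {ω : ℂ}
    [DecidablePred fun a : X => IsConj (z : X) a] [DecidablePred fun w : D.O0 => IsConj (z : X) (w : X)]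
    (hω : ∀ g : X, ∑ a ∈ Finset.univ.filter (fun a => IsConj (z : X) a), (χ : X → ℂ) (a * g) =
      ω * (χ : X → ℂ) g) (u : D.O0) :
    ModTwo (ω * (χ : X → ℂ) (D.t * u))
      (∑ w ∈ Finset.univ.filter (fun w : D.O0 => IsConj (z : X) (w : X)),
        (χ : X → ℂ) (D.t * ((w * u : D.O0) : X))) := by
  classical
  have hclass := isClassFunction_irr χ.2
  have hint : ∀ g, IsIntegral ℤ ((χ : X → ℂ) g) := isIntegral_of_char (isCharacter_of_irr χ.2)
  set g : X := D.t * u with hg
  have inv : ∀ v : X, v * v = 1 → v * g = g * v → ∀ a : X,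
      (χ : X → ℂ) (v * a * v * g) = (χ : X → ℂ) (a * g) := by
    intro v hv hvg a
    rw [mul_assoc (v * a), hvg, ← hclass (a * g) v, inv_eq_of_mul_eq_one_right hv]
    group
  have hvtg : D.t * g = g * D.t := by
    rw [hg, mul_assoc, D.O0_t u.2, ← mul_assoc]
  have hvsg : D.s * g = g * D.s := by
    rw [hg, ← mul_assoc, D.hcomm, mul_assoc, ← D.O0_s u.2, ← mul_assoc]
  have hcl : ∀ v : X, v * v = 1 → ∀ a : X, IsConj (z : X) (v * a * v) ↔ IsConj (z : X) a := by
    intro v hv a
    have h : IsConj a (v * a * v) := isConj_iff.mpr ⟨v, by rw [inv_eq_of_mul_eq_one_right hv]⟩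
    exact ⟨fun e => e.trans h.symm, fun e => e.trans h⟩
  have hfix : ∀ v : X, v * v = 1 → ∀ a : X, v * a * v = a ↔ a * v = v * a := by
    intro v hv a
    constructor
    · intro e
      calc a * v = v * a * v * v := by rw [e]
        _ = v * a := by rw [mul_assoc, hv, mul_one]
    · intro e
      rw [← e, mul_assoc, hv, mul_one]
  have hinv2 : ∀ v : X, v * v = 1 → ∀ a : X, v * (v * a * v) * v = a := by
    intro v hv a
    calc v * (v * a * v) * v = (v * v) * a * (v * v) := by group
      _ = a := by rw [hv, one_mul, mul_one]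
  let r : X → ℂ := fun a => if IsConj (z : X) a then (χ : X → ℂ) (a * g) else 0
  let r' : X → ℂ := fun a => if IsConj (z : X) a ∧ a * D.t = D.t * a then (χ : X → ℂ) (a * g) else 0
  have h0 : ω * (χ : X → ℂ) g = ∑ a, r a := by
    rw [← hω g, Finset.sum_filter]
  have h1 : ModTwo (∑ a, r a) (∑ a ∈ Finset.univ.filter (fun a => D.t * a * D.t = a), r a) :=
    modTwo_sum_fixed (fun a => D.t * a * D.t) (hinv2 _ D.ht2) r
      (fun a => by simp only [r]; split; exacts [hint _, isIntegral_zero])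
      (fun a => by simp only [r, hcl _ D.ht2, inv _ D.ht2 hvtg])
  have h1' : ∑ a ∈ Finset.univ.filter (fun a => D.t * a * D.t = a), r a = ∑ a, r' a := by
    rw [Finset.sum_filter]
    refine Finset.sum_congr rfl fun a _ => ?_
    simp only [r, r', hfix _ D.ht2]
    split_ifs <;> simp_all
  have hct : ∀ a : X, (D.s * a * D.s) * D.t = D.t * (D.s * a * D.s) ↔ a * D.t = D.t * a := by
    have key : ∀ b : X, b * D.t = D.t * b → (D.s * b * D.s) * D.t = D.t * (D.s * b * D.s) := by
      intro b hb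
      calc (D.s * b * D.s) * D.t = D.s * b * (D.s * D.t) := by group
        _ = D.s * b * (D.t * D.s) := by rw [D.hcomm]
        _ = D.s * (b * D.t) * D.s := by group
        _ = D.s * (D.t * b) * D.s := by rw [hb]
        _ = (D.s * D.t) * b * D.s := by group
        _ = (D.t * D.s) * b * D.s := by rw [D.hcomm]
        _ = _ := by group
    intro a
    refine ⟨fun e => ?_, key a⟩
    have := key _ e
    rwa [hinv2 _ D.hs2] at this
  have h2 : ModTwo (∑ a, r' a) (∑ a ∈ Finset.univ.filter (fun a => D.s * a * D.s = a), r' a) :=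
    modTwo_sum_fixed (fun a => D.s * a * D.s) (hinv2 _ D.hs2) r'
      (fun a => by simp only [r']; split; exacts [hint _, isIntegral_zero])
      (fun a => by simp only [r', hcl _ D.hs2, hct, inv _ D.hs2 hvsg])
  have h2' : ∑ a ∈ Finset.univ.filter (fun a => D.s * a * D.s = a), r' a =
      ∑ w ∈ Finset.univ.filter (fun w : D.O0 => IsConj (z : X) (w : X)),
        (χ : X → ℂ) (D.t * ((w * u : D.O0) : X)) := by
    simp only [r', Finset.sum_filter, hfix _ D.hs2]
    symm
    rw [← Finset.sum_filter, ← Finset.sum_filter]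
    rw [← Finset.sum_filter_of_ne (p := fun a : X => IsConj (z : X) a ∧ a * D.t = D.t * a)
      (fun a _ h => by by_contra hc; exact h (if_neg hc))]
    refine Finset.sum_bij (fun w _ => (w : X)) ?_ ?_ ?_ ?_
    · intro w hw
      simp only [Finset.mem_filter, Finset.mem_univ, true_and] at hw ⊢
      exact ⟨D.O0_s w.2, hw, D.O0_t w.2⟩
    · intro a _ b _ h
      exact Subtype.ext h
    · intro a ha
      simp only [Finset.mem_filter, Finset.mem_univ, true_and] at ha
      refine ⟨⟨a, D.mem_O0_of_odd (Or.inl ?_) ha.2.2 ha.1⟩, by simpa using ha.2.1, rfl⟩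
      obtain ⟨c, hc⟩ := isConj_iff.mp ha.2.1
      rw [← hc, conj_pow, D.pow_O (D.O0_le z.2), mul_one, mul_inv_cancel]
    · intro w hw
      simp only [Finset.mem_filter, Finset.mem_univ, true_and] at hw
      rw [if_pos ⟨hw, D.O0_t w.2⟩, hg, Subgroup.coe_mul, ← mul_assoc, ← mul_assoc, D.O0_t w.2]
  rw [h0]
  exact h1.trans (h1' ▸ (h2.trans (h2' ▸ ModTwo.refl _)))

theorem Q_integral (χ : IrrCharacter X) (v : X) (μ : D.O0 →* ℂˣ) :
    IsIntegral ℤ (D.Q (χ : X → ℂ) v μ) :=
  IsIntegral.sum _ fun w _ => (isIntegral_of_char (isCharacter_of_irr χ.2) _).mul (by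
    rw [conj_hom]; exact isIntegral_hom μ _)

/-- If the coefficient at `μ` is odd, the central character at `z` is the orbit sum modulo 2. -/
theorem omega_lam (χ : IrrCharacter X) (z : D.O0) {ω : ℂ} (hωi : IsIntegral ℤ ω)
    [DecidablePred fun a : X => IsConj (z : X) a] [DecidablePred fun w : D.O0 => IsConj (z : X) (w : X)]
    (hω : ∀ g : X, ∑ a ∈ Finset.univ.filter (fun a => IsConj (z : X) a), (χ : X → ℂ) (a * g) =
      ω * (χ : X → ℂ) g) {μ : D.O0 →* ℂˣ} (hodd : Odd (D.c χ (D.lam μ))) :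
    ModTwo ω (∑ w ∈ Finset.univ.filter (fun w : D.O0 => IsConj (z : X) (w : X)), (μ w : ℂ)) := by
  classical
  set C := Finset.univ.filter (fun w : D.O0 => IsConj (z : X) (w : X))
  set S := ∑ w ∈ C, (μ w : ℂ)
  have hS : IsIntegral ℤ S := IsIntegral.sum _ fun w _ => isIntegral_hom μ w
  have h1 : ModTwo (ω * D.Q (χ : X → ℂ) D.t μ) (S * D.Q (χ : X → ℂ) D.t μ) := by
    have e : S * D.Q (χ : X → ℂ) D.t μ =
        ∑ u : D.O0, conj (μ u : ℂ) * ∑ w ∈ C, (χ : X → ℂ) (D.t * ((w * u : D.O0) : X)) := by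
      simp only [Finset.mul_sum]
      rw [Finset.sum_comm, Finset.sum_mul]
      refine Finset.sum_congr rfl fun w _ => ?_
      unfold Four.Q
      rw [Finset.mul_sum]
      refine (Fintype.sum_equiv (Equiv.mulLeft w) _ _ fun u => ?_).symm
      simp only [Equiv.coe_mulLeft, conj_hom, map_mul, map_inv, Units.val_mul]
      have hne : (μ w : ℂ) ≠ 0 := Units.ne_zero _
      simp only [Units.val_inv_eq_inv_val]
      field_simp
    rw [e]
    unfold Four.Q
    rw [Finset.mul_sum]
    refine ModTwo.sum _ _ _ fun u _ => ?_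
    rw [← mul_assoc, mul_comm _ (conj _)]
    exact ModTwo.mul_left _ (by rw [conj_hom]; exact isIntegral_hom μ _) (D.omega_point χ z hω u)
  have hp := D.Q_parity χ μ
  have h2 := ((ModTwo.mul_left ω hωi hp).symm.trans h1).trans (ModTwo.mul_left S hS hp)
  rw [show (Nat.card D.O0 : ℂ) * (D.c χ (D.lam μ) : ℂ) = ((((Nat.card D.O0 : ℕ) : ℤ) * D.c χ (D.lam μ) : ℤ) : ℂ) by
    push_cast; ring, mul_comm ω, mul_comm S] at h2
  exact modTwo_of_odd_mul (Odd.mul (by exact_mod_cast D.odd_O0) hodd) hωi hS h2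

theorem cY_fixed_of_two {w : D.O0} (h : D.cY (D.cY w) = w) : D.cY w = w := by
  have := D.cY_three w
  rwa [h] at this

/-- The conjugates of `z` in `O₀`. -/
theorem orbit_eq (z : D.O0) [DecidableEq D.O0] [DecidablePred fun w : D.O0 => IsConj (z : X) (w : X)] :
    Finset.univ.filter (fun w : D.O0 => IsConj (z : X) (w : X)) = {z, D.cY z, D.cY (D.cY z)} := by
  classical
  ext w
  simp only [Finset.mem_filter, Finset.mem_univ, true_and, Finset.mem_insert, Finset.mem_singleton]
  constructor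
  · intro h
    obtain ⟨j, hj, e⟩ := D.fusion z.2 w.2 h
    interval_cases j
    · left; exact Subtype.ext (by rw [e, pow_zero]; group)
    · right; left; exact Subtype.ext (by rw [e, pow_one]; rfl)
    · right; right
      refine Subtype.ext ?_
      rw [e]
      show _ = D.y * (D.y * (z : X) * D.y⁻¹) * D.y⁻¹
      rw [pow_two]; group
  · rintro (rfl | rfl | rfl)
    · exact IsConj.refl _
    · exact isConj_iff.mpr ⟨D.y, rfl⟩
    · refine isConj_iff.mpr ⟨D.y * D.y, ?_⟩
      show _ = D.y * (D.y * (z : X) * D.y⁻¹) * D.y⁻¹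
      group

/-- The sum over the orbit of length three or one. -/
theorem orbit_sum (z : D.O0) (μ : D.O0 →* ℂˣ) [DecidablePred fun w : D.O0 => IsConj (z : X) (w : X)] :
    ModTwo ((μ z : ℂ) + (μ (D.cY z) : ℂ) + (μ (D.cY (D.cY z)) : ℂ))
      (∑ w ∈ Finset.univ.filter (fun w : D.O0 => IsConj (z : X) (w : X)), (μ w : ℂ)) := by
  classical
  rw [D.orbit_eq z]
  by_cases h : D.cY z = z
  · rw [h, h]
    have e : ({z, z, z} : Finset D.O0) = {z} := by simp
    rw [e, Finset.sum_singleton]
    unfold ModTwo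
    rw [show ((μ z : ℂ) + μ z + μ z - μ z) / 2 = μ z by ring]
    exact isIntegral_hom μ z
  · have h01 : z ≠ D.cY z := fun e => h e.symm
    have h02 : z ≠ D.cY (D.cY z) := fun e => h (D.cY_fixed_of_two e.symm)
    have h12 : D.cY z ≠ D.cY (D.cY z) := fun e => by
      have h3 := D.cY_three z
      rw [← e] at h3
      exact h02 h3.symm
    rw [Finset.sum_insert (by simp [h01, h02]), Finset.sum_pair h12]
    rw [add_assoc]
    exact ModTwo.refl _

/-- The orbit of a linear character. -/
noncomputable def orb (μ : D.O0 →* ℂˣ) : Fin 3 → (D.O0 →* ℂˣ) :=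
  ![μ, μ.comp D.cY, (μ.comp D.cY).comp D.cY]

/-- Two linear characters odd in the same irreducible character are in one orbit. -/
theorem same_orbit (χ : IrrCharacter X) {μ ν : D.O0 →* ℂˣ} (hμ : Odd (D.c χ (D.lam μ)))
    (hν : Odd (D.c χ (D.lam ν))) : ∃ j, D.orb μ j = ν := by
  classical
  by_contra hno
  push Not at hno
  have hpt : ∀ z : D.O0, ModTwo ((μ z : ℂ) + (μ (D.cY z) : ℂ) + (μ (D.cY (D.cY z)) : ℂ))
      ((ν z : ℂ) + (ν (D.cY z) : ℂ) + (ν (D.cY (D.cY z)) : ℂ)) := by
    intro z
    obtain ⟨ω, hωi, hω⟩ := class_sum_mul χ.2 (z : X)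
    exact ((D.orbit_sum z μ).trans (D.omega_lam χ z hωi hω hμ).symm).trans
      ((D.omega_lam χ z hωi hω hν).trans (D.orbit_sum z ν).symm)
  have hsum : ∀ lam : D.O0 →* ℂˣ,
      ∑ z : D.O0, conj (ν z : ℂ) * ((lam z : ℂ) + (lam (D.cY z) : ℂ) + (lam (D.cY (D.cY z)) : ℂ)) =
        (Nat.card D.O0 : ℂ) * (((Finset.univ.filter fun j => D.orb lam j = ν).card : ℕ) : ℂ) := by
    intro lam
    have e : ∀ z : D.O0, conj (ν z : ℂ) * ((lam z : ℂ) + (lam (D.cY z) : ℂ) + (lam (D.cY (D.cY z)) : ℂ)) =
        ∑ j : Fin 3, (D.orb lam j z : ℂ) * conj (ν z : ℂ) := by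
      intro z
      rw [Fin.sum_univ_three]
      simp [Four.orb]
      ring
    rw [Finset.sum_congr rfl fun z _ => e z, Finset.sum_comm,
      Finset.sum_congr rfl fun j _ => orth_hom (D.orb lam j) ν, Finset.sum_ite, Finset.sum_const_zero,
      add_zero, Finset.sum_const, nsmul_eq_mul, mul_comm]
  have h := ModTwo.sum Finset.univ _ _ fun z _ =>
    ModTwo.mul_left (conj (ν z : ℂ)) (by rw [conj_hom]; exact isIntegral_hom ν _) (hpt z)
  rw [hsum μ, hsum ν, Finset.filter_eq_empty_iff.mpr (fun j _ => hno j), Finset.card_empty] at h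
  set m := (Finset.univ.filter fun j => D.orb ν j = ν).card with hm
  rw [show (Nat.card D.O0 : ℂ) * ((0 : ℕ) : ℂ) = ((0 : ℤ) : ℂ) by simp,
    show (Nat.card D.O0 : ℂ) * (m : ℂ) = ((((Nat.card D.O0 : ℕ) : ℤ) * m : ℤ) : ℂ) by push_cast; ring,
    modTwo_int] at h
  have hmodd : Odd m := by
    by_cases hfixν : ν.comp D.cY = ν
    · have : m = 3 := by
        rw [hm, Finset.filter_true_of_mem fun j _ => ?_]
        · rfl
        · fin_cases j <;> simp [Four.orb, hfixν]
      rw [this]; decide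
    · have h2 : (ν.comp D.cY).comp D.cY ≠ ν := by
        intro e
        apply hfixν
        refine MonoidHom.ext fun w => ?_
        have h' := DFunLike.congr_fun e (D.cY (D.cY w))
        simp only [MonoidHom.comp_apply, D.cY_three] at h'
        have h'' := DFunLike.congr_fun e w
        simp only [MonoidHom.comp_apply] at h'' ⊢
        rw [h', h'']
      have : Finset.univ.filter (fun j => D.orb ν j = ν) = {0} := by
        ext j
        rw [Finset.mem_filter, Finset.mem_singleton]
        fin_cases j <;> simp [Four.orb, hfixν, h2]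
      rw [hm, this]; decide
  have := (Odd.mul (a := ((Nat.card D.O0 : ℕ) : ℤ)) (by exact_mod_cast D.odd_O0) (hmodd.natCast (R := ℤ)))
  rw [Int.odd_iff] at this
  omega

end Four

end CfsgLib.MinNonCA
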