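import Cfsg.Agent.Lib.MinNonCA.AbelianKernel
import Cfsg.Agent.S2202

/-!
Perfect groups with all proper subgroups CA and abelian Sylow 2-subgroups.
-/

set_option autoImplicit false
set_option linter.style.haveILetI false
set_option linter.unusedSectionVars false

namespace CfsgLib.MinNonCA

open Subgroup

universe u

variable {L : Type u} [Group L] [Finite L]

theorem card_PSL_two {F : Type} [Field F] [Fintype F] (hodd : Odd (Fintype.card F)) :
    2 * Nat.card (Matrix.ProjectiveSpecialLinearGroup (Fin 2) F) = Fintype.card F * (Fintype.card F ^ 2 - 1) := by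
  have h := CfsgLib.SLCard.gcd_mul_card_PSL (F := F) (n := 2) (by norm_num)
  have hq := Fintype.one_lt_card (α := F)
  obtain ⟨j, hj⟩ := hodd
  rw [Nat.gcd_eq_left (show 2 ∣ Fintype.card F - 1 from ⟨j, by omega⟩), CfsgLib.SLCard.card_SL_two] at h
  exact h

theorem sixteen_dvd_of_not {F : Type} [Field F] [Fintype F] (hodd : Odd (Fintype.card F))
    (h16 : 16 ∣ Fintype.card F ^ 2 - 1) : 8 ∣ Nat.card (Matrix.ProjectiveSpecialLinearGroup (Fin 2) F) := by
  have h1 := card_PSL_two hodd
  obtain ⟨c, hc⟩ := h16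
  rw [hc] at h1
  exact ⟨Fintype.card F * c, by rw [← mul_assoc] ; linarith⟩

theorem Quasi.five_le (q : Quasi L) {F : Type} [Field F] [Fintype F] (hodd : Odd (Fintype.card F))
    (e : (L ⧸ Subgroup.center L) ≃* Matrix.ProjectiveSpecialLinearGroup (Fin 2) F) : 5 ≤ Fintype.card F := by
  by_contra hlt
  push Not at hlt
  obtain ⟨j, hj⟩ := hodd
  have hq := Fintype.one_lt_card (α := F)
  have h3 : Fintype.card F = 3 := by omega
  have h1 := card_PSL_two (F := F) ⟨j, hj⟩
  rw [h3] at h1
  have hc : Nat.card (L ⧸ Subgroup.center L) = 2 ^ 2 * 3 ^ 1 := by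
    rw [Nat.card_congr e.toEquiv]; norm_num at h1 ⊢; omega
  haveI := q.simple
  exact q.not_comm_quotient (IsSimpleGroup.comm_iff_isSolvable.mpr
    (CfsgLib.CharTheory.isSolvable_of_card_two_primes Nat.prime_two Nat.prime_three hc))

/-- The centre of a perfect extension of `PSL(2,q)`. -/
theorem Quasi.center_dvd_two (q : Quasi L) {F : Type} [Field F] [Fintype F] (h5 : 5 ≤ Fintype.card F)
    (h9 : Fintype.card F ≠ 9)
    (e : (L ⧸ Subgroup.center L) ≃* Matrix.ProjectiveSpecialLinearGroup (Fin 2) F) :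
    Nat.card (Subgroup.center L) ∣ Nat.gcd 2 (Fintype.card F - 1) := by
  haveI : Group.IsPerfect L := ⟨q.perfect⟩
  have hA := Cfsg.Agent.S2086.result (F := F) (q := Fintype.card F) rfl 2 le_rfl (fun _ => by omega) (by
    simp only [Set.mem_insert_iff, Set.mem_singleton_iff, Prod.mk.injEq]
    omega)
  set σ : L →* Matrix.ProjectiveSpecialLinearGroup (Fin 2) F := e.toMonoidHom.comp (QuotientGroup.mk' _)
  have hker : σ.ker = Subgroup.center L := by
    ext x
    rw [MonoidHom.mem_ker]
    show e (QuotientGroup.mk' _ x) = 1 ↔ _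
    rw [MulEquiv.map_eq_one_iff]
    exact QuotientGroup.eq_one_iff x
  have h := CfsgLib.CpQuot.ker_card_dvd hA σ (e.surjective.comp (QuotientGroup.mk'_surjective _)) hker.le
  rwa [hker, Nat.card_congr (Multiplicative.toAdd), Nat.card_zmod] at h

/-- The outcome for abelian Sylow 2-subgroups. -/
theorem Quasi.abelian_cases (q : Quasi L) (S : Sylow 2 L)
    (hS : ∀ x ∈ (S : Subgroup L), ∀ y ∈ (S : Subgroup L), x * y = y * x) :
    (∃ (F : Type) (_ : Field F) (_ : Fintype F), CharP F 2 ∧ 4 ≤ Fintype.card F ∧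
      Nonempty (L ≃* Matrix.SpecialLinearGroup (Fin 2) F)) ∨
    ((∃ (F : Type) (_ : Field F) (_ : Fintype F), Odd (Fintype.card F) ∧ 5 ≤ Fintype.card F ∧
      ¬ 16 ∣ Fintype.card F ^ 2 - 1 ∧ Nonempty (L ≃* Matrix.ProjectiveSpecialLinearGroup (Fin 2) F)) ∧
      ¬ IsCA L) := by
  classical
  haveI : Fact (Nat.Prime 2) := ⟨Nat.prime_two⟩
  have hdvd := q.two_dvd_card
  by_cases hall : ∀ t : L, orderOf t = 2 → IsMulCommutative ↥(Subgroup.centralizer ({t} : Set L))
  · left
    rcases Cfsg.Agent.S2202.result (even_iff_two_dvd.mpr hdvd) hall with hcyc | hnorm |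
      ⟨F, iF, iF', A, iA, iA', hchar, -, ⟨e⟩⟩
    · exfalso
      haveI := hcyc S
      obtain ⟨s, hs⟩ := exists_prime_orderOf_dvd_card' (G := (S : Subgroup L)) 2 (S.dvd_card_of_dvd_card hdvd)
      rw [← Subgroup.orderOf_coe] at hs
      obtain ⟨hs2, hs1⟩ := CfsgLib.Involutions.orderOf_eq_two_iff'.mp hs
      obtain ⟨n, hn, hns⟩ := q.exists_moved S hS s.2 hs2 hs1
      exact hns (mul_inv_eq_iff_eq_mul.mp (CfsgLib.BSW.unique_involution_of_cyclic (S : Subgroup L)
        ((Subgroup.mem_normalizer_iff.mp hn _).mp s.2) s.2 (by rw [CfsgLib.Involutions.orderOf_conj, hs]) hs))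
    · exfalso
      obtain ⟨s, hs⟩ := exists_prime_orderOf_dvd_card' (G := (S : Subgroup L)) 2 (S.dvd_card_of_dvd_card hdvd)
      have hle := q.hyp.solvable_normal_le_center _ (hnorm S) (isSolvable_of_isPGroup S.2)
      have h1 := q.eq_one_of_mem_center S hS s.2 (hle s.2)
      rw [← Subgroup.orderOf_coe, h1, orderOf_one] at hs
      norm_num at hs
    · haveI := iA'
      have hA1 : ∀ a : A, a = 1 := by
        intro a
        have hmem : e.symm (1, a) ∈ commutator L := by rw [q.perfect]; exact Subgroup.mem_top _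
        have h2 := Abelianization.commutator_subset_ker
          ((MonoidHom.snd (Matrix.SpecialLinearGroup (Fin 2) F) A).comp e.toMonoidHom) hmem
        have h3 : (e (e.symm (1, a))).2 = 1 := MonoidHom.mem_ker.mp h2
        rwa [e.apply_symm_apply] at h3
      haveI : Subsingleton A := ⟨fun a b => (hA1 a).trans (hA1 b).symm⟩
      letI : Unique A := uniqueOfSubsingleton 1
      let e' : L ≃* Matrix.SpecialLinearGroup (Fin 2) F :=
        { e.toEquiv.trans ((Equiv.prodUnique _ _ : Matrix.SpecialLinearGroup (Fin 2) F × A ≃ _)) with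
          map_mul' := fun x y => by
            show (e (x * y)).1 = (e x).1 * (e y).1
            rw [map_mul, Prod.fst_mul] }
      refine ⟨F, iF, iF', hchar, ?_, ⟨e'⟩⟩
      by_contra hlt
      push Not at hlt
      obtain ⟨k, -, hk⟩ := FiniteField.card F 2
      have hk1 : (k : ℕ) = 1 := by
        have hkpos := k.pos
        by_contra hne
        have : 2 ^ 2 ≤ 2 ^ (k : ℕ) := Nat.pow_le_pow_right two_pos (by omega)
        omega
      apply q.hyp.nonsolv
      have hc := CfsgLib.SLCard.card_SL_two (F := F)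
      rw [hk, hk1] at hc
      refine CfsgLib.CharTheory.isSolvable_of_card_two_primes (a := 1) (b := 1) Nat.prime_two Nat.prime_three ?_
      rw [Nat.card_congr e'.toEquiv, hc]
      norm_num
  · right
    push Not at hall
    obtain ⟨t₀, ht₀, hna⟩ := hall
    -- move the involution into `S`
    obtain ⟨T, hT⟩ := (IsPGroup.of_card (p := 2) (n := 1) (G := Subgroup.zpowers t₀)
      (by rw [Nat.card_zpowers, ht₀, pow_one])).exists_le_sylow
    obtain ⟨g, hg⟩ := MulAction.exists_smul_eq L T S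
    obtain ⟨h2, h1⟩ := CfsgLib.Involutions.orderOf_eq_two_iff'.mp ht₀
    have hmem : g * t₀ * g⁻¹ ∈ (S : Subgroup L) := by
      rw [← hg, CfsgLib.TransferApps.mem_smul_iff, show g⁻¹ * (g * t₀ * g⁻¹) * g = t₀ by group]
      exact hT (Subgroup.mem_zpowers t₀)
    have hab : ∃ a b : L, a * t₀ = t₀ * a ∧ b * t₀ = t₀ * b ∧ a * b ≠ b * a := by
      by_contra hc
      push Not at hc
      exact hna ⟨⟨fun a b => Subtype.ext (hc a b (Subgroup.mem_centralizer_singleton_iff.mp a.2)
        (Subgroup.mem_centralizer_singleton_iff.mp b.2))⟩⟩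
    obtain ⟨a, b, ha, hb, hne⟩ := hab
    let D : AbData L :=
      { q := q, S := S, hS := hS, t := g * t₀ * g⁻¹, ht := hmem
        ht2 := by rw [show g * t₀ * g⁻¹ * (g * t₀ * g⁻¹) = g * (t₀ * t₀) * g⁻¹ by group, h2]; group
        ht1 := fun e => h1 (conj_eq_one_iff.mp e)
        hna := ⟨g * a * g⁻¹, g * b * g⁻¹,
          by rw [show g * a * g⁻¹ * (g * t₀ * g⁻¹) = g * (a * t₀) * g⁻¹ by group, ha]; group,
          by rw [show g * b * g⁻¹ * (g * t₀ * g⁻¹) = g * (b * t₀) * g⁻¹ by group, hb]; group,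
          fun e => hne (by
            rw [show g * a * g⁻¹ * (g * b * g⁻¹) = g * (a * b) * g⁻¹ by group,
              show g * b * g⁻¹ * (g * a * g⁻¹) = g * (b * a) * g⁻¹ by group] at e
            exact mul_left_cancel (mul_right_cancel e))⟩ }
    obtain ⟨E, hE⟩ := D.exists_abFour
    obtain ⟨F, iF, iF', hodd, ⟨e⟩⟩ := E.psl2_of_fixed_le_center E.fixed_le_center
    have h5 := q.five_le hodd e
    have h16 : ¬ 16 ∣ Fintype.card F ^ 2 - 1 := fun h =>
      E.not_eight_quot ((sixteen_dvd_of_not hodd h).trans (dvd_of_eq (Nat.card_congr e.toEquiv).symm))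
    have hbot : Subgroup.center L = ⊥ := by
      have h := q.center_dvd_two h5 (fun e9 => h16 (by rw [e9]; norm_num)) e
      have hz := E.odd_center
      refine Subgroup.card_eq_one.mp ?_
      have hd : Nat.card (Subgroup.center L) ∣ 2 := h.trans (Nat.gcd_dvd_left 2 _)
      rcases (Nat.dvd_prime Nat.prime_two).mp hd with h1 | h1
      · exact h1
      · rw [h1] at hz; exact absurd hz (by decide)
    refine ⟨⟨F, iF, iF', hodd, h5, h16, ⟨?_⟩⟩, fun hca => ?_⟩
    · exact (QuotientGroup.quotientBot.symm.trans (QuotientGroup.quotientMulEquivOfEq hbot.symm)).trans e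
    · obtain ⟨a', b', ha', hb', hne'⟩ := D.hna
      exact hne' (hca.comm D.t_notMem ha' hb')

end CfsgLib.MinNonCA
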