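import Cfsg.Agent.Lib.MinNonCA.AbelianSylow
import Cfsg.Agent.Lib.BSW.Dihedral
import Cfsg.Agent.Lib.CpQuot.Basic
import Cfsg.Agent.Lib.SLCard
import Cfsg.Agent.S2086
import Mathlib.GroupTheory.FixedPointFree

/-!
Abelian Sylow 2-subgroups: the layout of the involution centraliser, and the Brauer–Suzuki–Wall case.
-/

set_option autoImplicit false
set_option linter.style.haveILetI false
set_option linter.unusedSectionVars false

namespace CfsgLib.MinNonCA

open Subgroup

universe u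

variable {L : Type u} [Group L] [Finite L]

theorem eq_one_of_odd_pow {v : L} {m : ℕ} (hm : Odd m) (h2 : v * v = 1) (h : v ^ m = 1) : v = 1 := by
  obtain ⟨j, rfl⟩ := hm
  rwa [pow_succ, pow_mul, pow_two, h2, one_pow, one_mul] at h

theorem exists_root {u : L} {O : Subgroup L} (hO : Odd (Nat.card O)) (hu : u ∈ O) :
    ∃ m : ℕ, (u ^ m) * (u ^ m) = u := by
  obtain ⟨j, hj⟩ := hO
  refine ⟨j + 1, ?_⟩
  rw [← pow_add, show j + 1 + (j + 1) = Nat.card O + 1 by omega, pow_succ]
  have := congrArg Subtype.val (pow_card_eq_one' (G := O) (x := ⟨u, hu⟩))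
  rw [Subgroup.coe_pow, OneMemClass.coe_one] at this
  rw [this, one_mul]

theorem eq_one_of_self_inv {u : L} {O : Subgroup L} (hO : Odd (Nat.card O)) (hu : u ∈ O) (h : u * u = 1) : u = 1 := by
  have := congrArg Subtype.val (pow_card_eq_one' (G := O) (x := ⟨u, hu⟩))
  rw [Subgroup.coe_pow, OneMemClass.coe_one] at this
  exact eq_one_of_odd_pow hO h this

/-- The layout of the centraliser of the involution. -/
structure AbFour (L : Type u) [Group L] extends AbData L where
  n : L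
  s : L
  O : Subgroup L
  hs : s ∈ (S : Subgroup L)
  hs2 : s * s = 1
  hs1 : s ≠ 1
  hst : s ≠ t
  hnt : n * t * n⁻¹ = s
  hns : n * s * n⁻¹ = t * s
  hsc : ∃ c : L, c * t = t * c ∧ c * s ≠ s * c
  hSmem : ∀ x ∈ (S : Subgroup L), x = 1 ∨ x = t ∨ x = s ∨ x = t * s
  hOt : ∀ u ∈ O, u * t = t * u
  hOodd : Odd (Nat.card O)
  hOn : ∀ c : L, c * t = t * c → ∀ u ∈ O, c * u * c⁻¹ ∈ O
  hC : ∀ c : L, c * t = t * c → ∃ v ∈ (S : Subgroup L), ∃ u ∈ O, c = v * u

theorem AbData.exists_abFour (D : AbData L) : ∃ E : AbFour L, E.toAbData = D := by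
  obtain ⟨n, -, s, hs, hs2, hs1, hst, hnt, hns, hsc, hall⟩ := D.exists_four_data
  obtain ⟨O, hOC, hOodd, hOn, hfac⟩ := D.exists_core
  push Not at hsc
  obtain ⟨c, hc, hcs⟩ := hsc
  exact ⟨{ D with
    n := n, s := s, O := O, hs := hs, hs2 := hs2, hs1 := hs1, hst := hst, hnt := hnt, hns := hns
    hsc := ⟨c, D.mem_C.mp hc, hcs⟩
    hSmem := hall
    hOt := fun u hu => D.mem_C.mp (hOC hu)
    hOodd := hOodd
    hOn := fun c hc => hOn c (D.mem_C.mpr hc)
    hC := fun c hc => hfac c (D.mem_C.mpr hc) }, rfl⟩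

namespace AbFour

variable (D : AbFour L)

/-- The map to the simple quotient. -/
abbrev π : L →* L ⧸ Subgroup.center L := QuotientGroup.mk' (Subgroup.center L)

theorem π_eq_one {x : L} : π x = 1 ↔ x ∈ Subgroup.center L := QuotientGroup.eq_one_iff x

theorem π_eq {x y : L} (h : π x = π y) : ∃ z ∈ Subgroup.center L, x = y * z := by
  refine ⟨y⁻¹ * x, ?_, by group⟩
  rw [← π_eq_one, map_mul, map_inv, h, inv_mul_cancel]

include D in
theorem odd_center : Odd (Nat.card (Subgroup.center L)) := D.q.odd_center D.S D.hS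

include D in
theorem sq_center {z : L} (hz : z ∈ Subgroup.center L) (h : z * z = 1) : z = 1 := eq_one_of_self_inv D.odd_center hz h

include D in
/-- Commuting with an involution lifts from the quotient. -/
theorem lift_comm {g v : L} (hv : v * v = 1) (h : π g * π v = π v * π g) : g * v = v * g := by
  rw [← map_mul, ← map_mul] at h
  obtain ⟨z, hz, e⟩ := π_eq h
  have hzc := Subgroup.mem_center_iff.mp hz
  have e1 : g * v * g⁻¹ = v * z := by rw [e, mul_assoc v g z, hzc g]; group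
  have e2 : v * z * (v * z) = 1 := by
    rw [← e1, show g * v * g⁻¹ * (g * v * g⁻¹) = g * (v * v) * g⁻¹ by group, hv]; group
  rw [show v * z * (v * z) = v * (z * v) * z by group, ← hzc v, show v * (v * z) * z = v * v * (z * z) by group,
    hv, one_mul] at e2
  rw [D.sq_center hz e2, mul_one] at e1
  exact mul_inv_eq_iff_eq_mul.mp e1

theorem t_comm_s : D.t * D.s = D.s * D.t := D.hS _ D.ht _ D.hs

theorem ts_sq : D.t * D.s * (D.t * D.s) = 1 := by
  rw [show D.t * D.s * (D.t * D.s) = D.t * (D.s * D.t) * D.s by group, ← D.t_comm_s,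
    show D.t * (D.t * D.s) * D.s = (D.t * D.t) * (D.s * D.s) by group, D.ht2, D.hs2, one_mul]

theorem ts_ne : D.t * D.s ≠ 1 := fun e => D.hst (by
  rw [eq_inv_of_mul_eq_one_right e, inv_eq_of_mul_eq_one_right D.ht2])

theorem S_sq {v : L} (hv : v ∈ (D.S : Subgroup L)) : v * v = 1 := by
  rcases D.hSmem v hv with rfl | rfl | rfl | rfl
  exacts [one_mul 1, D.ht2, D.hs2, D.ts_sq]

theorem S_t {v : L} (hv : v ∈ (D.S : Subgroup L)) : v * D.t = D.t * v := D.hS v hv D.t D.ht

theorem S_inter {v : L} (hv : v ∈ (D.S : Subgroup L)) (hu : v ∈ D.O) : v = 1 :=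
  eq_one_of_self_inv D.hOodd hu (D.S_sq hv)

theorem center_le : Subgroup.center L ≤ D.O := by
  intro z hz
  obtain ⟨v, hv, u, hu, e⟩ := D.hC z (Subgroup.mem_center_iff.mp hz D.t).symm
  have hv' : v = z * u⁻¹ := eq_mul_inv_of_mul_eq e.symm
  have hm : v ^ (Nat.card (Subgroup.center L) * Nat.card D.O) = 1 := by
    rw [hv', (show Commute z u⁻¹ from (Subgroup.mem_center_iff.mp hz u⁻¹).symm).mul_pow, pow_mul, mul_comm, pow_mul]
    have h1 := congrArg Subtype.val (pow_card_eq_one' (G := Subgroup.center L) (x := ⟨z, hz⟩))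
    have h2 := congrArg Subtype.val (pow_card_eq_one' (G := D.O) (x := ⟨u, hu⟩))
    rw [Subgroup.coe_pow, OneMemClass.coe_one] at h1 h2
    rw [h1, inv_pow, h2]
    simp
  rw [eq_one_of_odd_pow (D.odd_center.mul D.hOodd) (D.S_sq hv) hm, one_mul] at e
  exact e ▸ hu

theorem mem_O_of_π {x : L} (h : π x ∈ D.O.map π) : x ∈ D.O := by
  obtain ⟨u, hu, e⟩ := h
  obtain ⟨z, hz, rfl⟩ := π_eq e.symm
  exact mul_mem hu (D.center_le hz)

theorem v_norm {v u : L} (hv : v ∈ (D.S : Subgroup L)) (hu : u ∈ D.O) : v * u * v ∈ D.O := by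
  have := D.hOn v (D.S_t hv) u hu
  rwa [inv_eq_of_mul_eq_one_right (D.S_sq hv)] at this

theorem s_norm {u : L} (hu : u ∈ D.O) : D.s * u * D.s ∈ D.O := D.v_norm D.hs hu

/-- Two elements of `C` commuting with `s` commute. -/
theorem comm_of_s {a b : L} (ha : a * D.t = D.t * a) (hb : b * D.t = D.t * b) (has : a * D.s = D.s * a)
    (hbs : b * D.s = D.s * b) : a * b = b * a := by
  obtain ⟨c, hct, hcs⟩ := D.hsc
  exact D.q.hyp.comm D.toAbData.C_ne_top (D.toAbData.mem_C.mpr (D.S_t D.hs)) (D.toAbData.mem_C.mpr ha)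
    (D.toAbData.mem_C.mpr hb) (D.toAbData.mem_C.mpr hct) has hbs hcs

/-- The fixed points of `s` in `O`. -/
def O0 : Subgroup L := D.O ⊓ Subgroup.centralizer ({D.s} : Set L)

theorem mem_O0 {u : L} : u ∈ D.O0 ↔ u ∈ D.O ∧ u * D.s = D.s * u := by
  rw [O0, Subgroup.mem_inf, Subgroup.mem_centralizer_singleton_iff]

theorem center_le_O0 : Subgroup.center L ≤ D.O0 := fun _ hz =>
  D.mem_O0.mpr ⟨D.center_le hz, (Subgroup.mem_center_iff.mp hz D.s).symm⟩

/-- An involution of `C` is conjugate in `O` into `S`. -/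
theorem invol_conj {x : L} (hx : x * D.t = D.t * x) (hx2 : x * x = 1) :
    ∃ v ∈ (D.S : Subgroup L), ∃ r ∈ D.O, r * x * r⁻¹ = v := by
  obtain ⟨v, hv, u, hu, rfl⟩ := D.hC x hx
  obtain ⟨m, hm⟩ := exists_root D.hOodd hu
  refine ⟨v, hv, u ^ m, pow_mem hu m, ?_⟩
  have hinv : v⁻¹ = v := inv_eq_of_mul_eq_one_right (D.S_sq hv)
  have h1 : v * u * v⁻¹ = u⁻¹ := by
    rw [hinv]
    exact eq_inv_of_mul_eq_one_left (by rw [show v * u * v * u = v * u * (v * u) by group, hx2])
  have h2 : v * u ^ m * v⁻¹ = (u ^ m)⁻¹ := by rw [← conj_pow, h1, inv_pow]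
  calc u ^ m * (v * u) * (u ^ m)⁻¹ = u ^ m * (v * (u ^ m * u ^ m)) * (u ^ m)⁻¹ := by rw [hm]
    _ = u ^ m * (v * u ^ m * v⁻¹) * v := by group
    _ = v := by rw [h2, mul_inv_cancel, one_mul]

theorem conj_t {v : L} (hv : v ∈ (D.S : Subgroup L)) (hv1 : v ≠ 1) : IsConj D.t v := by
  rcases D.hSmem v hv with rfl | rfl | rfl | rfl
  · exact absurd rfl hv1
  · exact IsConj.refl _
  · exact isConj_iff.mpr ⟨D.n, D.hnt⟩
  · exact (isConj_iff.mpr ⟨D.n, D.hnt⟩).trans (isConj_iff.mpr ⟨D.n, D.hns⟩)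

/-- All involutions are conjugate. -/
theorem conj_all {x : L} (hx2 : x * x = 1) (hx1 : x ≠ 1) : IsConj D.t x := by
  haveI : Fact (Nat.Prime 2) := ⟨Nat.prime_two⟩
  have hxo : orderOf x = 2 := orderOf_eq_prime (by rw [pow_two, hx2]) hx1
  have hp : IsPGroup 2 (Subgroup.zpowers x) := IsPGroup.of_card (n := 1) (by rw [Nat.card_zpowers, hxo, pow_one])
  obtain ⟨T, hT⟩ := hp.exists_le_sylow
  obtain ⟨g, hg⟩ := MulAction.exists_smul_eq L T D.S
  have hmem : g * x * g⁻¹ ∈ (D.S : Subgroup L) := by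
    rw [← hg, CfsgLib.TransferApps.mem_smul_iff, show g⁻¹ * (g * x * g⁻¹) * g = x by group]
    exact hT (Subgroup.mem_zpowers x)
  exact (D.conj_t hmem fun e => hx1 (conj_eq_one_iff.mp e)).trans
    (isConj_iff.mpr ⟨g, rfl⟩ : IsConj x (g * x * g⁻¹)).symm

include D in
theorem not_eight : ¬ 8 ∣ Nat.card L := by
  haveI : Fact (Nat.Prime 2) := ⟨Nat.prime_two⟩
  intro h
  have := D.S.pow_dvd_card_of_pow_dvd_card (n := 3) h
  rw [D.toAbData.card_S] at this
  exact absurd (Nat.le_of_dvd (by norm_num) this) (by norm_num)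

include D in
theorem not_eight_quot : ¬ 8 ∣ Nat.card (L ⧸ Subgroup.center L) := fun h =>
  D.not_eight (h.trans (Subgroup.card_quotient_dvd_card _))

/-- The image of the involution centraliser. -/
theorem mem_centralizer_bar {c : L ⧸ Subgroup.center L} (h : c * π D.t = π D.t * c) :
    ∃ v ∈ (D.S : Subgroup L), ∃ u ∈ D.O, c = π v * π u := by
  obtain ⟨g, rfl⟩ := QuotientGroup.mk'_surjective _ c
  obtain ⟨v, hv, u, hu, rfl⟩ := D.hC g (D.lift_comm D.ht2 h)
  exact ⟨v, hv, u, hu, map_mul π v u⟩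

theorem π_S_ne {v : L} (hv : v ∈ (D.S : Subgroup L)) (hv1 : v ≠ 1) : π v ≠ 1 := fun e =>
  D.toAbData.central_notMem_center hv hv1 (π_eq_one.mp e)

theorem odd_map : Odd (Nat.card (D.O.map (π (L := L)))) :=
  D.hOodd.of_dvd_nat (Subgroup.card_map_dvd D.O _)

/-- Without fixed points outside the centre, `s` inverts `O` modulo the centre. -/
theorem inverts (h0 : ∀ u ∈ D.O0, u ∈ Subgroup.center L) {u : L} (hu : u ∈ D.O) :
    π (D.s * u * D.s) = (π u)⁻¹ := by
  let φ : ↥(D.O.map (π (L := L))) →* ↥(D.O.map (π (L := L))) :=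
    { toFun := fun a => ⟨π D.s * a * π D.s, by
        obtain ⟨w, hw, e⟩ := a.2
        exact ⟨D.s * w * D.s, D.s_norm hw, by rw [map_mul, map_mul, e]⟩⟩
      map_one' := Subtype.ext (show π D.s * 1 * π D.s = 1 by rw [mul_one, ← map_mul, D.hs2, map_one])
      map_mul' := fun a b => Subtype.ext (by
        show π D.s * ((a : L ⧸ Subgroup.center L) * b) * π D.s = π D.s * a * π D.s * (π D.s * b * π D.s)
        have : π D.s * π D.s = 1 := by rw [← map_mul, D.hs2, map_one]
        calc π D.s * ((a : L ⧸ Subgroup.center L) * b) * π D.s = π D.s * a * 1 * b * π D.s := by group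
          _ = π D.s * a * (π D.s * π D.s) * b * π D.s := by rw [this]
          _ = _ := by group) }
  have hss : π D.s * π D.s = 1 := by rw [← map_mul, D.hs2, map_one]
  have hinvol : Function.Involutive φ := fun a => Subtype.ext (by
    show π D.s * (π D.s * a * π D.s) * π D.s = a
    calc π D.s * (π D.s * a * π D.s) * π D.s = (π D.s * π D.s) * a * (π D.s * π D.s) := by group
      _ = a := by rw [hss]; group)
  have hfpf : MonoidHom.FixedPointFree φ := by
    rintro ⟨a, w, hw, rfl⟩ ha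
    have e : π D.s * π w * π D.s = π w := congrArg Subtype.val ha
    have hc : π w * π D.s = π D.s * π w := by
      calc π w * π D.s = π D.s * π w * π D.s * π D.s := by rw [e]
        _ = π D.s * π w * (π D.s * π D.s) := by group
        _ = _ := by rw [hss, mul_one]
    exact Subtype.ext (π_eq_one.mpr (h0 w (D.mem_O0.mpr ⟨hw, D.lift_comm D.hs2 hc⟩)))
  have := congrFun (hfpf.coe_eq_inv_of_involutive hinvol) ⟨π u, u, hu, rfl⟩
  rw [map_mul, map_mul]
  exact congrArg Subtype.val this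

/-- The Brauer–Suzuki–Wall case. -/
theorem psl2_of_fixed_le_center (h0 : ∀ u ∈ D.O0, u ∈ Subgroup.center L) :
    ∃ (F : Type) (_ : Field F) (_ : Fintype F), Odd (Fintype.card F) ∧
      Nonempty ((L ⧸ Subgroup.center L) ≃* Matrix.ProjectiveSpecialLinearGroup (Fin 2) F) := by
  classical
  haveI : Fact (Nat.Prime 2) := ⟨Nat.prime_two⟩
  haveI := D.q.simple
  let T : Sylow 2 (L ⧸ Subgroup.center L) := D.S.mapSurjective (QuotientGroup.mk'_surjective _)
  have hT : (T : Subgroup (L ⧸ Subgroup.center L)) = (D.S : Subgroup L).map π := rfl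
  have hTmem : ∀ x ∈ (T : Subgroup (L ⧸ Subgroup.center L)), ∃ v ∈ (D.S : Subgroup L), x = π v := fun x hx => by
    rw [hT] at hx
    obtain ⟨v, hv, rfl⟩ := hx
    exact ⟨v, hv, rfl⟩
  have hπT : ∀ v ∈ (D.S : Subgroup L), π v ∈ (T : Subgroup (L ⧸ Subgroup.center L)) := fun v hv => by
    rw [hT]; exact ⟨v, hv, rfl⟩
  have hcardT : Nat.card (T : Subgroup (L ⧸ Subgroup.center L)) = 4 := by
    have hinj : Function.Injective ((π (L := L)).subgroupMap (D.S : Subgroup L)) := by
      rw [injective_iff_map_eq_one]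
      intro x hx
      exact Subtype.ext (D.q.eq_one_of_mem_center D.S D.hS x.2 (π_eq_one.mp (congrArg Subtype.val hx)))
    rw [hT, ← Nat.card_congr (MulEquiv.ofBijective _ ⟨hinj, (π (L := L)).subgroupMap_surjective _⟩).toEquiv,
      D.toAbData.card_S]
  haveI hK : IsKleinFour (T : Subgroup (L ⧸ Subgroup.center L)) := by
    haveI : Nontrivial (T : Subgroup (L ⧸ Subgroup.center L)) :=
      ⟨⟨π D.t, hπT _ D.ht⟩, 1, fun e => D.π_S_ne D.ht D.ht1 (congrArg Subtype.val e)⟩
    refine ⟨hcardT, (Monoid.exponent_eq_prime_iff Nat.prime_two).mpr fun a ha => orderOf_eq_prime ?_ ha⟩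
    obtain ⟨v, hv, e⟩ := hTmem a a.2
    refine Subtype.ext ?_
    rw [Subgroup.coe_pow, e, pow_two, ← map_mul, D.S_sq hv, map_one]
    rfl
  obtain ⟨eS⟩ : Nonempty ((T : Subgroup (L ⧸ Subgroup.center L)) ≃* DihedralGroup 2) := IsKleinFour.nonempty_mulEquiv
  have htt : π D.t * π D.t = 1 := by rw [← map_mul, D.ht2, map_one]
  have ht : orderOf (π D.t) = 2 := orderOf_eq_prime (by rw [pow_two, htt]) (D.π_S_ne D.ht D.ht1)
  have htZ : ∀ x ∈ (T : Subgroup (L ⧸ Subgroup.center L)), x * π D.t = π D.t * x := by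
    intro x hx
    obtain ⟨v, hv, rfl⟩ := hTmem x hx
    rw [← map_mul, ← map_mul, D.S_t hv]
  have hss : π D.s * π D.s = 1 := by rw [← map_mul, D.hs2, map_one]
  -- the core
  set C' := Subgroup.centralizer ({π D.t} : Set (L ⧸ Subgroup.center L)) with hC'
  have hOC : D.O.map π ≤ C' := by
    rintro _ ⟨u, hu, rfl⟩
    exact Subgroup.mem_centralizer_singleton_iff.mpr (by rw [← map_mul, ← map_mul, D.hOt u hu])
  have hcore : D.O.map π = (Cfsg.oddCore C').map C'.subtype := by
    haveI hn : ((D.O.map π).subgroupOf C').Normal := by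
      refine ⟨fun x hx c => ?_⟩
      obtain ⟨u, hu, e⟩ := hx
      obtain ⟨g, hg⟩ := QuotientGroup.mk'_surjective (Subgroup.center L) (c : L ⧸ Subgroup.center L)
      have hcc := Subgroup.mem_centralizer_singleton_iff.mp c.2
      rw [← hg] at hcc
      refine ⟨g * u * g⁻¹, D.hOn g (D.lift_comm D.ht2 hcc) u hu, ?_⟩
      show π (g * u * g⁻¹) = (c : L ⧸ Subgroup.center L) * x * (c : L ⧸ Subgroup.center L)⁻¹
      rw [map_mul, map_mul, map_inv, ← hg]
      exact congrArg (fun a => π g * a * (π g)⁻¹) e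
    have hodd' : Odd (Nat.card ((D.O.map π).subgroupOf C')) := by
      rw [Nat.card_congr (Subgroup.subgroupOfEquivOfLe hOC).toEquiv]
      exact D.odd_map
    refine le_antisymm (fun x hx => ⟨⟨x, hOC hx⟩, CfsgLib.le_oddCore hodd'
      (show (⟨x, hOC hx⟩ : C') ∈ (D.O.map π).subgroupOf C' from hx), rfl⟩) ?_
    · rintro _ ⟨y, hy, rfl⟩
      obtain ⟨v, hv, u, hu, e⟩ := D.mem_centralizer_bar (Subgroup.mem_centralizer_singleton_iff.mp y.2)
      suffices hv1 : π v = 1 by
        rw [hv1, one_mul] at e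
        exact ⟨u, hu, e.symm⟩
      have hvC : π v ∈ C' := Subgroup.mem_centralizer_singleton_iff.mpr (htZ _ (hπT v hv))
      have huC : π u ∈ C' := hOC ⟨u, hu, rfl⟩
      have hu' : (⟨π u, huC⟩ : C') ∈ Cfsg.oddCore C' := by
        refine CfsgLib.le_oddCore ?_ (show (⟨π u, huC⟩ : C') ∈ (D.O.map π).subgroupOf C' from ⟨u, hu, rfl⟩)
        rw [Nat.card_congr (Subgroup.subgroupOfEquivOfLe hOC).toEquiv]
        exact D.odd_map
      have hv' : (⟨π v, hvC⟩ : C') ∈ Cfsg.oddCore C' := by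
        have := mul_mem hy (inv_mem hu')
        convert this using 1
        refine Subtype.ext ?_
        show π v = (y : L ⧸ Subgroup.center L) * (π u)⁻¹
        exact eq_mul_inv_of_mul_eq e.symm
      exact congrArg Subtype.val (eq_one_of_self_inv (L := C') CfsgLib.odd_card_oddCore hv'
        (Subtype.ext (show π v * π v = 1 by rw [← map_mul, D.S_sq hv, map_one])))
  have hnotmem : D.O.map π ≠ ⊥ → π D.s ∉ Subgroup.centralizer ((D.O.map π : Subgroup _) : Set _) := by
    intro hne hs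
    apply hne
    rw [eq_bot_iff]
    rintro _ ⟨u, hu, rfl⟩
    rw [Subgroup.mem_bot]
    have h1 := Subgroup.mem_centralizer_iff.mp hs (π u) ⟨u, hu, rfl⟩
    have h2 := D.inverts h0 hu
    rw [map_mul, map_mul, ← h1, mul_assoc, hss, mul_one] at h2
    exact eq_one_of_self_inv D.odd_map ⟨u, hu, rfl⟩ (eq_inv_iff_mul_eq_one.mp h2)
  have htcen : π D.t ∈ Subgroup.centralizer ((D.O.map π : Subgroup _) : Set _) := by
    rw [Subgroup.mem_centralizer_iff]
    intro y hy
    exact Subgroup.mem_centralizer_singleton_iff.mp (hOC hy)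
  have hinter : D.O.map π ≠ ⊥ → (T : Subgroup (L ⧸ Subgroup.center L)) ⊓
      Subgroup.centralizer ((D.O.map π : Subgroup _) : Set _) = Subgroup.zpowers (π D.t) := by
    intro hne
    refine le_antisymm (fun x hx => ?_) (Subgroup.zpowers_le.mpr ⟨hπT _ D.ht, htcen⟩)
    obtain ⟨hxT, hxC⟩ := Subgroup.mem_inf.mp hx
    obtain ⟨v, hv, rfl⟩ := hTmem x hxT
    rcases D.hSmem v hv with rfl | rfl | rfl | rfl
    · rw [map_one]; exact one_mem _
    · exact Subgroup.mem_zpowers _
    · exact absurd hxC (hnotmem hne)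
    · refine absurd ?_ (hnotmem hne)
      have := mul_mem htcen hxC
      rwa [← map_mul, ← mul_assoc, D.ht2, one_mul] at this
  refine CfsgLib.BSW.psl2_of_dihedral T 2 le_rfl eS (π D.t) ht (hπT _ D.ht) htZ (D.O.map π) hcore
    (fun hne => ?_) (fun x hx hxC y hy => ?_) (fun Y hY hY1 g hg => ?_)
  · rw [hinter hne]
    refine ⟨Subgroup.isCyclic_zpowers _, ?_⟩
    have hle : Subgroup.zpowers (π D.t) ≤ (T : Subgroup (L ⧸ Subgroup.center L)) :=
      Subgroup.zpowers_le.mpr (hπT _ D.ht)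
    have h := ((Subgroup.zpowers (π D.t)).subgroupOf (T : Subgroup (L ⧸ Subgroup.center L))).index_mul_card
    rw [Nat.card_congr (Subgroup.subgroupOfEquivOfLe hle).toEquiv, Nat.card_zpowers, ht, hcardT] at h
    show ((Subgroup.zpowers (π D.t)).subgroupOf _).index = 2
    omega
  · obtain ⟨v, hv, rfl⟩ := hTmem x hx
    obtain ⟨u, hu, rfl⟩ := hy
    have hv' : π v * π v = 1 := by rw [← map_mul, D.S_sq hv, map_one]
    rw [inv_eq_of_mul_eq_one_right hv']
    rcases D.hSmem v hv with rfl | rfl | rfl | rfl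
    · exact absurd (by rw [map_one]; exact one_mem _) hxC
    · exact absurd htcen hxC
    · rw [← map_mul, ← map_mul, D.inverts h0 hu]
    · have h1 := D.inverts h0 hu
      rw [map_mul, map_mul] at h1
      have h2 : Commute (π u) (π D.t) := Subgroup.mem_centralizer_singleton_iff.mp (hOC ⟨u, hu, rfl⟩)
      calc π (D.t * D.s) * π u * π (D.t * D.s) = π D.t * (π D.s * π u) * π (D.t * D.s) := by rw [map_mul]; group
        _ = π D.t * (π D.s * π u) * π (D.s * D.t) := by rw [D.t_comm_s]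
        _ = π D.t * (π D.s * π u * π D.s) * π D.t := by rw [map_mul]; group
        _ = (π u)⁻¹ := by rw [h1, ← h2.inv_left.eq, mul_assoc, htt, mul_one]
  · obtain ⟨g, rfl⟩ := QuotientGroup.mk'_surjective _ g
    obtain ⟨y, hy, hy1⟩ := (Subgroup.bot_or_exists_ne_one Y).resolve_left hY1
    obtain ⟨k, hk, rfl⟩ := hY hy
    have hkc : k ∉ Subgroup.center L := fun e => hy1 (π_eq_one.mpr e)
    -- `k` is real, moved by `s`
    obtain ⟨z, hz, e⟩ := π_eq ((D.inverts h0 hk).trans (map_inv π k).symm)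
    have hsk : D.s * k ≠ k * D.s := fun e => hkc (h0 k (D.mem_O0.mpr ⟨hk, e.symm⟩))
    have hab : ∀ a b : L, a * k = k * a → b * k = k * b → a * b = b * a := fun a b =>
      D.q.abelian_of_real hkc hz (g := D.s) (by rw [inv_eq_of_mul_eq_one_right D.hs2]; exact e) hsk
    have hconj : π (g⁻¹ * k * g) ∈ Y := by
      have := (Subgroup.mem_normalizer_iff''.mp hg (π k)).mp hy
      rwa [← map_inv, ← map_mul, ← map_mul] at this
    have hk' : g⁻¹ * k * g ∈ D.O := D.mem_O_of_π (hY hconj)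
    set t' := g * D.t * g⁻¹ with ht'
    have hkt' : t' * k = k * t' := by
      rw [ht']
      calc g * D.t * g⁻¹ * k = g * (D.t * (g⁻¹ * k * g)) * g⁻¹ := by group
        _ = g * ((g⁻¹ * k * g) * D.t) * g⁻¹ := by rw [D.hOt _ hk']
        _ = k * (g * D.t * g⁻¹) := by group
    have ht'C : t' * D.t = D.t * t' := hab t' D.t hkt' (D.hOt k hk).symm
    have ht'2 : t' * t' = 1 := by
      rw [ht', show g * D.t * g⁻¹ * (g * D.t * g⁻¹) = g * (D.t * D.t) * g⁻¹ by group, D.ht2]; group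
    have ht'1 : t' ≠ 1 := fun e => D.ht1 (conj_eq_one_iff.mp e)
    obtain ⟨v, hv, r, hr, hrv⟩ := D.invol_conj ht'C ht'2
    refine Subgroup.mem_centralizer_singleton_iff.mpr ?_
    suffices hfix : t' = D.t by rw [← map_mul, ← map_mul, mul_inv_eq_iff_eq_mul.mp hfix]
    have hrk : r * k * r⁻¹ ∈ D.O := mul_mem (mul_mem hr hk) (inv_mem hr)
    have hkv : r * k * r⁻¹ * v = v * (r * k * r⁻¹) := by
      rw [← hrv]
      calc r * k * r⁻¹ * (r * t' * r⁻¹) = r * (k * t') * r⁻¹ := by group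
        _ = r * (t' * k) * r⁻¹ := by rw [hkt']
        _ = _ := by group
    have hmem : D.s * (r * k * r⁻¹) = r * k * r⁻¹ * D.s → False := fun e => hkc (by
      have h1 := h0 _ (D.mem_O0.mpr ⟨hrk, e.symm⟩)
      have h2 := (inferInstance : (Subgroup.center L).Normal).conj_mem _ h1 r⁻¹
      rwa [show r⁻¹ * (r * k * r⁻¹) * r⁻¹⁻¹ = k by group] at h2)
    rcases D.hSmem v hv with rfl | rfl | rfl | rfl
    · exact absurd (conj_eq_one_iff.mp hrv) ht'1
    · calc t' = r⁻¹ * (r * t' * r⁻¹) * r := by group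
        _ = r⁻¹ * (D.t * r) := by rw [hrv, mul_assoc]
        _ = D.t := by rw [← D.hOt r hr, inv_mul_cancel_left]
    · exact (hmem hkv.symm).elim
    · refine (hmem ?_).elim
      have h2 : Commute (r * k * r⁻¹) D.t := D.hOt _ hrk
      have := h2.inv_right.mul_right (show Commute (r * k * r⁻¹) (D.t * D.s) from hkv)
      rw [inv_mul_cancel_left] at this
      exact this.eq.symm

end AbFour

end CfsgLib.MinNonCA
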