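import Mathlib

/-!
Arithmetic of degrees for the section of `t`.
-/

set_option autoImplicit false
set_option linter.style.haveILetI false

namespace CfsgLib.MinNonCA

/-- Three orthogonal sign vectors on four points, orthogonal to a positive vector. -/
theorem arith_moved (v : Fin 3 → Fin 4 → ℤ) (hv : ∀ k i, v k i = 1 ∨ v k i = -1)
    (horth : ∀ k l, k ≠ l → ∑ i, v k i * v l i = 0) (x : Fin 4 → ℕ) (hx : ∀ i, 7 ≤ x i)
    (hvx : ∀ k, ∑ i, v k i * (x i : ℤ) = 0)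
    (hmod : ∀ i, (4 : ℤ) ∣ (x i : ℤ) - (v 0 i + v 1 i + v 2 i)) :
    (∑ i, (v 0 i : ℚ) * ((v 0 i + v 1 i + v 2 i : ℤ) : ℚ) ^ 2 / x i) < 5 / 7 ∨
    (∑ i, (v 0 i : ℚ) * ((v 0 i + v 1 i + v 2 i : ℤ) : ℚ) ^ 2 / x i) = 8 / 7 ∨
    (∑ i, (v 0 i : ℚ) * ((v 0 i + v 1 i + v 2 i : ℤ) : ℚ) ^ 2 / x i) = 8 / 11 := by
  have hsq : ∀ k i, v k i * v k i = 1 := fun k i => by rcases hv k i with h | h <;> rw [h] <;> ring
  -- columns are orthogonal
  have hcol : ∀ i j, i ≠ j → (1 + v 0 i * v 1 i * (v 0 j * v 1 j)) * (1 + v 0 i * v 2 i * (v 0 j * v 2 j)) = 0 := by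
    intro i j hij
    obtain ⟨k, l, huniv, hik, hil, hjk, hjl, hkl⟩ : ∃ k l : Fin 4,
        (Finset.univ : Finset (Fin 4)) = {i, j, k, l} ∧ i ≠ k ∧ i ≠ l ∧ j ≠ k ∧ j ≠ l ∧ k ≠ l := by
      revert i j; decide
    have hsum : ∀ f : Fin 4 → ℤ, ∑ m, f m = f i + f j + f k + f l := fun f => by
      rw [huniv, Finset.sum_insert (by simp [hij, hik, hil]), Finset.sum_insert (by simp [hjk, hjl]),
        Finset.sum_pair hkl]
      ring
    have h01 := horth 0 1 (by decide)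
    have h02 := horth 0 2 (by decide)
    have h12 := horth 1 2 (by decide)
    rw [hsum] at h01 h02 h12
    have pm : ∀ m n : ℤ, (m = 1 ∨ m = -1) → (n = 1 ∨ n = -1) → (m * n = 1 ∨ m * n = -1) := by
      rintro m n (rfl | rfl) (rfl | rfl) <;> norm_num
    by_contra hne
    obtain ⟨he, hf⟩ := mul_ne_zero_iff.mp hne
    have e12 : ∀ m, v 1 m * v 2 m = (v 0 m * v 1 m) * (v 0 m * v 2 m) := fun m => by
      linear_combination (norm := ring_nf) (-(v 1 m * v 2 m)) * hsq 0 m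
    rw [e12, e12, e12, e12] at h12
    rcases pm _ _ (hv 0 i) (hv 1 i) with a | a <;> rcases pm _ _ (hv 0 j) (hv 1 j) with b | b <;>
      rcases pm _ _ (hv 0 i) (hv 2 i) with c | c <;> rcases pm _ _ (hv 0 j) (hv 2 j) with d | d <;>
      simp only [a, b, c, d] at he hf h01 h02 h12 <;> (first | omega |
        (rcases pm _ _ (hv 0 k) (hv 1 k) with p | p <;> rcases pm _ _ (hv 0 k) (hv 2 k) with q | q <;>
          rcases pm _ _ (hv 0 l) (hv 1 l) with r | r <;> rcases pm _ _ (hv 0 l) (hv 2 l) with t | t <;>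
          simp only [p, q, r, t] at h01 h02 h12 <;> omega))
  have key : ∀ i, 4 * (x i : ℚ) =
      ((v 0 i * v 1 i * v 2 i : ℤ) : ℚ) * ∑ j, ((v 0 j * v 1 j * v 2 j : ℤ) : ℚ) * (x j : ℚ) := by
    intro i
    suffices h : 4 * (x i : ℤ) = v 0 i * v 1 i * v 2 i * ∑ j, v 0 j * v 1 j * v 2 j * (x j : ℤ) by exact_mod_cast h
    have e : ∀ j, (1 + v 0 i * v 1 i * (v 0 j * v 1 j)) * (1 + v 0 i * v 2 i * (v 0 j * v 2 j)) *
        (v 0 i * v 0 j) * (x j : ℤ) = v 0 i * (v 0 j * (x j : ℤ)) + v 1 i * (v 1 j * (x j : ℤ)) +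
          v 2 i * (v 2 j * (x j : ℤ)) + v 0 i * v 1 i * v 2 i * (v 0 j * v 1 j * v 2 j * (x j : ℤ)) := by
      intro j
      rcases hv 0 i with a | a <;> rcases hv 0 j with b | b <;> simp only [a, b] <;> ring
    have h1 : ∑ j, (1 + v 0 i * v 1 i * (v 0 j * v 1 j)) * (1 + v 0 i * v 2 i * (v 0 j * v 2 j)) *
        (v 0 i * v 0 j) * (x j : ℤ) = 4 * (x i : ℤ) := by
      rw [Finset.sum_eq_single i]
      · rcases hv 0 i with a | a <;> rcases hv 1 i with b | b <;> rcases hv 2 i with c | c <;>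
          simp only [a, b, c] <;> ring
      · intro j _ hj; rw [hcol i j hj.symm, zero_mul, zero_mul]
      · simp
    rw [← h1, Finset.sum_congr rfl fun j _ => e j]
    simp only [Finset.sum_add_distrib, ← Finset.mul_sum, hvx, mul_zero, zero_add]
  set L : ℚ := ∑ j, ((v 0 j * v 1 j * v 2 j : ℤ) : ℚ) * (x j : ℚ)
  -- the product is constant
  obtain ⟨δ, hδ, hw⟩ : ∃ δ : ℤ, (δ = 1 ∨ δ = -1) ∧ ∀ i, v 0 i * v 1 i * v 2 i = δ := by
    refine ⟨v 0 0 * v 1 0 * v 2 0, ?_, fun i => ?_⟩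
    · rcases hv 0 0 with a | a <;> rcases hv 1 0 with b | b <;> rcases hv 2 0 with c | c <;> simp [a, b, c]
    · have hi := key i
      have h0 := key 0
      have pi : (0 : ℚ) < x i := by exact_mod_cast lt_of_lt_of_le (by norm_num) (hx i)
      have p0 : (0 : ℚ) < x 0 := by exact_mod_cast lt_of_lt_of_le (by norm_num) (hx 0)
      have wi : v 0 i * v 1 i * v 2 i = 1 ∨ v 0 i * v 1 i * v 2 i = -1 := by
        rcases hv 0 i with a | a <;> rcases hv 1 i with b | b <;> rcases hv 2 i with c | c <;> simp [a, b, c]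
      have w0 : v 0 0 * v 1 0 * v 2 0 = 1 ∨ v 0 0 * v 1 0 * v 2 0 = -1 := by
        rcases hv 0 0 with a | a <;> rcases hv 1 0 with b | b <;> rcases hv 2 0 with c | c <;> simp [a, b, c]
      rcases wi with a | a <;> rcases w0 with b | b <;> rw [a, b] <;> rw [a] at hi <;> rw [b] at h0 <;>
        push_cast at hi h0 <;> linarith
  have hwx : ∀ i, x i = x 0 := by
    intro i
    have hi := key i
    have h0 := key 0
    rw [hw] at hi h0
    exact_mod_cast (show (x i : ℚ) = x 0 by linarith)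
  set d := x 0
  have hdpos : (0 : ℤ) < d := by exact_mod_cast lt_of_lt_of_le (by norm_num) (hx 0)
  have hsum : ∀ k, ∑ i, v k i = 0 := by
    intro k
    have h := hvx k
    simp only [hwx, ← Finset.sum_mul] at h
    exact (mul_eq_zero.mp h).resolve_right hdpos.ne'
  have hC : ∀ i : Fin 4, (4 : ℤ) ∣ (d : ℤ) + δ := by
    intro i
    have h := hmod i
    rw [hwx i] at h
    have hw' := hw i
    rcases hv 0 i with a | a <;> rcases hv 1 i with b | b <;> rcases hv 2 i with c | c <;>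
      simp only [a, b, c] at h hw' <;> omega
  have hnum : ∑ i, v 0 i * (v 0 i + v 1 i + v 2 i) ^ 2 = 8 * δ := by
    have e : ∀ i, v 0 i * (v 0 i + v 1 i + v 2 i) ^ 2 = 3 * v 0 i + 2 * v 1 i + 2 * v 2 i + 2 * δ := by
      intro i
      have hw' := hw i
      rcases hv 0 i with a | a <;> rcases hv 1 i with b | b <;> rcases hv 2 i with c | c <;>
        simp only [a, b, c] at hw' ⊢ <;> omega
    rw [Finset.sum_congr rfl fun i _ => e i]
    simp only [Finset.sum_add_distrib, ← Finset.mul_sum, hsum, Finset.sum_const, Finset.card_univ,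
      Fintype.card_fin, nsmul_eq_mul]
    push_cast; ring
  have he : (∑ i, (v 0 i : ℚ) * ((v 0 i + v 1 i + v 2 i : ℤ) : ℚ) ^ 2 / x i) = 8 * (δ : ℚ) / d := by
    simp only [hwx, ← Finset.sum_div]
    congr 1
    exact_mod_cast hnum
  rw [he]
  have hd7 : 7 ≤ d := hx 0
  rcases hδ with h | h
  · by_cases h11 : d ≤ 11
    · have := hC 0
      have : d = 7 ∨ d = 11 := by omega
      rcases this with e | e <;> rw [e, h] <;> norm_num
    · left
      have h12 : (12 : ℚ) ≤ d := by exact_mod_cast (by omega : 12 ≤ d)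
      rw [h, div_lt_iff₀ (by linarith)]
      push_cast; linarith
  · left
    have hq : (0 : ℚ) < d := by exact_mod_cast hdpos
    rw [h, div_lt_iff₀ hq]
    push_cast; linarith

theorem arith_ppm {a b c : ℕ} (ha : 9 ≤ a) (hb : 9 ≤ b) (hc : 7 ≤ c) (ha4 : a % 4 = 1) (hb4 : b % 4 = 1)
    (h : 1 + a + b = c) :
    5 / 7 ≤ 1 + (1 : ℚ) / a + 1 / b - 1 / c ∧ 1 + (1 : ℚ) / a + 1 / b - 1 / c ≠ 8 / 7 ∧
      1 + (1 : ℚ) / a + 1 / b - 1 / c ≠ 8 / 11 := by
  have qa : (9 : ℚ) ≤ a := by exact_mod_cast ha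
  have qb : (9 : ℚ) ≤ b := by exact_mod_cast hb
  have qc : (7 : ℚ) ≤ c := by exact_mod_cast hc
  have hc1 : (1 : ℚ) / c ≤ 1 / 7 := by gcongr
  have pa : (0 : ℚ) < 1 / a := by positivity
  have pb : (0 : ℚ) < 1 / b := by positivity
  refine ⟨by linarith, ?_, by intro e; linarith⟩
  intro e
  have a0 : (a : ℚ) ≠ 0 := by positivity
  have b0 : (b : ℚ) ≠ 0 := by positivity
  have c0 : (c : ℚ) ≠ 0 := by positivity
  field_simp at e
  have eN : 7 * (b * c + a * c) = a * b * c + 7 * (a * b) := by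
    have : (7 : ℚ) * (b * c + a * c) = a * b * c + 7 * (a * b) := by linear_combination e
    exact_mod_cast this
  have hmin : a < 14 ∨ b < 14 := by
    by_contra hh
    push Not at hh
    nlinarith [Nat.mul_le_mul hh.1 (Nat.mul_le_mul_right c (Nat.le_refl b)), Nat.mul_le_mul hh.2 (Nat.le_refl (a * c))]
  subst h
  rcases hmin with hlt | hlt
  · have : a = 9 ∨ a = 13 := by omega
    rcases this with rfl | rfl <;>
    · have hb' : b ≤ 40 := by nlinarith
      interval_cases b <;> omega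
  · have : b = 9 ∨ b = 13 := by omega
    rcases this with rfl | rfl <;>
    · have ha' : a ≤ 40 := by nlinarith
      interval_cases a <;> omega

theorem arith_pmm {a b c : ℕ} (ha : 9 ≤ a) (hb : 7 ≤ b) (hc : 7 ≤ c) (hb4 : b % 4 = 3) (hc4 : c % 4 = 3)
    (h : 1 + a = b + c) :
    5 / 7 ≤ 1 + (1 : ℚ) / a - 1 / b - 1 / c ∧ 1 + (1 : ℚ) / a - 1 / b - 1 / c ≠ 8 / 7 ∧
      1 + (1 : ℚ) / a - 1 / b - 1 / c ≠ 8 / 11 := by
  have qa : (9 : ℚ) ≤ a := by exact_mod_cast ha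
  have qb : (7 : ℚ) ≤ b := by exact_mod_cast hb
  have qc : (7 : ℚ) ≤ c := by exact_mod_cast hc
  have hb1 : (1 : ℚ) / b ≤ 1 / 7 := by gcongr
  have hc1 : (1 : ℚ) / c ≤ 1 / 7 := by gcongr
  have ha1 : (1 : ℚ) / a ≤ 1 / 9 := by gcongr
  have pa : (0 : ℚ) < 1 / a := by positivity
  have pb : (0 : ℚ) < 1 / b := by positivity
  have pc : (0 : ℚ) < 1 / c := by positivity
  refine ⟨by linarith, by intro e; linarith, ?_⟩
  intro e
  by_cases h7 : b = 7 ∧ c = 7
  · obtain ⟨rfl, rfl⟩ := h7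
    have : a = 13 := by omega
    subst this
    norm_num at e
  · have : 11 ≤ b ∨ 11 ≤ c := by omega
    rcases this with h11 | h11
    · have q11 : (11 : ℚ) ≤ b := by exact_mod_cast h11
      have : (1 : ℚ) / b ≤ 1 / 11 := by gcongr
      have hab : (b : ℚ) + 6 ≤ a := by
        have : (b + 6 : ℕ) ≤ a := by omega
        exact_mod_cast this
      linarith
    · have q11 : (11 : ℚ) ≤ c := by exact_mod_cast h11
      have : (1 : ℚ) / c ≤ 1 / 11 := by gcongr
      linarith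

/-- The principal vector. -/
theorem arith_principal (s : Fin 3 → ℤ) (hs : ∀ i, s i = 1 ∨ s i = -1) (x : Fin 3 → ℕ) (hx : ∀ i, 6 ≤ x i)
    (hmod : ∀ i, (4 : ℤ) ∣ (x i : ℤ) - s i) (hsum : 1 + ∑ i, s i * (x i : ℤ) = 0) :
    5 / 7 ≤ 1 + ∑ i, (s i : ℚ) / x i ∧ 1 + ∑ i, (s i : ℚ) / x i ≠ 8 / 7 ∧
      1 + ∑ i, (s i : ℚ) / x i ≠ 8 / 11 := by
  simp only [Fin.sum_univ_three] at hsum ⊢
  have hp : ∀ i, s i = 1 → 9 ≤ x i ∧ x i % 4 = 1 := fun i h => by
    have := hmod i; have := hx i; rw [h] at *; omega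
  have hm : ∀ i, s i = -1 → 7 ≤ x i ∧ x i % 4 = 3 := fun i h => by
    have := hmod i; have := hx i; rw [h] at *; omega
  have := hx 0; have := hx 1; have := hx 2
  rcases hs 0 with a | a <;> rcases hs 1 with b | b <;> rcases hs 2 with c | c <;>
    simp only [a, b, c] at hsum ⊢ <;> push_cast <;> (try simp only [neg_div])
  · exfalso; omega
  · have := arith_ppm (hp 0 a).1 (hp 1 b).1 (hm 2 c).1 (hp 0 a).2 (hp 1 b).2 (by omega)
    convert this using 3 <;> ring
  · have := arith_ppm (hp 0 a).1 (hp 2 c).1 (hm 1 b).1 (hp 0 a).2 (hp 2 c).2 (by omega)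
    convert this using 3 <;> ring
  · have := arith_pmm (hp 0 a).1 (hm 1 b).1 (hm 2 c).1 (hm 1 b).2 (hm 2 c).2 (by omega)
    convert this using 3 <;> ring
  · have := arith_ppm (hp 1 b).1 (hp 2 c).1 (hm 0 a).1 (hp 1 b).2 (hp 2 c).2 (by omega)
    convert this using 3 <;> ring
  · have := arith_pmm (hp 1 b).1 (hm 0 a).1 (hm 2 c).1 (hm 0 a).2 (hm 2 c).2 (by omega)
    convert this using 3 <;> ring
  · have := arith_pmm (hp 2 c).1 (hm 0 a).1 (hm 1 b).1 (hm 0 a).2 (hm 1 b).2 (by omega)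
    convert this using 3 <;> ring
  · exfalso; omega

end CfsgLib.MinNonCA
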