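import Cfsg.Agent.Lib.MinNonCA.FourDegrees
import Cfsg.Agent.Lib.MinNonCA.FourArith

/-!
No group carries the local data `Four` with all nontrivial irreducible characters faithful.
-/

set_option autoImplicit false
set_option linter.style.haveILetI false
set_option linter.unusedSectionVars false

namespace CfsgLib.MinNonCA

open Cfsg CfsgLib.CharTheory CfsgLib.KleinCent
open scoped ComplexConjugate

universe u

namespace Four

variable {X : Type u} [Group X] [Fintype X] (D : Four X)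

/-- All nontrivial irreducible characters are faithful. -/
def Faithful (X : Type u) [Group X] [Fintype X] : Prop :=
  ∀ χ : IrrCharacter X, χ ≠ one → ∀ g : X, (χ : X → ℂ) g = (χ : X → ℂ) 1 → g = 1

instance finite_hom : Finite (D.O0 →* ℂˣ) :=
  Finite.of_injective D.lam D.lam_injective

noncomputable instance fintype_hom : Fintype (D.O0 →* ℂˣ) := Fintype.ofFinite _

/-- The degree. -/
noncomputable def deg (χ : IrrCharacter X) : ℕ := (irr_degree_pos χ.2).choose

theorem deg_pos (χ : IrrCharacter X) : 0 < deg χ := (irr_degree_pos χ.2).choose_spec.1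

theorem deg_spec (χ : IrrCharacter X) : (χ : X → ℂ) 1 = (deg χ : ℂ) := (irr_degree_pos χ.2).choose_spec.2

theorem sum_deg_int (φ : IrrCharacter D.O) : ∑ χ : IrrCharacter X, D.c χ φ * (deg χ : ℤ) = 0 := by
  have h := D.sum_deg φ
  simp only [deg_spec] at h
  exact_mod_cast h

theorem c_cases (χ : IrrCharacter X) (μ : D.O0 →* ℂˣ) :
    D.c χ (D.lam μ) = 0 ∨ D.c χ (D.lam μ) = 1 ∨ D.c χ (D.lam μ) = -1 := by
  classical
  set z := D.c χ (D.lam μ) with hz
  have h := D.orth_lam μ μ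
  rw [if_pos rfl, ← Finset.add_sum_erase Finset.univ _ (Finset.mem_univ χ), ← hz] at h
  by_contra hc
  push Not at hc
  have h4 : 4 ≤ z * z := by
    have : 2 ≤ z ∨ z ≤ -2 := by omega
    rcases this with e | e <;> nlinarith
  have hrest : ∀ η ∈ Finset.univ.erase χ, D.c η (D.lam μ) = 0 := by
    intro η hη
    have h0 : ∑ x ∈ Finset.univ.erase χ, D.c x (D.lam μ) * D.c x (D.lam μ) = 0 :=
      le_antisymm (by linarith) (Finset.sum_nonneg fun x _ => mul_self_nonneg _)
    exact mul_self_eq_zero.mp ((Finset.sum_eq_zero_iff_of_nonneg fun x _ => mul_self_nonneg _).mp h0 η hη)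
  have hdeg := D.sum_deg_int (D.lam μ)
  rw [← Finset.add_sum_erase Finset.univ _ (Finset.mem_univ χ),
    Finset.sum_eq_zero (fun η hη => by rw [hrest η hη, zero_mul]), add_zero, ← hz] at hdeg
  have := deg_pos χ
  rcases mul_eq_zero.mp hdeg with e | e <;> omega

theorem odd_iff (χ : IrrCharacter X) (μ : D.O0 →* ℂˣ) : Odd (D.c χ (D.lam μ)) ↔ D.c χ (D.lam μ) ≠ 0 := by
  rcases D.c_cases χ μ with h | h | h <;> rw [h] <;> simp

/-- The support. -/
noncomputable def supp (μ : D.O0 →* ℂˣ) : Finset (IrrCharacter X) :=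
  Finset.univ.filter fun χ => D.c χ (D.lam μ) ≠ 0

theorem mem_supp {μ : D.O0 →* ℂˣ} {χ : IrrCharacter X} : χ ∈ D.supp μ ↔ D.c χ (D.lam μ) ≠ 0 := by
  simp [supp]

theorem c_pm {μ : D.O0 →* ℂˣ} {χ : IrrCharacter X} (h : χ ∈ D.supp μ) :
    D.c χ (D.lam μ) = 1 ∨ D.c χ (D.lam μ) = -1 :=
  (D.c_cases χ μ).resolve_left (D.mem_supp.mp h)

theorem card_supp (μ : D.O0 →* ℂˣ) : (D.supp μ).card = 4 := by
  classical
  have h := D.orth_lam μ μ
  rw [if_pos rfl, ← Finset.sum_subset (Finset.subset_univ (D.supp μ)) (fun χ _ hχ => by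
    rw [mem_supp, not_not] at hχ; rw [hχ, mul_zero]),
    Finset.sum_congr rfl (fun χ hχ => show D.c χ (D.lam μ) * D.c χ (D.lam μ) = 1 by
      rcases D.c_pm hχ with e | e <;> rw [e] <;> norm_num),
    Finset.sum_const, nsmul_eq_mul, mul_one] at h
  exact_mod_cast h

theorem supp_cY (μ : D.O0 →* ℂˣ) : D.supp (μ.comp D.cY) = D.supp μ := by
  ext χ
  rw [mem_supp, mem_supp]
  have h := D.c_parity χ μ
  rcases D.c_cases χ μ with a | a | a <;> rcases D.c_cases χ (μ.comp D.cY) with b | b | b <;>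
    rw [a, b] at h ⊢ <;> omega

/-- The sum of the coefficients at the linear characters. -/
noncomputable def C (χ : IrrCharacter X) : ℤ := ∑ μ : D.O0 →* ℂˣ, D.c χ (D.lam μ)

theorem C_orbit [DecidableEq (D.O0 →* ℂˣ)] {μ : D.O0 →* ℂˣ} {χ : IrrCharacter X} (h : χ ∈ D.supp μ) :
    D.C χ = ∑ ν ∈ Finset.univ.image (D.orb μ), D.c χ (D.lam ν) := by
  unfold C
  refine (Finset.sum_subset (Finset.subset_univ _) fun ν _ hν => ?_).symm
  by_contra hc
  obtain ⟨j, hj⟩ := D.same_orbit χ ((D.odd_iff χ μ).mpr (D.mem_supp.mp h)) ((D.odd_iff χ ν).mpr hc)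
  exact hν (Finset.mem_image.mpr ⟨j, Finset.mem_univ _, hj⟩)

theorem orb_distinct {μ : D.O0 →* ℂˣ} (hμ : μ.comp D.cY ≠ μ) : Function.Injective (D.orb μ) := by
  have hc : ∀ a b : D.O0 →* ℂˣ, a.comp D.cY = b.comp D.cY → a = b := by
    intro a b e
    refine MonoidHom.ext fun w => ?_
    have := DFunLike.congr_fun e (D.cY (D.cY w))
    simpa only [MonoidHom.comp_apply, D.cY_three] using this
  have h12 : μ.comp D.cY ≠ (μ.comp D.cY).comp D.cY := fun e => hμ (hc _ _ e).symm
  have h02 : μ ≠ (μ.comp D.cY).comp D.cY := by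
    intro e
    apply hμ
    refine MonoidHom.ext fun w => ?_
    have := DFunLike.congr_fun e (D.cY w)
    simpa only [MonoidHom.comp_apply, D.cY_three] using this
  intro i j hij
  fin_cases i <;> fin_cases j <;> simp [Four.orb] at hij ⊢
  exacts [hμ hij.symm, h02 hij, hμ hij, h12 hij, h02 hij.symm, h12 hij.symm]

theorem C_fixed {μ : D.O0 →* ℂˣ} {χ : IrrCharacter X} (h : χ ∈ D.supp μ) (hμ : μ.comp D.cY = μ) :
    D.C χ = D.c χ (D.lam μ) := by
  classical
  rw [D.C_orbit h]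
  have : Finset.univ.image (D.orb μ) = {μ} := by
    ext ν
    simp only [Finset.mem_image, Finset.mem_univ, true_and, Finset.mem_singleton]
    constructor
    · rintro ⟨j, rfl⟩; fin_cases j <;> simp [Four.orb, hμ]
    · rintro rfl; exact ⟨0, rfl⟩
  rw [this, Finset.sum_singleton]

theorem C_moved {μ : D.O0 →* ℂˣ} {χ : IrrCharacter X} (h : χ ∈ D.supp μ) (hμ : μ.comp D.cY ≠ μ) :
    D.C χ = D.c χ (D.lam (D.orb μ 0)) + D.c χ (D.lam (D.orb μ 1)) + D.c χ (D.lam (D.orb μ 2)) := by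
  classical
  rw [D.C_orbit h, Finset.sum_image fun i _ j _ e => D.orb_distinct hμ e, Fin.sum_univ_three]

theorem C_odd {μ : D.O0 →* ℂˣ} {χ : IrrCharacter X} (h : χ ∈ D.supp μ) : Odd (D.C χ) := by
  by_cases hμ : μ.comp D.cY = μ
  · rw [D.C_fixed h hμ, D.odd_iff]; exact D.mem_supp.mp h
  · rw [D.C_moved h hμ]
    have h1 : χ ∈ D.supp (μ.comp D.cY) := by rw [D.supp_cY]; exact h
    have h2 : χ ∈ D.supp ((μ.comp D.cY).comp D.cY) := by rw [D.supp_cY]; exact h1
    simp only [Four.orb, Matrix.cons_val]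
    exact (((D.odd_iff χ _).mpr (D.mem_supp.mp h)).add_odd ((D.odd_iff χ _).mpr (D.mem_supp.mp h1))).add_odd
      ((D.odd_iff χ _).mpr (D.mem_supp.mp h2))

/-- A character meeting a moved character of `O` is killed by all linear coefficients in total. -/
theorem C_of_moved {φ : IrrCharacter D.O} (hφ : D.sConj φ ≠ φ) {a : IrrCharacter X} (ha : D.c a φ ≠ 0) :
    D.C a = 0 := by
  classical
  have key : ∀ ψ : IrrCharacter D.O, D.sConj ψ ≠ ψ → ∀ p : IrrCharacter X, D.c p ψ ≠ 0 →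
      ∃ q, q ≠ p ∧ D.c q ψ = -D.c p ψ ∧ D.c p ψ * D.c p ψ = 1 ∧ deg q = deg p ∧
        ∀ x, x ≠ p → x ≠ q → D.c x ψ = 0 := by
    intro ψ hψ p hp
    have h := D.orth ψ ψ
    rw [if_pos rfl, if_neg hψ] at h
    have hd := D.sum_deg_int ψ
    rw [← Finset.add_sum_erase Finset.univ _ (Finset.mem_univ p)] at h hd
    obtain ⟨q, hq, hq0⟩ : ∃ q ∈ Finset.univ.erase p, D.c q ψ ≠ 0 := by
      by_contra hc
      push Not at hc
      rw [Finset.sum_eq_zero (fun x hx => by rw [hc x hx, zero_mul]), add_zero] at hd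
      have := deg_pos p
      rcases mul_eq_zero.mp hd with e | e
      · exact hp e
      · omega
    rw [← Finset.add_sum_erase (Finset.univ.erase p) _ hq] at h hd
    have hp1 : 1 ≤ D.c p ψ * D.c p ψ := by
      rcases lt_or_gt_of_ne hp with e | e <;> nlinarith
    have hq1 : 1 ≤ D.c q ψ * D.c q ψ := by
      rcases lt_or_gt_of_ne hq0 with e | e <;> nlinarith
    have hr : 0 ≤ ∑ x ∈ (Finset.univ.erase p).erase q, D.c x ψ * D.c x ψ :=
      Finset.sum_nonneg fun x _ => mul_self_nonneg _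
    have hzero : ∀ x ∈ (Finset.univ.erase p).erase q, D.c x ψ = 0 := fun x hx =>
      mul_self_eq_zero.mp ((Finset.sum_eq_zero_iff_of_nonneg (f := fun y => D.c y ψ * D.c y ψ)
        fun y _ => mul_self_nonneg _).mp (by linarith) x hx)
    rw [Finset.sum_eq_zero (fun x hx => by rw [hzero x hx, zero_mul]), add_zero] at hd
    have e1 : D.c p ψ = 1 ∨ D.c p ψ = -1 :=
      Int.eq_one_or_neg_one_of_mul_eq_one (by linarith : D.c p ψ * D.c p ψ = 1)
    have e2 : D.c q ψ = 1 ∨ D.c q ψ = -1 :=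
      Int.eq_one_or_neg_one_of_mul_eq_one (by linarith : D.c q ψ * D.c q ψ = 1)
    have := deg_pos p; have := deg_pos q
    refine ⟨q, (Finset.mem_erase.mp hq).1, ?_, by linarith, ?_,
      fun x hxp hxq => hzero x (Finset.mem_erase.mpr ⟨hxq, Finset.mem_erase.mpr ⟨hxp, Finset.mem_univ _⟩⟩)⟩
    · rcases e1 with e1 | e1 <;> rcases e2 with e2 | e2 <;> rw [e1, e2] at hd ⊢ <;> omega
    · rcases e1 with e1 | e1 <;> rcases e2 with e2 | e2 <;> rw [e1, e2] at hd <;> omega
  obtain ⟨b, hba, hcb, hsq, hdeg, hzero⟩ := key φ hφ a ha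
  have pair : ∀ ψ : IrrCharacter D.O, ψ ≠ φ → D.sConj ψ ≠ φ → D.c a ψ = D.c b ψ := by
    intro ψ h1 h2
    have h := D.orth φ ψ
    rw [if_neg h1, if_neg h2, ← Finset.sum_subset (Finset.subset_univ ({a, b} : Finset _)) (fun x _ hx => by
      simp only [Finset.mem_insert, Finset.mem_singleton, not_or] at hx
      rw [hzero x hx.1 hx.2, zero_mul]), Finset.sum_pair hba.symm, hcb] at h
    have : D.c a φ * (D.c a ψ - D.c b ψ) = 0 := by linarith
    exact sub_eq_zero.mp ((mul_eq_zero.mp this).resolve_left ha)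
  have hlam : ∀ μ, D.c a (D.lam μ) = D.c b (D.lam μ) := fun μ => by
    refine pair _ (fun e => hφ (by rw [← e, D.sConj_lam])) (fun e => ?_)
    rw [D.sConj_lam] at e
    exact hφ (by rw [← e, D.sConj_lam])
  have hmoved0 : ∀ ψ : IrrCharacter D.O, D.sConj ψ ≠ ψ → ψ ≠ φ → ψ ≠ D.sConj φ → D.c a ψ = 0 := by
    intro ψ h1 h2 h3
    by_contra hne
    have heq := pair ψ h2 (fun e => h3 (by rw [← e, D.sConj_sConj]))
    obtain ⟨q, _, hcq, _, _, hz⟩ := key ψ h1 a hne
    by_cases hbq : b = q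
    · subst hbq; rw [hcq] at heq; omega
    · rw [hz b hba hbq] at heq; exact hne heq
  have hsφ : D.sConj φ ≠ φ := hφ
  have hval : ∀ p : IrrCharacter X, (∀ ψ, D.sConj ψ ≠ ψ → ψ ≠ φ → ψ ≠ D.sConj φ → D.c p ψ = 0) →
      (p : X → ℂ) D.t = (D.C p : ℂ) + 2 * (D.c p φ : ℂ) * (φ : D.O → ℂ) 1 := by
    intro p hp
    rw [D.value_t, ← Finset.sum_filter_add_sum_filter_not Finset.univ (fun ψ => D.sConj ψ = ψ)]
    have hfixset : Finset.univ.filter (fun ψ => D.sConj ψ = ψ) = Finset.univ.image D.lam := by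
      ext ψ
      simp only [Finset.mem_filter, Finset.mem_univ, true_and, Finset.mem_image]
      exact ⟨fun h => (D.fixed_eq_lam h).imp fun μ h => h.symm, fun ⟨μ, h⟩ => h ▸ D.sConj_lam μ⟩
    congr 1
    · rw [hfixset, Finset.sum_image fun x _ y _ e => D.lam_injective e, C, Int.cast_sum]
      exact Finset.sum_congr rfl fun μ _ => by simp [D.lam_apply]
    · rw [← Finset.sum_subset (s₁ := ({φ, D.sConj φ} : Finset _))]
      · rw [Finset.sum_pair hsφ.symm, D.c_sConj]
        have : (D.sConj φ : D.O → ℂ) 1 = (φ : D.O → ℂ) 1 := congrArg (φ : D.O → ℂ) (map_one D.sigma)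
        rw [this]; ring
      · intro ψ hψ
        simp only [Finset.mem_insert, Finset.mem_singleton] at hψ
        simp only [Finset.mem_filter, Finset.mem_univ, true_and]
        rcases hψ with rfl | rfl
        · exact hsφ
        · rw [D.sConj_sConj]; exact hsφ.symm
      · intro ψ hψ hnot
        simp only [Finset.mem_insert, Finset.mem_singleton, not_or] at hnot
        simp only [Finset.mem_filter, Finset.mem_univ, true_and] at hψ
        rw [hp ψ hψ hnot.1 hnot.2]; simp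
  have hta := hval a hmoved0
  have htb := hval b fun ψ h1 h2 h3 => by
    rw [← pair ψ h2 (fun e => h3 (by rw [← e, D.sConj_sConj]))]; exact hmoved0 ψ h1 h2 h3
  have hC : D.C b = D.C a := Finset.sum_congr rfl fun μ _ => (hlam μ).symm
  have hE := D.E_moved hφ
  unfold Four.E at hE
  rw [← Finset.sum_subset (Finset.subset_univ ({a, b} : Finset _)) (fun x _ hx => by
      simp only [Finset.mem_insert, Finset.mem_singleton, not_or] at hx
      rw [hzero x hx.1 hx.2]; simp), Finset.sum_pair hba.symm, hcb, deg_spec, deg_spec, hdeg, hta, htb, hC, hcb] at hE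
  have hdne : (deg a : ℂ) ≠ 0 := Nat.cast_ne_zero.mpr (deg_pos a).ne'
  field_simp at hE
  push_cast at hE
  have h8 : (D.c a φ : ℂ) * ((D.C a : ℂ) * (D.c a φ : ℂ) * (φ : D.O → ℂ) 1) = 0 := by
    linear_combination hE / 8
  have hne : (D.c a φ : ℂ) ≠ 0 := Int.cast_ne_zero.mpr ha
  simp only [mul_eq_zero, hne, irr_ne_zero φ.2, or_false, false_or] at h8
  exact_mod_cast h8

theorem value_supp {μ : D.O0 →* ℂˣ} {χ : IrrCharacter X} (h : χ ∈ D.supp μ) :
    (χ : X → ℂ) D.t = (D.C χ : ℂ) := by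
  classical
  have hC : D.C χ ≠ 0 := fun e => by
    have := D.C_odd h
    rw [e] at this
    exact absurd this (by decide)
  have h0 : ∀ ψ, D.sConj ψ ≠ ψ → D.c χ ψ = 0 := fun ψ hψ => by
    by_contra hne; exact hC (D.C_of_moved hψ hne)
  rw [D.value_t, ← Finset.sum_subset (Finset.subset_univ (Finset.univ.image D.lam)) (fun ψ _ hψ => by
    rw [h0 ψ fun e => hψ (by obtain ⟨ν, rfl⟩ := D.fixed_eq_lam e; exact Finset.mem_image.mpr ⟨ν, Finset.mem_univ _, rfl⟩)]
    simp), Finset.sum_image fun x _ y _ e => D.lam_injective e, C, Int.cast_sum]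
  exact Finset.sum_congr rfl fun ν _ => by simp [D.lam_apply]

theorem deg_mod {μ : D.O0 →* ℂˣ} {χ : IrrCharacter X} (h : χ ∈ D.supp μ) :
    (4 : ℤ) ∣ (deg χ : ℤ) - D.C χ :=
  D.degree_mod_four χ (deg_spec χ) (D.value_supp h)

/-- The rational value of `E` at a linear character. -/
noncomputable def e (μ : D.O0 →* ℂˣ) : ℚ :=
  ∑ χ ∈ D.supp μ, (D.c χ (D.lam μ) : ℚ) * (D.C χ : ℚ) ^ 2 / (deg χ : ℚ)

theorem e_cast (μ : D.O0 →* ℂˣ) : ((D.e μ : ℚ) : ℂ) = D.E (D.lam μ) := by
  classical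
  unfold Four.E Four.e
  rw [← Finset.sum_subset (Finset.subset_univ (D.supp μ)) (fun χ _ hχ => by
    rw [mem_supp, not_not] at hχ; rw [hχ]; simp)]
  push_cast
  refine Finset.sum_congr rfl fun χ hχ => ?_
  rw [D.value_supp hχ, deg_spec]

theorem e_const (μ ν : D.O0 →* ℂˣ) : D.e μ = D.e ν := by
  have h := D.E_lam μ ν
  rw [← D.e_cast, ← D.e_cast] at h
  exact_mod_cast h

theorem one_mem_supp : one ∈ D.supp (1 : D.O0 →* ℂˣ) := by
  classical
  rw [mem_supp, c_one, if_pos rfl]; decide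

theorem ne_one_of_supp {μ : D.O0 →* ℂˣ} (hμ : μ ≠ 1) {χ : IrrCharacter X} (h : χ ∈ D.supp μ) : χ ≠ one := by
  classical
  rintro rfl
  rw [mem_supp, c_one, if_neg fun e => hμ (D.lam_injective e)] at h
  exact h rfl

theorem deg_ge_seven (hfaith : Faithful X) {μ : D.O0 →* ℂˣ} (hμ : μ ≠ 1) {χ : IrrCharacter X}
    (h : χ ∈ D.supp μ) : 7 ≤ deg χ := by
  have h6 := D.six_le_degree hfaith χ (D.ne_one_of_supp hμ h) (deg_spec χ)
  obtain ⟨k, hk⟩ := D.C_odd h
  have := D.deg_mod h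
  omega

theorem e_principal (hfaith : Faithful X) :
    5 / 7 ≤ D.e 1 ∧ D.e 1 ≠ 8 / 7 ∧ D.e 1 ≠ 8 / 11 := by
  classical
  have hone : (1 : D.O0 →* ℂˣ).comp D.cY = 1 := rfl
  have hcard : ((D.supp 1).erase one).card = 3 := by
    rw [Finset.card_erase_of_mem D.one_mem_supp, D.card_supp]
  let ι := ((D.supp 1).erase one).equivFinOfCardEq hcard
  let χ : Fin 3 → IrrCharacter X := fun i => (ι.symm i).1
  have hmem : ∀ i, χ i ∈ D.supp 1 := fun i => (Finset.mem_erase.mp (ι.symm i).2).2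
  have hsum : ∀ {M : Type} [AddCommMonoid M] (f : IrrCharacter X → M),
      ∑ x ∈ D.supp 1, f x = f one + ∑ i, f (χ i) := by
    intro M _ f
    rw [← Finset.add_sum_erase _ f D.one_mem_supp]
    congr 1
    rw [← Finset.sum_coe_sort]
    exact (Fintype.sum_equiv ι.symm _ _ fun i => rfl).symm
  have hC : ∀ x ∈ D.supp 1, D.C x = D.c x (D.lam 1) := fun x hx => D.C_fixed hx hone
  have hc1 : D.c (one (X := X)) (D.lam 1) = 1 := by rw [c_one, if_pos rfl]
  have hd1 : deg (one (X := X)) = 1 := by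
    have : ((deg (one (X := X)) : ℕ) : ℂ) = ((1 : ℕ) : ℂ) := by rw [← deg_spec]; simp [one]
    exact_mod_cast this
  have he : D.e 1 = 1 + ∑ i, ((D.c (χ i) (D.lam 1) : ℤ) : ℚ) / (deg (χ i) : ℚ) := by
    unfold Four.e
    rw [hsum]
    congr 1
    · rw [hC _ D.one_mem_supp, hc1, hd1]; norm_num
    · refine Finset.sum_congr rfl fun i _ => ?_
      rw [hC _ (hmem i)]
      rcases D.c_pm (hmem i) with h | h <;> rw [h] <;> norm_num
  rw [he]
  refine arith_principal (fun i => D.c (χ i) (D.lam 1)) (fun i => D.c_pm (hmem i)) (fun i => deg (χ i))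
    (fun i => D.six_le_degree hfaith _ (Finset.mem_erase.mp (ι.symm i).2).1 (deg_spec _))
    (fun i => by have := D.deg_mod (hmem i); rwa [hC _ (hmem i)] at this) ?_
  have h := D.sum_deg_int (D.lam 1)
  rw [← Finset.sum_subset (Finset.subset_univ (D.supp 1)) (fun x _ hx => by
    rw [mem_supp, not_not] at hx; rw [hx, zero_mul]), hsum, hc1, hd1] at h
  simpa using h

theorem exists_hom_ne_one : ∃ μ : D.O0 →* ℂˣ, μ ≠ 1 := by
  obtain ⟨x, hx, k, hk, hne⟩ := D.hmove
  have hx1 : (⟨x, hx⟩ : D.O0) ≠ 1 := fun e => hne (by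
    rw [show x = 1 from congrArg Subtype.val e]; group)
  letI : CommGroup D.O0 := { (inferInstance : Group D.O0) with
    mul_comm := fun a b => Subtype.ext (D.hab a a.2 b b.2) }
  obtain ⟨μ, hμ⟩ := CommGroup.exists_apply_ne_one_of_hasEnoughRootsOfUnity D.O0 ℂ hx1
  exact ⟨μ, fun e => hμ (by rw [e]; rfl)⟩

include D in
/-- No group carries the data. -/
theorem false_of_faithful (hfaith : Faithful X) : False := by
  classical
  obtain ⟨μ, hμ⟩ := D.exists_hom_ne_one
  obtain ⟨hlow, hne1, hne2⟩ := D.e_principal hfaith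
  rw [← D.e_const μ 1] at hlow hne1 hne2
  by_cases hfix : μ.comp D.cY = μ
  · have hle : D.e μ ≤ ∑ _χ ∈ D.supp μ, (1 / 7 : ℚ) := by
      unfold Four.e
      refine Finset.sum_le_sum fun χ hχ => ?_
      rw [D.C_fixed hχ hfix]
      have h7 : (7 : ℚ) ≤ deg χ := by exact_mod_cast D.deg_ge_seven hfaith hμ hχ
      rcases D.c_pm hχ with h | h <;> rw [h] <;> push_cast <;> rw [div_le_iff₀ (by linarith)] <;> linarith
    rw [Finset.sum_const, D.card_supp, nsmul_eq_mul] at hle
    norm_num at hle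
    linarith
  · let ι := (D.supp μ).equivFinOfCardEq (D.card_supp μ)
    let χ : Fin 4 → IrrCharacter X := fun i => (ι.symm i).1
    have hmem : ∀ i, χ i ∈ D.supp μ := fun i => (ι.symm i).2
    have hsum : ∀ {M : Type} [AddCommMonoid M] (f : IrrCharacter X → M),
        ∑ x ∈ D.supp μ, f x = ∑ i, f (χ i) := by
      intro M _ f
      rw [← Finset.sum_coe_sort]
      exact (Fintype.sum_equiv ι.symm _ _ fun i => rfl).symm
    have hsupp : ∀ k, D.supp (D.orb μ k) = D.supp μ := by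
      intro k
      fin_cases k <;> simp [Four.orb, D.supp_cY]
    let v : Fin 3 → Fin 4 → ℤ := fun k i => D.c (χ i) (D.lam (D.orb μ k))
    have hres : ∀ (k : Fin 3) (f : IrrCharacter X → ℤ),
        ∑ x : IrrCharacter X, D.c x (D.lam (D.orb μ k)) * f x = ∑ i, v k i * f (χ i) := by
      intro k f
      rw [← Finset.sum_subset (Finset.subset_univ (D.supp μ)) (fun x _ hx => by
        rw [← hsupp k, mem_supp, not_not] at hx; rw [hx, zero_mul]), hsum]
    have h := arith_moved v (fun k i => D.c_pm (by rw [hsupp]; exact hmem i)) (fun k l hkl => by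
        have := D.orth_lam (D.orb μ k) (D.orb μ l)
        rwa [if_neg fun e => hkl (D.orb_distinct hfix e), hres] at this)
      (fun i => deg (χ i)) (fun i => D.deg_ge_seven hfaith hμ (hmem i))
      (fun k => by rw [← hres k (fun x => (deg x : ℤ))]; exact D.sum_deg_int _)
      (fun i => by have := D.deg_mod (hmem i); rwa [D.C_moved (hmem i) hfix] at this)
    have he : D.e μ = ∑ i, (v 0 i : ℚ) * ((v 0 i + v 1 i + v 2 i : ℤ) : ℚ) ^ 2 / (deg (χ i) : ℚ) := by
      unfold Four.e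
      rw [hsum]
      refine Finset.sum_congr rfl fun i _ => ?_
      rw [D.C_moved (hmem i) hfix]
      rfl
    rw [← he] at h
    rcases h with h | h | h
    · linarith
    · exact hne1 h
    · exact hne2 h

end Four

end CfsgLib.MinNonCA
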