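import Cfsg.Agent.Lib.MinNonCA.AbelianFour
import Cfsg.Agent.Lib.MinNonCA.FourFinal
import Cfsg.Agent.Lib.Frobenius.More

/-!
Abelian Sylow 2-subgroups: the fixed points of `s` in the core lie in the centre.
-/

set_option autoImplicit false
set_option linter.style.haveILetI false
set_option linter.unusedSectionVars false

namespace CfsgLib.MinNonCA

open Subgroup

universe u

variable {L : Type u} [Group L] [Finite L]

/-- In a non-commutative simple group non-trivial irreducible characters are faithful. -/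
theorem faithful_of_simple {X : Type u} [Group X] [Fintype X] [IsSimpleGroup X] : Four.Faithful X := by
  intro χ hχ g hg
  have hc := CfsgLib.CharTheory.isCharacter_of_irr χ.2
  rcases (CfsgLib.CharTheory.charKernel_normal _ hc).eq_bot_or_eq_top with e | e
  · exact Subgroup.mem_bot.mp (e ▸ (CfsgLib.CharTheory.mem_charKernel hc g).mpr hg)
  · refine absurd (Subtype.ext ?_) hχ
    exact CfsgLib.CharTheory.irr_eq_one_of_kernel_top χ.2 fun x =>
      (CfsgLib.CharTheory.mem_charKernel hc x).mp (e ▸ Subgroup.mem_top x)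

namespace AbFour

variable (D : AbFour L)

/-- The part of `O` central in the centraliser of `t`. -/
def Lt : Subgroup L := D.O ⊓ Subgroup.centralizer {c | c * D.t = D.t * c}

theorem mem_Lt {u : L} : u ∈ D.Lt ↔ u ∈ D.O ∧ ∀ c, c * D.t = D.t * c → c * u = u * c := by
  rw [Lt, Subgroup.mem_inf, Subgroup.mem_centralizer_iff]
  rfl

theorem center_le_Lt : Subgroup.center L ≤ D.Lt := fun _ hz =>
  D.mem_Lt.mpr ⟨D.center_le hz, fun c _ => Subgroup.mem_center_iff.mp hz c⟩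

theorem Lt_le_O0 : D.Lt ≤ D.O0 := fun _ hu => by
  obtain ⟨hu1, hu2⟩ := D.mem_Lt.mp hu
  exact D.mem_O0.mpr ⟨hu1, (hu2 D.s (D.S_t D.hs)).symm⟩

theorem n_not_C : D.n * D.t ≠ D.t * D.n := fun e => D.hst (by
  rw [← D.hnt, mul_inv_eq_iff_eq_mul.mpr e])

theorem Lt_disjoint {u : L} (hu : u ∈ D.Lt) (hu' : D.n * u * D.n⁻¹ ∈ D.Lt) : u ∈ Subgroup.center L := by
  by_contra huc
  exact D.n_not_C (D.toAbData.disjoint_conj huc (fun c hc => (D.mem_Lt.mp hu).2 c (D.toAbData.mem_C.mp hc))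
    fun c hc => (D.mem_Lt.mp hu').2 c (D.toAbData.mem_C.mp hc))

theorem n_O0 {u : L} (hu : u ∈ D.O0) : D.n * u * D.n⁻¹ ∈ D.O0 := by
  obtain ⟨hu1, hus⟩ := D.mem_O0.mp hu
  set x := D.n * u * D.n⁻¹ with hx
  have h1 : Commute x D.s := by
    show x * D.s = D.s * x
    rw [hx, ← D.hnt, show D.n * u * D.n⁻¹ * (D.n * D.t * D.n⁻¹) = D.n * (u * D.t) * D.n⁻¹ by group, D.hOt u hu1]
    group
  have h2 : Commute x (D.t * D.s) := by
    show x * (D.t * D.s) = D.t * D.s * x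
    rw [hx, ← D.hns, show D.n * u * D.n⁻¹ * (D.n * D.s * D.n⁻¹) = D.n * (u * D.s) * D.n⁻¹ by group, hus]
    group
  have h3 : Commute x D.t := by
    have := h2.mul_right h1
    rwa [mul_assoc, D.hs2, mul_one] at this
  obtain ⟨v, hv, w, hw, e⟩ := D.hC x h3.eq
  have hvs : v * D.s = D.s * v := D.hS v hv D.s D.hs
  have hw' : w = v⁻¹ * x := by rw [e, inv_mul_cancel_left]
  have hws : w * D.s = D.s * w := by
    rw [hw']
    exact ((show Commute v D.s from hvs).inv_left.mul_left h1).eq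
  have hw0 := D.mem_O0.mpr ⟨hw, hws⟩
  suffices hv1 : v = 1 by rw [e, hv1, one_mul]; exact hw0
  have hxw : Commute x w⁻¹ :=
    (show Commute x w from D.comm_of_s h3.eq (D.hOt w hw) h1.eq hws).inv_right
  have hv' : v = x * w⁻¹ := eq_mul_inv_of_mul_eq e.symm
  refine eq_one_of_odd_pow D.hOodd (D.S_sq hv) ?_
  have p1 := congrArg Subtype.val (pow_card_eq_one' (G := D.O) (x := ⟨u, hu1⟩))
  have p2 := congrArg Subtype.val (pow_card_eq_one' (G := D.O) (x := ⟨w, hw⟩))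
  rw [Subgroup.coe_pow, OneMemClass.coe_one] at p1 p2
  rw [hv', hxw.mul_pow, hx, conj_pow, p1, inv_pow, p2]
  group

/-- An element of `O` centralising an element of `O0` outside `Lt` is in `O0`. -/
theorem O0_cent {x y : L} (hx : x ∈ D.O0) (hxL : x ∉ D.Lt) (hy : y ∈ D.O) (h : y * x = x * y) : y ∈ D.O0 := by
  obtain ⟨hx1, hxs⟩ := D.mem_O0.mp hx
  refine D.mem_O0.mpr ⟨hy, ?_⟩
  have hnc : ¬ ∀ c, c * D.t = D.t * c → c * x = x * c := fun hall => hxL (D.mem_Lt.mpr ⟨hx1, hall⟩)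
  push Not at hnc
  obtain ⟨c, hct, hcx⟩ := hnc
  exact D.q.hyp.comm D.toAbData.C_ne_top (D.toAbData.mem_C.mpr (D.hOt x hx1)) (D.toAbData.mem_C.mpr (D.hOt y hy))
    (D.toAbData.mem_C.mpr (D.S_t D.hs)) (D.toAbData.mem_C.mpr hct) h hxs.symm hcx

/-- `O0` is a TI subgroup modulo `Lt`. -/
theorem O0_ti {x g : L} (hx : x ∈ D.O0) (hxL : x ∉ D.Lt) (hg : g ∈ D.O) (h : g * x * g⁻¹ ∈ D.O0) : g ∈ D.O0 := by
  obtain ⟨hx1, hxs⟩ := D.mem_O0.mp hx
  obtain ⟨-, hys⟩ := D.mem_O0.mp h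
  set d := g⁻¹ * (D.s * g * D.s) with hd
  have hdO : d ∈ D.O := mul_mem (inv_mem hg) (D.s_norm hg)
  have hsinv : D.s⁻¹ = D.s := inv_eq_of_mul_eq_one_right D.hs2
  have hfix : ∀ a : L, a * D.s = D.s * a → D.s * a * D.s = a := fun a ha => by
    rw [← ha, mul_assoc, D.hs2, mul_one]
  have hdx : d * x = x * d := by
    rw [← mul_inv_eq_iff_eq_mul]
    calc d * x * d⁻¹ = g⁻¹ * (D.s * (g * (D.s * x * D.s⁻¹) * g⁻¹) * D.s⁻¹) * g := by rw [hd]; group
      _ = g⁻¹ * (D.s * (g * x * g⁻¹) * D.s⁻¹) * g := by rw [hsinv, hfix x hxs]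
      _ = g⁻¹ * (g * x * g⁻¹) * g := by rw [hsinv, hfix _ hys]
      _ = x := by group
  obtain ⟨-, hds⟩ := D.mem_O0.mp (D.O0_cent hx hxL hdO hdx)
  have h1 : D.s * d * D.s = d⁻¹ := by
    calc D.s * d * D.s = D.s * g⁻¹ * D.s * g * (D.s * D.s) := by rw [hd]; group
      _ = D.s * g⁻¹ * D.s * g := by rw [D.hs2, mul_one]
      _ = d⁻¹ := by rw [hd, mul_inv_rev, mul_inv_rev, mul_inv_rev, hsinv, inv_inv]; group
  rw [hfix d hds] at h1
  have h2 : D.s * g * D.s = g := by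
    have := eq_one_of_self_inv D.hOodd hdO (eq_inv_iff_mul_eq_one.mp h1)
    exact (inv_mul_eq_one.mp this).symm
  refine D.mem_O0.mpr ⟨hg, ?_⟩
  calc g * D.s = D.s * g * D.s * D.s := by rw [h2]
    _ = D.s * g := by rw [mul_assoc, D.hs2, mul_one]

theorem exists_moving : ∃ u ∈ D.O, u ∉ D.O0 := by
  by_contra hall
  push Not at hall
  obtain ⟨c, hct, hcs⟩ := D.hsc
  apply hcs
  obtain ⟨v, hv, u, hu, rfl⟩ := D.hC c hct
  exact (show Commute (v * u) D.s from
    (show Commute v D.s from D.hS v hv D.s D.hs).mul_left (D.mem_O0.mp (hall u hu)).2).eq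

theorem Lt_normal : (D.Lt.subgroupOf D.O).Normal := by
  refine ⟨fun x hx g => ?_⟩
  rw [Subgroup.mem_subgroupOf] at hx ⊢
  have h := (D.mem_Lt.mp hx).2 g (D.hOt g g.2)
  show (g : L) * x * (g : L)⁻¹ ∈ D.Lt
  rwa [h, mul_inv_cancel_right]

/-- The kernel part of `O` when `s` has fixed points outside the centre. -/
theorem exists_kernel (h0 : ∃ u ∈ D.O0, u ∉ Subgroup.center L) : ∃ P : Subgroup L, P ≤ D.O ∧
    (∀ p ∈ P, p ∈ D.O0 → p ∈ D.Lt) ∧ (∀ u ∈ D.O, ∃ p ∈ P, ∃ w ∈ D.O0, u = p * w) ∧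
    (∀ u ∈ D.O, ∀ p ∈ P, u * p * u⁻¹ ∈ P) ∧ (∀ p ∈ P, D.s * p * D.s ∈ P) ∧
    ∀ a ∈ P, ∀ b ∈ P, a * b * a⁻¹ * b⁻¹ ∈ Subgroup.center L := by
  classical
  haveI := D.Lt_normal
  set A := D.Lt.subgroupOf D.O with hA
  set H : Subgroup (↥D.O ⧸ A) := (D.O0.subgroupOf D.O).map (QuotientGroup.mk' A) with hH
  have hHmem : ∀ {x : D.O}, (QuotientGroup.mk' A x) ∈ H ↔ (x : L) ∈ D.O0 := by
    intro x
    constructor
    · rintro ⟨y, hy, e⟩
      obtain ⟨z, hz, rfl⟩ := (QuotientGroup.mk'_eq_mk' A).mp e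
      exact mul_mem (show (y : L) ∈ D.O0 from hy) (D.Lt_le_O0 hz)
    · exact fun hx => ⟨x, hx, rfl⟩
  have hfrob : Cfsg.IsFrobeniusComplement H := by
    refine ⟨fun e => ?_, fun e => ?_, fun g hg => ?_⟩
    · obtain ⟨u, hu, huz⟩ := h0
      apply huz
      have hle : ∀ w ∈ D.O0, w ∈ D.Lt := fun w hw => by
        have h1 : QuotientGroup.mk' A ⟨w, (D.mem_O0.mp hw).1⟩ ∈ H := hHmem.mpr hw
        rw [e, Subgroup.mem_bot] at h1
        exact (QuotientGroup.eq_one_iff (N := A) ⟨w, (D.mem_O0.mp hw).1⟩).mp h1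
      exact D.Lt_disjoint (hle u hu) (hle _ (D.n_O0 hu))
    · obtain ⟨u, hu, hu0⟩ := D.exists_moving
      exact hu0 (hHmem.mp (e ▸ Subgroup.mem_top _ : QuotientGroup.mk' A ⟨u, hu⟩ ∈ H))
    · rw [Subgroup.eq_bot_iff_forall]
      intro x hx
      obtain ⟨hxH, hxg⟩ := Subgroup.mem_inf.mp hx
      rw [Subgroup.mem_pointwise_smul_iff_inv_smul_mem] at hxg
      obtain ⟨g, rfl⟩ := QuotientGroup.mk'_surjective A g
      obtain ⟨x, rfl⟩ := QuotientGroup.mk'_surjective A x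
      have hxg' : QuotientGroup.mk' A (g⁻¹ * x * g) ∈ H := by
        simpa [MulAut.conj_symm_apply] using hxg
      by_contra hx1
      have hyL : (g : L)⁻¹ * x * g ∉ D.Lt := fun hmem => hx1 ((QuotientGroup.eq_one_iff (N := A) x).mpr (by
        have := (inferInstance : A.Normal).conj_mem (g⁻¹ * x * g) hmem g
        rwa [show g * (g⁻¹ * x * g) * g⁻¹ = x by group] at this))
      refine hg (hHmem.mpr (D.O0_ti (hHmem.mp hxg') hyL g.2 ?_))
      show (g : L) * ((g : L)⁻¹ * x * g) * (g : L)⁻¹ ∈ D.O0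
      rw [show (g : L) * ((g : L)⁻¹ * x * g) * (g : L)⁻¹ = x by group]
      exact hHmem.mp hxH
  obtain ⟨N, -, hNn, hNH, -⟩ := CfsgLib.Frob.exists_nilpotent_kernel hfrob
  haveI := hNn
  haveI hNc : N.Characteristic := CfsgLib.Frob.kernel_characteristic hfrob hNH
  have hsinv : D.s⁻¹ = D.s := inv_eq_of_mul_eq_one_right D.hs2
  -- the action of `s`
  let σ : D.O ≃* D.O :=
    { toFun := fun u => ⟨D.s * u * D.s, D.s_norm u.2⟩
      invFun := fun u => ⟨D.s * u * D.s, D.s_norm u.2⟩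
      left_inv := fun u => Subtype.ext (show D.s * (D.s * (u : L) * D.s) * D.s = u by
        calc D.s * (D.s * (u : L) * D.s) * D.s = (D.s * D.s) * u * (D.s * D.s) := by group
          _ = u := by rw [D.hs2]; group)
      right_inv := fun u => Subtype.ext (show D.s * (D.s * (u : L) * D.s) * D.s = u by
        calc D.s * (D.s * (u : L) * D.s) * D.s = (D.s * D.s) * u * (D.s * D.s) := by group
          _ = u := by rw [D.hs2]; group)
      map_mul' := fun a b => Subtype.ext (show D.s * ((a : L) * b) * D.s = D.s * a * D.s * (D.s * b * D.s) by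
        calc D.s * ((a : L) * b) * D.s = D.s * a * 1 * b * D.s := by group
          _ = D.s * a * (D.s * D.s) * b * D.s := by rw [D.hs2]
          _ = _ := by group) }
  have hσfix : ∀ u : D.O, (u : L) ∈ D.O0 → σ u = u := fun u hu => Subtype.ext
    (show D.s * (u : L) * D.s = u by rw [← (D.mem_O0.mp hu).2, mul_assoc, D.hs2, mul_one])
  have hσA : A.map σ.toMonoidHom = A := by
    ext x
    constructor
    · rintro ⟨y, hy, rfl⟩
      rw [show σ.toMonoidHom y = y from hσfix y (D.Lt_le_O0 hy)]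
      exact hy
    · exact fun hx => ⟨x, hx, hσfix x (D.Lt_le_O0 hx)⟩
  let τ : (↥D.O ⧸ A) ≃* (↥D.O ⧸ A) := QuotientGroup.congr A A σ hσA
  have hτ : ∀ u : D.O, τ (QuotientGroup.mk' A u) = QuotientGroup.mk' A (σ u) := fun u => rfl
  have hτN : ∀ a ∈ N, τ a ∈ N := fun a ha => by
    have := Subgroup.characteristic_iff_map_eq.mp hNc τ
    rw [← this]
    exact ⟨a, ha, rfl⟩
  -- `τ` inverts `N`
  have hNcomm : ∀ a ∈ N, ∀ b ∈ N, a * b = b * a := by
    let φ : N →* N := (τ.toMonoidHom.comp N.subtype).codRestrict N fun a => hτN a a.2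
    have hinvol : Function.Involutive φ := by
      rintro ⟨a, ha⟩
      obtain ⟨u, rfl⟩ := QuotientGroup.mk'_surjective A a
      refine Subtype.ext ?_
      show τ (τ (QuotientGroup.mk' A u)) = QuotientGroup.mk' A u
      rw [hτ, hτ]
      exact congrArg _ (σ.left_inv u)
    have hfpf : MonoidHom.FixedPointFree φ := by
      rintro ⟨a, ha⟩ hfix
      obtain ⟨u, rfl⟩ := QuotientGroup.mk'_surjective A a
      have e : QuotientGroup.mk' A (σ u) = QuotientGroup.mk' A u := (hτ u).symm.trans (congrArg Subtype.val hfix)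
      obtain ⟨z, hz, e2⟩ := (QuotientGroup.mk'_eq_mk' A).mp e.symm
      have e3 : u = u * (z * z) := by
        calc u = σ (σ u) := (σ.left_inv u).symm
          _ = σ (u * z) := by rw [e2]
          _ = u * (z * z) := by rw [map_mul, hσfix z (D.Lt_le_O0 hz), ← e2, mul_assoc]
      have hz1 : (z : L) = 1 := eq_one_of_self_inv D.hOodd z.2 (congrArg Subtype.val (left_eq_mul.mp e3))
      have hu0 : (u : L) ∈ D.O0 := D.mem_O0.mpr ⟨u.2, by
        have e4 : D.s * (u : L) * D.s = u := by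
          have e5 := congrArg Subtype.val e2
          rw [Subgroup.coe_mul, hz1, mul_one] at e5
          exact e5.symm
        calc (u : L) * D.s = D.s * u * D.s * D.s := by rw [e4]
          _ = D.s * u := by rw [mul_assoc, D.hs2, mul_one]⟩
      exact Subtype.ext (Subgroup.disjoint_def.mp hNH.disjoint ha (hHmem.mpr hu0))
    exact fun a ha b hb => congrArg Subtype.val (hfpf.commute_all_of_involutive hinvol ⟨a, ha⟩ ⟨b, hb⟩).eq
  have hcop : (Nat.card H).Coprime (Nat.card N) := by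
    have := CfsgLib.Frob.coprime_index hfrob
    rwa [hNH.index_eq_card] at this
  refine ⟨(N.comap (QuotientGroup.mk' A)).map D.O.subtype, Subgroup.map_subtype_le _, ?_, ?_, ?_, ?_, ?_⟩
  · rintro _ ⟨p, hp, rfl⟩ hp0
    exact (QuotientGroup.eq_one_iff (N := A) p).mp (Subgroup.disjoint_def.mp hNH.disjoint hp (hHmem.mpr hp0))
  · intro u hu
    obtain ⟨⟨⟨a, ha⟩, ⟨b, hb⟩⟩, hab⟩ := hNH.2 (QuotientGroup.mk' A ⟨u, hu⟩)
    obtain ⟨w, hw, rfl⟩ := hb
    refine ⟨u * (w : L)⁻¹, ⟨⟨u, hu⟩ * w⁻¹, ?_, rfl⟩, w, hw, by group⟩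
    show QuotientGroup.mk' A (⟨u, hu⟩ * w⁻¹) ∈ N
    rw [map_mul, map_inv, ← hab]
    simpa using ha
  · rintro u hu _ ⟨p, hp, rfl⟩
    exact ⟨⟨u, hu⟩ * p * ⟨u, hu⟩⁻¹, by
      show QuotientGroup.mk' A _ ∈ N
      rw [map_mul, map_mul, map_inv]
      exact hNn.conj_mem _ hp _, rfl⟩
  · rintro _ ⟨p, hp, rfl⟩
    exact ⟨σ p, by
      show QuotientGroup.mk' A (σ p) ∈ N
      rw [← hτ]
      exact hτN _ hp, rfl⟩
  · rintro _ ⟨a, ha, rfl⟩ _ ⟨b, hb, rfl⟩
    show (a : L) * b * (a : L)⁻¹ * (b : L)⁻¹ ∈ Subgroup.center L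
    have hcA : a * b * a⁻¹ * b⁻¹ ∈ A := by
      rw [← QuotientGroup.eq_one_iff (N := A)]
      show QuotientGroup.mk' A (a * b * a⁻¹ * b⁻¹) = 1
      rw [map_mul, map_mul, map_mul, map_inv, map_inv, hNcomm _ ha _ hb, mul_inv_cancel_right, mul_inv_cancel]
    set c := (a : L) * b * (a : L)⁻¹ * (b : L)⁻¹ with hc
    have hcL : c ∈ D.Lt := hcA
    -- the order is prime to `|H|`
    have hcN : c ^ Nat.card N = 1 := by
      have hak : (a : L) ^ Nat.card N ∈ D.Lt := by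
        have h1 : QuotientGroup.mk' A (a ^ Nat.card N) = 1 := by
          rw [map_pow]
          have := congrArg Subtype.val (pow_card_eq_one' (G := N) (x := ⟨_, ha⟩))
          rwa [Subgroup.coe_pow, OneMemClass.coe_one] at this
        exact (QuotientGroup.eq_one_iff (N := A) _).mp h1
      have hcc : Commute c (b : L) := ((D.mem_Lt.mp hcL).2 b (D.hOt b b.2)).symm
      have hca : Commute c (a : L) := ((D.mem_Lt.mp hcL).2 a (D.hOt a a.2)).symm
      have hstep : ∀ k : ℕ, (a : L) ^ k * b = c ^ k * b * (a : L) ^ k := by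
        intro k
        induction k with
        | zero => simp
        | succ k ih =>
          calc (a : L) ^ (k + 1) * b = a * ((a : L) ^ k * b) := by rw [pow_succ']; group
            _ = a * c ^ k * b * (a : L) ^ k := by rw [ih]; group
            _ = c ^ k * (a * b) * (a : L) ^ k := by rw [(hca.pow_left k).symm.eq]; group
            _ = c ^ k * (c * b * a) * (a : L) ^ k := by
              rw [show (a : L) * b = c * b * a by rw [hc]; group]
            _ = c ^ (k + 1) * b * (a : L) ^ (k + 1) := by rw [pow_succ, pow_succ']; group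
      have h2 := hstep (Nat.card N)
      rw [← (D.mem_Lt.mp hak).2 b (D.hOt b b.2)] at h2
      exact (mul_eq_right.mp (mul_right_cancel h2).symm)
    have hcH : c ^ Nat.card H ∈ Subgroup.center L := by
      refine D.Lt_disjoint (pow_mem hcL _) ?_
      have hnc := D.n_O0 (D.Lt_le_O0 hcL)
      have h1 := congrArg Subtype.val (pow_card_eq_one' (G := H)
        (x := ⟨_, (hHmem (x := ⟨_, (D.mem_O0.mp hnc).1⟩)).mpr hnc⟩))
      rw [Subgroup.coe_pow, OneMemClass.coe_one] at h1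
      have h2 := (QuotientGroup.eq_one_iff (N := A) _).mp ((map_pow (QuotientGroup.mk' A) _ _).trans h1)
      rw [← conj_pow]
      exact h2
    obtain ⟨m, hm⟩ := exists_pow_eq_self_of_coprime (n := Nat.card H)
      (hcop.coprime_dvd_right (orderOf_dvd_of_pow_eq_one hcN))
    exact hm ▸ pow_mem hcH m

/-- The fixed points of `s` in `O` are central. -/
theorem fixed_le_center : ∀ u ∈ D.O0, u ∈ Subgroup.center L := by
  by_contra hall
  push Not at hall
  obtain ⟨P, hPO, hP0, hfac, hPn, hPs, hPc⟩ := D.exists_kernel hall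
  haveI : Fintype (L ⧸ Subgroup.center L) := Fintype.ofFinite _
  haveI := D.q.simple
  have hsinv : D.s⁻¹ = D.s := inv_eq_of_mul_eq_one_right D.hs2
  have hscomm : ∀ a b : L, D.s * (a * b) * D.s = D.s * a * D.s * (D.s * b * D.s) := fun a b => by
    calc D.s * (a * b) * D.s = D.s * a * 1 * b * D.s := by group
      _ = D.s * a * (D.s * D.s) * b * D.s := by rw [D.hs2]
      _ = _ := by group
  have hsi : ∀ a : L, D.s * a⁻¹ * D.s = (D.s * a * D.s)⁻¹ := fun a => by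
    rw [mul_inv_rev, mul_inv_rev, hsinv, mul_assoc]
  have hss : ∀ a : L, D.s * (D.s * a * D.s) * D.s = a := fun a => by
    calc D.s * (D.s * a * D.s) * D.s = (D.s * D.s) * a * (D.s * D.s) := by group
      _ = a := by rw [D.hs2]; group
  have hπc : ∀ a ∈ P, ∀ b ∈ P, π a * π b = π b * π a := fun a ha b hb => by
    have h := π_eq_one.mpr (hPc a ha b hb)
    simp only [map_mul, map_inv] at h
    exact mul_inv_eq_iff_eq_mul.mp (mul_inv_eq_one.mp h)
  -- the inverted part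
  let K : Subgroup (L ⧸ Subgroup.center L) :=
    { carrier := {x | ∃ p ∈ P, x = π p ∧ π (D.s * p * D.s) = (π p)⁻¹}
      one_mem' := ⟨1, one_mem P, (map_one π).symm, by rw [mul_one, D.hs2, map_one, inv_one]⟩
      mul_mem' := by
        rintro _ _ ⟨a, ha, rfl, ha'⟩ ⟨b, hb, rfl, hb'⟩
        refine ⟨a * b, mul_mem ha hb, (map_mul π a b).symm, ?_⟩
        rw [hscomm, map_mul, ha', hb', map_mul, mul_inv_rev]
        exact ((show Commute (π a) (π b) from hπc a ha b hb).inv_inv).eq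
      inv_mem' := by
        rintro _ ⟨a, ha, rfl, ha'⟩
        exact ⟨a⁻¹, inv_mem ha, (map_inv π a).symm, by rw [hsi, map_inv, ha', map_inv]⟩ }
  have hO0fix : ∀ {a : L}, a ∈ D.O → π (D.s * a * D.s) = π a → a ∈ D.O0 := by
    intro a ha e
    refine D.mem_O0.mpr ⟨ha, D.lift_comm D.hs2 ?_⟩
    have hs' : π D.s * π D.s = 1 := by rw [← map_mul, D.hs2, map_one]
    rw [map_mul, map_mul] at e
    calc π a * π D.s = π D.s * π a * π D.s * π D.s := by rw [e]
      _ = π D.s * π a := by rw [mul_assoc, hs', mul_one]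
  have hOK : ∀ u ∈ D.O.map π, ∃ k ∈ K, ∃ w ∈ D.O0.map π, u = k * w := by
    rintro _ ⟨u, hu, rfl⟩
    obtain ⟨p, hp, w, hw, rfl⟩ := hfac u hu
    obtain ⟨m, hm⟩ := exists_root D.hOodd (hPO hp)
    set r := p ^ m with hr
    have hrP : r ∈ P := pow_mem hp m
    set r' := D.s * r * D.s with hr'
    have hr'P : r' ∈ P := hPs r hrP
    refine ⟨π (r * r'⁻¹), ⟨_, mul_mem hrP (inv_mem hr'P), rfl, ?_⟩, π (r * r') * π w, ?_, ?_⟩
    · rw [hscomm, hsi, hr', hss, ← map_inv, mul_inv_rev, inv_inv]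
    · rw [← map_mul]
      refine ⟨r * r' * w, mul_mem (hO0fix (D.O.mul_mem (hPO hrP) (hPO hr'P)) ?_) hw, rfl⟩
      rw [hscomm, hr', hss, ← hr', map_mul, map_mul]
      exact hπc r' hr'P r hrP
    · rw [← mul_assoc, ← map_mul π (r * r'⁻¹), map_mul π p w, ← hm]
      congr 1
      simp only [map_mul, map_inv]
      rw [mul_assoc, ← mul_assoc (π r')⁻¹,
        ← (show Commute (π r) (π r') from hπc r hrP r' hr'P).inv_right.eq, mul_assoc (π r) (π r')⁻¹,
        inv_mul_cancel, mul_one]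
  have hK_O : K ≤ D.O.map π := by
    rintro _ ⟨p, hp, rfl, -⟩
    exact ⟨p, hPO hp, rfl⟩
  have hK0 : ∀ k ∈ K, k ∈ D.O0.map π → k = 1 := by
    rintro _ ⟨p, hp, rfl, hinv⟩ ⟨w, hw, e⟩
    refine eq_one_of_self_inv D.odd_map ⟨p, hPO hp, rfl⟩ ?_
    obtain ⟨hw1, hws⟩ := D.mem_O0.mp hw
    rw [map_mul, map_mul, ← e, ← map_mul π D.s, ← hws, ← map_mul, mul_assoc, D.hs2, mul_one] at hinv
    rw [← e]
    exact eq_inv_iff_mul_eq_one.mp hinv
  have hfix1 : ∀ x ∈ D.O0, x ∉ D.Lt → ∀ k ∈ K, π x * k * (π x)⁻¹ = k → k = 1 := by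
    intro x hx hxL k hk hfix
    obtain ⟨p, hp, rfl, -⟩ := id hk
    obtain ⟨hx1, -⟩ := D.mem_O0.mp hx
    refine hK0 _ hk ⟨p, D.O0_ti hx hxL (hPO hp) ?_, rfl⟩
    have hc : π (p * x * p⁻¹) = π x := by
      simp only [map_mul, map_inv]
      rw [← mul_inv_eq_iff_eq_mul.mp hfix, mul_inv_cancel_right]
    obtain ⟨z, hz, e⟩ := π_eq hc
    rw [e]
    exact mul_mem hx (D.center_le_O0 hz)
  have hsπ : π D.s * π D.s = 1 := by rw [← map_mul, D.hs2, map_one]
  have hwfix : ∀ w ∈ D.O0.map π, π D.s * w * π D.s = w := by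
    rintro _ ⟨w, hw, rfl⟩
    rw [← map_mul, ← map_mul, ← (D.mem_O0.mp hw).2, mul_assoc, D.hs2, mul_one]
  have hKcomm : ∀ a ∈ K, ∀ b ∈ K, a * b = b * a := by
    rintro _ ⟨a, ha, rfl, -⟩ _ ⟨b, hb, rfl, -⟩
    exact hπc a ha b hb
  have hKinv : ∀ k ∈ K, π D.s * k * π D.s = k⁻¹ := by
    rintro _ ⟨a, ha, rfl, h⟩
    rw [← h, map_mul, map_mul]
  have hKn : ∀ u ∈ D.O.map π, ∀ k ∈ K, u * k * u⁻¹ ∈ K := by
    intro u hu k hk
    obtain ⟨k', hk', w, hw, rfl⟩ := hOK u hu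
    have h1 : w * k * w⁻¹ ∈ K := by
      obtain ⟨p, hp, rfl, hp'⟩ := id hk
      obtain ⟨w, hw', rfl⟩ := hw
      refine ⟨w * p * w⁻¹, hPn w (D.mem_O0.mp hw').1 p hp, by simp only [map_mul, map_inv], ?_⟩
      have e : D.s * w * D.s = w := by rw [← (D.mem_O0.mp hw').2, mul_assoc, D.hs2, mul_one]
      rw [hscomm, hscomm, hsi, e, map_mul, map_mul, map_inv, hp', map_mul, map_mul, map_inv]
      group
    rw [show k' * w * k * (k' * w)⁻¹ = k' * (w * k * w⁻¹) * k'⁻¹ by group, hKcomm k' hk' _ h1, mul_inv_cancel_right]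
    exact h1
  refine Four.false_of_faithful (X := L ⧸ Subgroup.center L)
    { t := π D.t
      s := π D.s
      y := π D.n
      O := D.O.map π
      O0 := D.O0.map π
      K := K
      ht2 := by rw [← map_mul, D.ht2, map_one]
      hs2 := hsπ
      ht1 := D.π_S_ne D.ht D.ht1
      hs1 := D.π_S_ne D.hs D.hs1
      hts := fun e => D.π_S_ne (mul_mem D.ht D.hs) D.ts_ne (by rw [map_mul, e, hsπ])
      hcomm := by rw [← map_mul, ← map_mul, D.t_comm_s]
      hodd := D.odd_map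
      hOt := by
        rintro _ ⟨u, hu, rfl⟩
        rw [← map_mul, ← map_mul, D.hOt u hu]
      hC := fun c hc => by
        obtain ⟨v, hv, u, hu, rfl⟩ := D.mem_centralizer_bar hc
        refine ⟨π v, ?_, π u, ⟨u, hu, rfl⟩, rfl⟩
        rcases D.hSmem v hv with rfl | rfl | rfl | rfl
        exacts [Or.inl (map_one π), Or.inr (Or.inl rfl), Or.inr (Or.inr (Or.inl rfl)),
          Or.inr (Or.inr (Or.inr (map_mul π D.t D.s)))]
      h8 := D.not_eight_quot
      hO0 := fun x => by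
        constructor
        · rintro ⟨u, hu, rfl⟩
          exact ⟨⟨u, (D.mem_O0.mp hu).1, rfl⟩, by rw [← map_mul, ← map_mul, (D.mem_O0.mp hu).2]⟩
        · rintro ⟨⟨u, hu, rfl⟩, h⟩
          exact ⟨u, D.mem_O0.mpr ⟨hu, D.lift_comm D.hs2 h⟩, rfl⟩
      hab := by
        rintro _ ⟨a, ha, rfl⟩ _ ⟨b, hb, rfl⟩
        obtain ⟨ha1, has⟩ := D.mem_O0.mp ha
        obtain ⟨hb1, hbs⟩ := D.mem_O0.mp hb
        rw [← map_mul, ← map_mul, D.comm_of_s (D.hOt a ha1) (D.hOt b hb1) has hbs]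
      hK := hK_O
      hKcomm := hKcomm
      hKinv := hKinv
      hKnorm := hKn
      hOK := hOK
      hyt := by rw [← map_inv, ← map_mul, ← map_mul, D.hnt]
      hys := by rw [← map_inv, ← map_mul, ← map_mul, D.hns, map_mul]
      hconj := fun a ha2 ha1 => ?_
      hfpf := ?_
      hmove := ?_ }
    faithful_of_simple
  · obtain ⟨g, rfl⟩ := QuotientGroup.mk'_surjective _ a
    rw [← map_mul, π_eq_one] at ha2
    set m := Nat.card (Subgroup.center L) with hmdef
    have hg2 : g ^ m * g ^ m = 1 := by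
      rw [← (Commute.refl g).mul_pow]
      have := congrArg Subtype.val (pow_card_eq_one' (G := Subgroup.center L) (x := ⟨_, ha2⟩))
      rwa [Subgroup.coe_pow, OneMemClass.coe_one] at this
    have hπg : π (g ^ m) = π g := by
      obtain ⟨j, hj⟩ := D.odd_center
      rw [show m = 2 * j + 1 from hj, map_pow, pow_succ, pow_mul, pow_two, ← map_mul, π_eq_one.mpr ha2, one_pow,
        one_mul]
    have hg1 : g ^ m ≠ 1 := fun e => ha1 (by rw [← hπg, e, map_one])
    exact hπg ▸ (π (L := L)).map_isConj (D.conj_all hg2 hg1)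
  · rintro _ ⟨x, hx, rfl⟩
    by_cases hxL : x ∈ D.Lt
    · refine Or.inl fun k hk => ?_
      obtain ⟨p, hp, rfl⟩ := hK_O hk
      rw [← map_inv, ← map_mul, ← map_mul, ← (D.mem_Lt.mp hxL).2 p (D.hOt p hp), mul_inv_cancel_right]
    · exact Or.inr (hfix1 x hx hxL)
  · obtain ⟨u, hu, huz⟩ := hall
    obtain ⟨x, hx, hxL⟩ : ∃ x ∈ D.O0, x ∉ D.Lt := by
      by_cases h1 : u ∈ D.Lt
      · exact ⟨_, D.n_O0 hu, fun h2 => huz (D.Lt_disjoint h1 h2)⟩
      · exact ⟨u, hu, h1⟩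
    obtain ⟨k, hk, hk1⟩ : ∃ k ∈ K, k ≠ 1 := by
      by_contra hK1
      push Not at hK1
      obtain ⟨v, hv, hv0⟩ := D.exists_moving
      obtain ⟨k, hk, w, hw, e⟩ := hOK (π v) ⟨v, hv, rfl⟩
      rw [hK1 k hk, one_mul] at e
      obtain ⟨w', hw', rfl⟩ := hw
      obtain ⟨z, hz, rfl⟩ := π_eq e
      exact hv0 (mul_mem hw' (D.center_le_O0 hz))
    exact ⟨π x, ⟨x, hx, rfl⟩, k, hk, fun e => hk1 (hfix1 x hx hxL k hk e)⟩

end AbFour

end CfsgLib.MinNonCA
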