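import Cfsg.Agent.Lib.MinNonCA.Quasi
import Cfsg.Agent.Lib.TransferApps
import Cfsg.Agent.Lib.CoprimeGen
import Cfsg.Agent.Lib.SuzukiTwo.RankTwoAbelian
import Cfsg.Agent.S0949

/-!
Perfect groups with all proper subgroups CA and abelian Sylow 2-subgroups: the Sylow 2-subgroup is a four-group.
-/

set_option autoImplicit false
set_option linter.style.haveILetI false
set_option linter.unusedSectionVars false

namespace CfsgLib.MinNonCA

open Subgroup

universe u

variable {L : Type u} [Group L] [Finite L]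

/-- Two commuting involutions span a non-cyclic abelian group. -/
theorem exists_four {e f : L} (he : e * e = 1) (hf : f * f = 1) (he1 : e ≠ 1) (hf1 : f ≠ 1) (hef : e ≠ f)
    (hc : e * f = f * e) : ∃ A : Subgroup L, (∀ a, a ∈ A ↔ a = 1 ∨ a = e ∨ a = f ∨ a = e * f) ∧
      IsMulCommutative A ∧ ¬ IsCyclic A ∧ IsPGroup 2 A := by
  have h2 : e * (e * f) = f := by rw [← mul_assoc, he, one_mul]
  have h3 : f * (e * f) = e := by rw [← mul_assoc, ← hc, mul_assoc, hf, mul_one]
  have h4 : e * f * e = f := by rw [mul_assoc, ← hc, h2]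
  have h5 : e * f * f = e := by rw [mul_assoc, hf, mul_one]
  have h6 : e * f * (e * f) = 1 := by rw [← mul_assoc, h4, hf]
  let A : Subgroup L :=
    { carrier := {a | a = 1 ∨ a = e ∨ a = f ∨ a = e * f}
      one_mem' := Or.inl rfl
      mul_mem' := by
        rintro a b (rfl | rfl | rfl | rfl) (rfl | rfl | rfl | rfl) <;>
          simp only [one_mul, mul_one, Set.mem_ofPred_eq, he, hf, ← hc, h2, h3, h4, h5, h6, true_or, or_true]
      inv_mem' := by
        rintro a (rfl | rfl | rfl | rfl)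
        · exact Or.inl inv_one
        · exact Or.inr (Or.inl (inv_eq_of_mul_eq_one_right he))
        · exact Or.inr (Or.inr (Or.inl (inv_eq_of_mul_eq_one_right hf)))
        · exact Or.inr (Or.inr (Or.inr (inv_eq_of_mul_eq_one_right h6))) }
  have hsq : ∀ a ∈ A, a * a = 1 := by
    rintro a (rfl | rfl | rfl | rfl)
    exacts [one_mul 1, he, hf, h6]
  have hexp : ∀ a : A, a * a = 1 := fun a => Subtype.ext (hsq a a.2)
  refine ⟨A, fun a => Iff.rfl, ⟨⟨fun a b => ?_⟩⟩, fun hcyc => ?_, fun a => ⟨1, by rw [pow_one, pow_two, hexp a]⟩⟩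
  · calc a * b = a⁻¹ * b⁻¹ := by
          rw [inv_eq_of_mul_eq_one_right (hexp a), inv_eq_of_mul_eq_one_right (hexp b)]
      _ = (b * a)⁻¹ := (mul_inv_rev b a).symm
      _ = b * a := inv_eq_of_mul_eq_one_right (hexp (b * a))
  · haveI := hcyc
    classical
    haveI := Fintype.ofFinite A
    have hle := IsCyclic.card_pow_eq_one_le (α := A) (n := 2) two_pos
    have hsub : ({1, ⟨e, Or.inr (Or.inl rfl)⟩, ⟨f, Or.inr (Or.inr (Or.inl rfl))⟩} : Finset A) ⊆
        Finset.univ.filter fun a : A => a ^ 2 = 1 := fun a _ => by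
      simp only [Finset.mem_filter, Finset.mem_univ, true_and, pow_two, hexp a]
    have hcard := (Finset.card_le_card hsub).trans hle
    rw [Finset.card_insert_of_notMem (by
        simp only [Finset.mem_insert, Finset.mem_singleton, not_or]
        exact ⟨fun e' => he1 (congrArg Subtype.val e').symm, fun e' => hf1 (congrArg Subtype.val e').symm⟩),
      Finset.card_pair fun e' => hef (congrArg Subtype.val e')] at hcard
    omega

namespace Quasi

variable (q : Quasi L) (S : Sylow 2 L) (hS : ∀ x ∈ (S : Subgroup L), ∀ y ∈ (S : Subgroup L), x * y = y * x)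

include q in
theorem two_dvd_card : 2 ∣ Nat.card L := by
  rw [← even_iff_two_dvd, ← Nat.not_odd_iff_even]
  exact fun ho => q.hyp.nonsolv (CfsgLib.OddOrder.feitThompson ho)

include q in
theorem not_comm_quotient : ¬ ∀ a b : L ⧸ Subgroup.center L, a * b = b * a := by
  intro hc
  refine q.center_ne_top (eq_top_iff.mpr fun x _ => q.mem_center_of_mod fun g => ?_)
  rw [← QuotientGroup.eq_one_iff]
  simp only [QuotientGroup.mk_mul, QuotientGroup.mk_inv]
  rw [hc (g : L ⧸ Subgroup.center L) x, mul_inv_cancel_right, mul_inv_cancel]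

include q hS in
/-- An abelian Sylow 2-subgroup meets the centre trivially. -/
theorem eq_one_of_mem_center {z : L} (hz : z ∈ (S : Subgroup L)) (hzc : z ∈ Subgroup.center L) : z = 1 := by
  haveI : Fact (Nat.Prime 2) := ⟨Nat.prime_two⟩
  letI : CommGroup (S : Subgroup L) :=
    { (inferInstance : Group (S : Subgroup L)) with mul_comm := fun a b => Subtype.ext (hS a a.2 b b.2) }
  let τ : L →* (S : Subgroup L) := MonoidHom.transfer (MonoidHom.id (S : Subgroup L))
  have hker : τ z = 1 := by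
    have hmem : z ∈ commutator L := by rw [q.perfect]; exact Subgroup.mem_top z
    exact Abelianization.commutator_subset_ker τ hmem
  have key : ∀ (k : ℕ) (g₀ : L), g₀⁻¹ * z ^ k * g₀ ∈ (S : Subgroup L) → g₀⁻¹ * z ^ k * g₀ = z ^ k := by
    intro k g₀ _
    rw [mul_assoc, ← Subgroup.mem_center_iff.mp (pow_mem hzc k) g₀, inv_mul_cancel_left]
  have he := MonoidHom.transfer_eq_pow (MonoidHom.id (S : Subgroup L)) z key
  change τ z = _ at he
  rw [hker] at he
  have hp : z ^ (S : Subgroup L).index = 1 := (congrArg Subtype.val he).symm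
  obtain ⟨e, he'⟩ := S.2 ⟨z, hz⟩
  have h2 : orderOf z ∣ 2 ^ e := orderOf_dvd_of_pow_eq_one (congrArg Subtype.val he')
  have hodd : Nat.Coprime (S : Subgroup L).index (2 ^ e) :=
    (Nat.Coprime.pow_left e (Nat.prime_two.coprime_iff_not_dvd.mpr S.not_dvd_index)).symm
  exact orderOf_eq_one_iff.mp (Nat.eq_one_of_dvd_coprimes hodd (orderOf_dvd_of_pow_eq_one hp) h2)

include q hS in
theorem odd_center : Odd (Nat.card (Subgroup.center L)) := by
  haveI : Fact (Nat.Prime 2) := ⟨Nat.prime_two⟩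
  rw [← Nat.not_even_iff_odd, even_iff_two_dvd]
  intro h2
  obtain ⟨z, hz⟩ := exists_prime_orderOf_dvd_card' 2 h2
  have hzo : orderOf (z : L) = 2 := by rw [Subgroup.orderOf_coe, hz]
  have hp : IsPGroup 2 (Subgroup.zpowers (z : L)) :=
    IsPGroup.of_card (n := 1) (by rw [Nat.card_zpowers, hzo, pow_one])
  have hn : Subgroup.zpowers (z : L) ≤ Subgroup.normalizer ((S : Subgroup L) : Set L) := by
    rw [Subgroup.zpowers_le]
    exact mem_normalizer_of_conj fun x hx => by rwa [← Subgroup.mem_center_iff.mp z.2 x, mul_inv_cancel_right]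
  have hzS : (z : L) ∈ (S : Subgroup L) := CfsgLib.TransferApps.mem_sylow_of_mem_normalizer S
    (hn (Subgroup.mem_zpowers _)) ⟨1, by rw [pow_one, ← hzo, pow_orderOf_eq_one]⟩
  have h1 := q.eq_one_of_mem_center S hS hzS z.2
  rw [h1, orderOf_one] at hzo
  norm_num at hzo

include q hS in
/-- No involution of `S` is fixed by the whole normaliser. -/
theorem exists_moved {s : L} (hs : s ∈ (S : Subgroup L)) (hs2 : s * s = 1) (hs1 : s ≠ 1) :
    ∃ n ∈ Subgroup.normalizer ((S : Subgroup L) : Set L), n * s ≠ s * n := by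
  haveI : Fact (Nat.Prime 2) := ⟨Nat.prime_two⟩
  by_contra hall
  push Not at hall
  refine hs1 (q.eq_one_of_mem_center S hS hs (q.central_of_weaklyClosed S hs fun i g hg => ?_))
  rcases Nat.even_or_odd i with ⟨j, rfl⟩ | ⟨j, rfl⟩
  · rw [pow_add, ← (Commute.refl s).mul_pow, hs2, one_pow, mul_one, mul_inv_cancel]
  · rw [pow_succ, pow_mul, pow_two, hs2, one_pow, one_mul] at hg ⊢
    obtain ⟨n, hn, hne⟩ := CfsgLib.TransferApps.exists_normalizer_conj_of_abelian S
      ⟨⟨fun a b => Subtype.ext (hS a a.2 b b.2)⟩⟩ hs hg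
    rw [← hne, hall n hn, mul_inv_cancel_right]

end Quasi

/-- The data of an abelian Sylow 2-subgroup and an involution with non-abelian centraliser. -/
structure AbData (L : Type u) [Group L] where
  q : Quasi L
  S : Sylow 2 L
  hS : ∀ x ∈ (S : Subgroup L), ∀ y ∈ (S : Subgroup L), x * y = y * x
  t : L
  ht : t ∈ (S : Subgroup L)
  ht2 : t * t = 1
  ht1 : t ≠ 1
  hna : ∃ a b : L, a * t = t * a ∧ b * t = t * b ∧ a * b ≠ b * a

namespace AbData

variable (D : AbData L)

/-- The centraliser of the involution. -/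
abbrev C : Subgroup L := Subgroup.centralizer ({D.t} : Set L)

theorem mem_C {x : L} : x ∈ D.C ↔ x * D.t = D.t * x := Subgroup.mem_centralizer_singleton_iff

theorem t_notMem : D.t ∉ Subgroup.center L := fun h => D.ht1 (D.q.eq_one_of_mem_center D.S D.hS D.ht h)

theorem C_ne_top : D.C ≠ ⊤ := D.q.cent_ne_top D.t_notMem

theorem S_le : (D.S : Subgroup L) ≤ D.C := fun x hx => D.mem_C.mpr (D.hS x hx D.t D.ht)

theorem self_norm {g : L} (h : ∀ c : L, c * D.t = D.t * c → (g * c * g⁻¹) * D.t = D.t * (g * c * g⁻¹)) :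
    g * D.t = D.t * g := by
  obtain ⟨a, b, ha, hb, hab⟩ := D.hna
  exact D.q.cent_self_normalizing D.t_notMem ha hb hab h

/-- Elements central in `C` have centraliser `C`. -/
theorem eq_C {x : L} (hx : x ∉ Subgroup.center L) (h : ∀ c ∈ D.C, c * x = x * c) {g : L} (hg : g * x = x * g) :
    g * D.t = D.t * g := by
  obtain ⟨a, b, ha, hb, hab⟩ := D.hna
  have hle : D.C ≤ Subgroup.centralizer ({x} : Set L) := fun c hc =>
    Subgroup.mem_centralizer_singleton_iff.mpr (h c hc)
  have he := D.q.cent_eq ha hb hab (D.q.cent_ne_top hx) hle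
  exact D.mem_C.mp (he.le (Subgroup.mem_centralizer_singleton_iff.mpr hg))

/-- A conjugate of an element central in `C` is not central in `C`, unless conjugated inside `C`. -/
theorem disjoint_conj {x g : L} (hx : x ∉ Subgroup.center L) (h : ∀ c ∈ D.C, c * x = x * c)
    (h' : ∀ c ∈ D.C, c * (g * x * g⁻¹) = g * x * g⁻¹ * c) : g * D.t = D.t * g := by
  refine D.self_norm fun c hc => ?_
  have hgx : g * x * g⁻¹ ∉ Subgroup.center L := fun hz => hx (by
    have := (inferInstance : (Subgroup.center L).Normal).conj_mem _ hz g⁻¹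
    rwa [show g⁻¹ * (g * x * g⁻¹) * g⁻¹⁻¹ = x by group] at this)
  refine D.eq_C hgx h' ?_
  calc g * c * g⁻¹ * (g * x * g⁻¹) = g * (c * x) * g⁻¹ := by group
    _ = g * (x * c) * g⁻¹ := by rw [h c (D.mem_C.mpr hc)]
    _ = _ := by group

theorem exists_n : ∃ n ∈ Subgroup.normalizer ((D.S : Subgroup L) : Set L), n * D.t ≠ D.t * n :=
  D.q.exists_moved D.S D.hS D.ht D.ht2 D.ht1

theorem N_ne_top : Subgroup.normalizer ((D.S : Subgroup L) : Set L) ≠ ⊤ :=
  ne_top_of_solvable D.q.hyp.nonsolv (isSolvable_sylow_normalizer D.S)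

/-- The normaliser of `S` in `C` centralises `S`. -/
theorem NC_centralizes {c x : L} (hc : c ∈ Subgroup.normalizer ((D.S : Subgroup L) : Set L)) (hct : c ∈ D.C)
    (hx : x ∈ (D.S : Subgroup L)) : c * x = x * c := by
  obtain ⟨n, hn, hnt⟩ := D.exists_n
  exact D.q.hyp.comm D.N_ne_top (Subgroup.le_normalizer D.ht) hc (Subgroup.le_normalizer hx) hn
    (D.mem_C.mp hct) (D.hS x hx D.t D.ht) hnt

/-- The normal complement of `S` in `C`. -/
theorem exists_core : ∃ O : Subgroup L, O ≤ D.C ∧ Odd (Nat.card O) ∧ (∀ c ∈ D.C, ∀ u ∈ O, c * u * c⁻¹ ∈ O) ∧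
    ∀ c ∈ D.C, ∃ v ∈ (D.S : Subgroup L), ∃ u ∈ O, c = v * u := by
  haveI : Fact (Nat.Prime 2) := ⟨Nat.prime_two⟩
  let S' : Sylow 2 D.C := D.S.subtype D.S_le
  have hNC : Subgroup.normalizer ((S' : Subgroup D.C) : Set D.C) ≤
      Subgroup.centralizer ((S' : Subgroup D.C) : Set D.C) := by
    intro c hc
    rw [Subgroup.mem_centralizer_iff]
    intro s hs
    have hcN : (c : L) ∈ Subgroup.normalizer ((D.S : Subgroup L) : Set L) := mem_normalizer_of_conj fun x hx =>
      (Subgroup.mem_normalizer_iff.mp hc ⟨x, D.S_le hx⟩).mp hx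
    exact Subtype.ext (D.NC_centralizes hcN c.2 hs).symm
  obtain ⟨K, hKn, hK, hKodd⟩ : ∃ K : Subgroup D.C, K.Normal ∧ Subgroup.IsComplement' K (S' : Subgroup D.C) ∧
      Odd (Nat.card K) := ⟨_, MonoidHom.normal_ker _, MonoidHom.ker_transferSylow_isComplement' S' hNC, by
    rw [← Nat.not_even_iff_odd, even_iff_two_dvd]
    exact MonoidHom.not_dvd_card_ker_transferSylow S' hNC⟩
  refine ⟨K.map D.C.subtype, Subgroup.map_subtype_le _, ?_, ?_, ?_⟩
  · rw [Subgroup.card_map_of_injective D.C.subtype_injective]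
    exact hKodd
  · rintro c hc _ ⟨u, hu, rfl⟩
    exact ⟨⟨c, hc⟩ * u * ⟨c, hc⟩⁻¹, hKn.conj_mem u hu _, rfl⟩
  · intro c hc
    obtain ⟨⟨⟨u, hu⟩, ⟨v, hv⟩⟩, huv⟩ := hK.2 ⟨c, hc⟩
    refine ⟨v, hv, (v : L)⁻¹ * u * v, ?_, ?_⟩
    · exact ⟨v⁻¹ * u * v, by
        have := hKn.conj_mem u hu v⁻¹
        rwa [inv_inv] at this, rfl⟩
    · have : (u : L) * v = c := congrArg Subtype.val huv
      rw [← this]; group

/-- An element of `S` is not central in `C` for all of `S`. -/
theorem S_not_central : ∃ v ∈ (D.S : Subgroup L), ¬ ∀ c ∈ D.C, c * v = v * c := by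
  by_contra hall
  push Not at hall
  obtain ⟨n, hn, hnt⟩ := D.exists_n
  exact hnt (D.disjoint_conj D.t_notMem (hall D.t D.ht) (hall _ ((Subgroup.mem_normalizer_iff.mp hn D.t).mp D.ht)))

/-- No four-subgroup of `S` avoids the centre of `C`. -/
theorem no_four {e f : L} (he : e ∈ (D.S : Subgroup L)) (hf : f ∈ (D.S : Subgroup L)) (he2 : e * e = 1)
    (hf2 : f * f = 1) (he1 : e ≠ 1) (hf1 : f ≠ 1) (hef : e ≠ f) (hec : ¬ ∀ c ∈ D.C, c * e = e * c)
    (hfc : ¬ ∀ c ∈ D.C, c * f = f * c) (hefc : ¬ ∀ c ∈ D.C, c * (e * f) = e * f * c) : False := by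
  obtain ⟨O, hOC, hOodd, hOn, hfac⟩ := D.exists_core
  obtain ⟨A, hA, hAc, hAn, hA2⟩ := exists_four he2 hf2 he1 hf1 hef (D.hS e he f hf)
  haveI := hAc
  have hAS : A ≤ (D.S : Subgroup L) := fun a ha => by
    rcases (hA a).mp ha with rfl | rfl | rfl | rfl
    exacts [one_mem _, he, hf, mul_mem he hf]
  have hAN : A ≤ Subgroup.normalizer (O : Set L) := fun a ha =>
    mem_normalizer_of_conj fun u hu => hOn a (D.S_le (hAS ha)) u hu
  have hcop : (Nat.card A).Coprime (Nat.card O) := by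
    haveI : Fact (Nat.Prime 2) := ⟨Nat.prime_two⟩
    obtain ⟨k, hk⟩ := IsPGroup.iff_card.mp hA2
    rw [hk]
    exact (Nat.coprime_two_left.mpr hOodd).pow_left k
  have hgen := CfsgLib.coprime_generated_by_centralizers hAn hAN hcop
  have hle : O ≤ Subgroup.centralizer ((D.S : Subgroup L) : Set L) := by
    rw [← hgen]
    refine iSup₂_le fun a ha => ?_
    intro u hu
    obtain ⟨hu1, hu2⟩ := Subgroup.mem_inf.mp hu
    obtain ⟨haA, ha1⟩ := ha
    have hnc : ¬ ∀ c ∈ D.C, c * a = a * c := by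
      rcases (hA a).mp haA with rfl | rfl | rfl | rfl
      exacts [absurd rfl ha1, hec, hfc, hefc]
    push Not at hnc
    obtain ⟨c, hc, hca⟩ := hnc
    rw [Subgroup.mem_centralizer_iff]
    intro v hv
    exact (D.q.hyp.comm D.C_ne_top (D.S_le (hAS haA)) (hOC hu1) (D.S_le hv) hc
      (Subgroup.mem_centralizer_singleton_iff.mp hu2) (D.hS v hv a (hAS haA)) hca).symm
  obtain ⟨v, hv, hvc⟩ := D.S_not_central
  apply hvc
  intro c hc
  obtain ⟨w, hw, u, hu, rfl⟩ := hfac c hc
  have h1 : v * u = u * v := Subgroup.mem_centralizer_iff.mp (hle hu) v hv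
  calc w * u * v = w * (v * u) := by rw [mul_assoc, ← h1]
    _ = v * (w * u) := by rw [← mul_assoc, D.hS w hw v hv, mul_assoc]

theorem central_notMem_center {c : L} (hc : c ∈ (D.S : Subgroup L)) (hc1 : c ≠ 1) : c ∉ Subgroup.center L :=
  fun h => hc1 (D.q.eq_one_of_mem_center D.S D.hS hc h)

/-- `t` is the only involution of `S` central in `C`. -/
theorem central_unique {c : L} (hc : c ∈ (D.S : Subgroup L)) (hc2 : c * c = 1) (hc1 : c ≠ 1)
    (hcc : ∀ x ∈ D.C, x * c = c * x) : c = D.t := by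
  by_contra hne
  obtain ⟨n, hn, hnt⟩ := D.exists_n
  have hmem : ∀ x ∈ (D.S : Subgroup L), n * x * n⁻¹ ∈ (D.S : Subgroup L) := fun x hx =>
    (Subgroup.mem_normalizer_iff.mp hn x).mp hx
  have hsq : ∀ x : L, x * x = 1 → n * x * n⁻¹ * (n * x * n⁻¹) = 1 := fun x hx => by
    rw [show n * x * n⁻¹ * (n * x * n⁻¹) = n * (x * x) * n⁻¹ by group, hx]; group
  have hne1 : ∀ x : L, x ≠ 1 → n * x * n⁻¹ ≠ 1 := fun x hx e => hx (conj_eq_one_iff.mp e)
  have hnc : ∀ x ∈ (D.S : Subgroup L), x ≠ 1 → (∀ y ∈ D.C, y * x = x * y) →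
      ¬ ∀ y ∈ D.C, y * (n * x * n⁻¹) = n * x * n⁻¹ * y := fun x hx hx1 hxc h =>
    hnt (D.disjoint_conj (D.central_notMem_center hx hx1) hxc h)
  have htc : ∀ y ∈ D.C, y * D.t = D.t * y := fun y hy => D.mem_C.mp hy
  have htc1 : D.t * c ≠ 1 := fun e => hne (by
    rw [eq_inv_of_mul_eq_one_right e, inv_eq_of_mul_eq_one_right D.ht2])
  refine D.no_four (hmem _ D.ht) (hmem _ hc) (hsq _ D.ht2) (hsq _ hc2) (hne1 _ D.ht1) (hne1 _ hc1)
    (fun e => hne (mul_left_cancel (mul_right_cancel e)).symm) (hnc _ D.ht D.ht1 htc) (hnc _ hc hc1 hcc) ?_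
  rw [show n * D.t * n⁻¹ * (n * c * n⁻¹) = n * (D.t * c) * n⁻¹ by group]
  refine hnc _ (mul_mem D.ht hc) htc1 fun y hy => ?_
  rw [← mul_assoc, htc y hy, mul_assoc, hcc y hy, mul_assoc]

/-- The three involutions. -/
theorem exists_triple : ∃ n ∈ Subgroup.normalizer ((D.S : Subgroup L) : Set L), ∃ s ∈ (D.S : Subgroup L),
    s * s = 1 ∧ s ≠ 1 ∧ s ≠ D.t ∧ D.t * s ≠ 1 ∧ n * D.t * n⁻¹ = s ∧ n * s * n⁻¹ = D.t * s ∧
    n * (D.t * s) * n⁻¹ = D.t ∧ (¬ ∀ c ∈ D.C, c * s = s * c) ∧ (¬ ∀ c ∈ D.C, c * (D.t * s) = D.t * s * c) ∧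
    ∀ x ∈ (D.S : Subgroup L), x * x = 1 → x = 1 ∨ x = D.t ∨ x = s ∨ x = D.t * s := by
  obtain ⟨n, hn, hnt⟩ := D.exists_n
  set s := n * D.t * n⁻¹ with hsdef
  have hs : s ∈ (D.S : Subgroup L) := (Subgroup.mem_normalizer_iff.mp hn D.t).mp D.ht
  have hs2 : s * s = 1 := by
    rw [hsdef, show n * D.t * n⁻¹ * (n * D.t * n⁻¹) = n * (D.t * D.t) * n⁻¹ by group, D.ht2]; group
  have hs1 : s ≠ 1 := fun e => D.ht1 (conj_eq_one_iff.mp e)
  have hst : s ≠ D.t := fun e => hnt (mul_inv_eq_iff_eq_mul.mp e)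
  have hts1 : D.t * s ≠ 1 := fun e => hst (by
    rw [eq_inv_of_mul_eq_one_right e, inv_eq_of_mul_eq_one_right D.ht2])
  have hts2 : D.t * s * (D.t * s) = 1 := by
    rw [show D.t * s * (D.t * s) = D.t * (s * D.t) * s by group, D.hS s hs D.t D.ht,
      show D.t * (D.t * s) * s = (D.t * D.t) * (s * s) by group, D.ht2, hs2, one_mul]
  have hsc : ¬ ∀ c ∈ D.C, c * s = s * c := fun h => hst (D.central_unique hs hs2 hs1 h)
  have htsc : ¬ ∀ c ∈ D.C, c * (D.t * s) = D.t * s * c := fun h =>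
    hs1 (mul_eq_left.mp (D.central_unique (mul_mem D.ht hs) hts2 hts1 h))
  have hall : ∀ x ∈ (D.S : Subgroup L), x * x = 1 → x = 1 ∨ x = D.t ∨ x = s ∨ x = D.t * s := by
    intro x hx hx2
    by_contra hne
    simp only [not_or] at hne
    obtain ⟨hx1, hxt, hxs, hxts⟩ := hne
    have hsx1 : s * x ≠ 1 := fun e => hxs (by
      rw [eq_inv_of_mul_eq_one_right e, inv_eq_of_mul_eq_one_right hs2])
    have hsx2 : s * x * (s * x) = 1 := by
      rw [show s * x * (s * x) = s * (x * s) * x by group, D.hS x hx s hs,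
        show s * (s * x) * x = (s * s) * (x * x) by group, hs2, hx2, one_mul]
    refine D.no_four hs hx hs2 hx2 hs1 hx1 (Ne.symm hxs) hsc (fun h => hxt (D.central_unique hx hx2 hx1 h))
      fun h => hxts ?_
    have e := D.central_unique (mul_mem hs hx) hsx2 hsx1 h
    calc x = (s * s) * x := by rw [hs2, one_mul]
      _ = s * (s * x) := by group
      _ = s * D.t := by rw [e]
      _ = D.t * s := D.hS s hs D.t D.ht
  have hmem : n * s * n⁻¹ ∈ (D.S : Subgroup L) := (Subgroup.mem_normalizer_iff.mp hn s).mp hs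
  have hns2 : n * s * n⁻¹ * (n * s * n⁻¹) = 1 := by
    rw [show n * s * n⁻¹ * (n * s * n⁻¹) = n * (s * s) * n⁻¹ by group, hs2]; group
  have hns : n * s * n⁻¹ = D.t * s := by
    rcases hall _ hmem hns2 with e | e | e | e
    · exact absurd (conj_eq_one_iff.mp e) hs1
    · exfalso
      have hfix : n * (D.t * s) = D.t * s * n := by
        rw [← mul_inv_eq_iff_eq_mul, show n * (D.t * s) * n⁻¹ = n * D.t * n⁻¹ * (n * s * n⁻¹) by group, ← hsdef, e,
          D.hS s hs D.t D.ht]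
      obtain ⟨m, hm, hmne⟩ := D.q.exists_moved D.S D.hS (mul_mem D.ht hs) hts2 hts1
      exact hnt (D.q.hyp.comm D.N_ne_top (Subgroup.le_normalizer (mul_mem D.ht hs)) hn
        (Subgroup.le_normalizer D.ht) hm hfix (D.hS _ D.ht _ (mul_mem D.ht hs)) hmne)
    · exact absurd (mul_left_cancel (mul_right_cancel (e.trans hsdef))) hst
    · exact e
  refine ⟨n, hn, s, hs, hs2, hs1, hst, hts1, rfl, hns, ?_, hsc, htsc, hall⟩
  rw [show n * (D.t * s) * n⁻¹ = n * D.t * n⁻¹ * (n * s * n⁻¹) by group, ← hsdef, hns, ← mul_assoc,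
    D.hS s hs D.t D.ht, mul_assoc, hs2, mul_one]

/-- The Sylow 2-subgroup is the four-group. -/
theorem card_S : Nat.card (D.S : Subgroup L) = 4 := by
  classical
  haveI : Fact (Nat.Prime 2) := ⟨Nat.prime_two⟩
  obtain ⟨n, hn, s, hs, hs2, hs1, hst, hts1, hnt, hns, hnts, -, -, hall⟩ := D.exists_triple
  set P := (D.S : Subgroup L)
  let k : MulAut P := P.normalizerMonoidHom ⟨n, hn⟩
  have hk : ∀ x : P, ((k x : P) : L) = n * x * n⁻¹ := fun x => rfl
  have k1 : k ⟨D.t, D.ht⟩ = ⟨s, hs⟩ := Subtype.ext hnt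
  have k2 : k ⟨s, hs⟩ = ⟨D.t * s, mul_mem D.ht hs⟩ := Subtype.ext hns
  have k3 : k ⟨D.t * s, mul_mem D.ht hs⟩ = ⟨D.t, D.ht⟩ := Subtype.ext hnts
  have hcase : ∀ x : P, x ≠ 1 → x * x = 1 →
      x = ⟨D.t, D.ht⟩ ∨ x = ⟨s, hs⟩ ∨ x = ⟨D.t * s, mul_mem D.ht hs⟩ := by
    intro x hx1 hx2
    rcases hall x x.2 (congrArg Subtype.val hx2) with e | e | e | e
    · exact absurd (Subtype.ext e) hx1
    · exact Or.inl (Subtype.ext e)
    · exact Or.inr (Or.inl (Subtype.ext e))
    · exact Or.inr (Or.inr (Subtype.ext e))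
  have hH : CfsgLib.SuzukiTwo.Hyp P k := by
    refine ⟨D.S.2, fun x y hx1 hx2 hy1 hy2 => ?_, ⟨⟨D.t, D.ht⟩, ⟨s, hs⟩, fun e => hst (congrArg Subtype.val e).symm,
      fun e => D.ht1 (congrArg Subtype.val e), Subtype.ext D.ht2, fun e => hs1 (congrArg Subtype.val e),
      Subtype.ext hs2⟩⟩
    have h0 : ∀ z : P, (k ^ 0) z = z := fun z => rfl
    have h1 : ∀ z : P, (k ^ 1) z = k z := fun z => by rw [pow_one]
    have h2 : ∀ z : P, (k ^ 2) z = k (k z) := fun z => by rw [pow_two]; rfl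
    rcases hcase x hx1 hx2 with rfl | rfl | rfl <;> rcases hcase y hy1 hy2 with rfl | rfl | rfl <;>
      first
      | exact ⟨0, h0 _⟩
      | exact ⟨1, (h1 _).trans (by first | exact k1 | exact k2 | exact k3)⟩
      | exact ⟨2, (h2 _).trans (by simp only [k1, k2, k3])⟩
  have hfour : Nat.card {x : P // x * x = 1} = 4 := by
    obtain ⟨A, hA, -, -, -⟩ := exists_four D.ht2 hs2 D.ht1 hs1 (Ne.symm hst) (D.hS _ D.ht _ hs)
    have hts2 : D.t * s * (D.t * s) = 1 := by
      rw [show D.t * s * (D.t * s) = D.t * (s * D.t) * s by group, D.hS s hs D.t D.ht,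
        show D.t * (D.t * s) * s = (D.t * D.t) * (s * s) by group, D.ht2, hs2, one_mul]
    have e1 : Nat.card {x : P // x * x = 1} = Nat.card ({1, D.t, s, D.t * s} : Finset L) := by
      refine Nat.card_congr ⟨fun x => ⟨x.1.1, ?_⟩, fun x => ⟨⟨x.1, ?_⟩, ?_⟩, fun x => rfl, fun x => rfl⟩
      · rcases hall x.1 x.1.2 (congrArg Subtype.val x.2) with e | e | e | e <;> simp [e]
      · have := x.2
        simp only [Finset.mem_insert, Finset.mem_singleton] at this
        rcases this with e | e | e | e <;> rw [e]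
        exacts [one_mem P, D.ht, hs, mul_mem D.ht hs]
      · have := x.2
        simp only [Finset.mem_insert, Finset.mem_singleton] at this
        refine Subtype.ext ?_
        show x.1 * x.1 = 1
        rcases this with e | e | e | e <;> rw [e]
        exacts [one_mul 1, D.ht2, hs2, hts2]
    rw [e1, Nat.card_eq_fintype_card, Fintype.card_coe, Finset.card_insert_of_notMem, Finset.card_insert_of_notMem,
      Finset.card_pair]
    · exact fun e => D.ht1 (right_eq_mul.mp e)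
    · simp only [Finset.mem_insert, Finset.mem_singleton, not_or]
      exact ⟨Ne.symm hst, fun e => hs1 (left_eq_mul.mp e)⟩
    · simp only [Finset.mem_insert, Finset.mem_singleton, not_or]
      exact ⟨Ne.symm D.ht1, Ne.symm hs1, Ne.symm hts1⟩
  obtain ⟨m, hm1, ⟨e⟩⟩ := hH.homocyclic (fun a b => Subtype.ext (D.hS a a.2 b b.2)) hfour
  haveI : NeZero (2 ^ m) := ⟨pow_ne_zero _ two_ne_zero⟩
  have hcard : Nat.card P = 2 ^ m * 2 ^ m := by
    rw [Nat.card_congr e.toEquiv, Nat.card_congr Multiplicative.toAdd, Nat.card_prod, Nat.card_zmod]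
  rcases eq_or_lt_of_le hm1 with rfl | hm2
  · rw [hcard]; norm_num
  · exfalso
    haveI := D.q.simple
    set π := QuotientGroup.mk' (Subgroup.center L)
    let S' : Sylow 2 (L ⧸ Subgroup.center L) := D.S.mapSurjective (QuotientGroup.mk'_surjective _)
    have hco : (S' : Subgroup (L ⧸ Subgroup.center L)) = P.map π := rfl
    have hinj : Function.Injective (π.subgroupMap P) := by
      rw [injective_iff_map_eq_one]
      intro x hx
      exact Subtype.ext (D.q.eq_one_of_mem_center D.S D.hS x.2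
        ((QuotientGroup.eq_one_iff (x : L)).mp (congrArg Subtype.val hx)))
    let eP : P ≃* P.map π := MulEquiv.ofBijective (π.subgroupMap P) ⟨hinj, π.subgroupMap_surjective P⟩
    have h2X : ∀ N : Subgroup (L ⧸ Subgroup.center L), N.Normal → Odd (Nat.card N) → N = ⊥ := fun N hN hodd =>
      hN.eq_bot_or_eq_top.resolve_right fun htop => by
        have h2 : 2 ∣ Nat.card (P.map π) := by
          rw [← Nat.card_congr eP.toEquiv, hcard]
          exact dvd_mul_of_dvd_left (dvd_pow_self 2 (by omega)) _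
        rw [htop, Subgroup.card_top] at hodd
        exact hodd.not_two_dvd_nat (h2.trans (Subgroup.card_subgroup_dvd_card _))
    obtain ⟨hn', -, -⟩ := Cfsg.Agent.S0949.result S' m hm2
      ((MulEquiv.subgroupCongr hco).trans (eP.symm.trans e)) h2X
    rcases hn'.eq_bot_or_eq_top with e' | e'
    · have hz : ((D.t : L) : L ⧸ Subgroup.center L) ∈ P.map π := ⟨D.t, D.ht, rfl⟩
      rw [← hco, e', Subgroup.mem_bot, QuotientGroup.eq_one_iff] at hz
      exact D.t_notMem hz
    · refine D.q.not_comm_quotient fun a b => ?_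
      have hall' : ∀ a, a ∈ P.map π := fun a => by rw [← hco, e']; exact Subgroup.mem_top a
      obtain ⟨x, hx, rfl⟩ := hall' a
      obtain ⟨y, hy, rfl⟩ := hall' b
      rw [← map_mul, ← map_mul, D.hS x hx y hy]

/-- Elements of the four-group. -/
theorem exists_four_data : ∃ n ∈ Subgroup.normalizer ((D.S : Subgroup L) : Set L), ∃ s ∈ (D.S : Subgroup L),
    s * s = 1 ∧ s ≠ 1 ∧ s ≠ D.t ∧ n * D.t * n⁻¹ = s ∧ n * s * n⁻¹ = D.t * s ∧
    (¬ ∀ c ∈ D.C, c * s = s * c) ∧
    ∀ x ∈ (D.S : Subgroup L), x = 1 ∨ x = D.t ∨ x = s ∨ x = D.t * s := by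
  obtain ⟨n, hn, s, hs, hs2, hs1, hst, hts1, hnt, hns, -, hsc, -, hall⟩ := D.exists_triple
  refine ⟨n, hn, s, hs, hs2, hs1, hst, hnt, hns, hsc, fun x hx => ?_⟩
  obtain ⟨A, hA, -, -, -⟩ := exists_four D.ht2 hs2 D.ht1 hs1 (Ne.symm hst) (D.hS _ D.ht _ hs)
  have hAS : A ≤ (D.S : Subgroup L) := fun a ha => by
    rcases (hA a).mp ha with rfl | rfl | rfl | rfl
    exacts [one_mem _, D.ht, hs, mul_mem D.ht hs]
  have h4 : 4 ≤ Nat.card A := by
    classical
    haveI : Fintype L := Fintype.ofFinite L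
    have hsub : ({1, D.t, s, D.t * s} : Finset L) ⊆ Finset.univ.filter fun a => a ∈ A := by
      intro a ha
      simp only [Finset.mem_insert, Finset.mem_singleton] at ha
      simp only [Finset.mem_filter, Finset.mem_univ, true_and]
      exact (hA a).mpr ha
    rw [Nat.card_eq_fintype_card, Fintype.card_subtype]
    refine le_trans (le_of_eq ?_) (Finset.card_le_card hsub)
    rw [Finset.card_insert_of_notMem, Finset.card_insert_of_notMem, Finset.card_pair]
    · exact fun e => D.ht1 (right_eq_mul.mp e)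
    · simp only [Finset.mem_insert, Finset.mem_singleton, not_or]
      exact ⟨Ne.symm hst, fun e => hs1 (left_eq_mul.mp e)⟩
    · simp only [Finset.mem_insert, Finset.mem_singleton, not_or]
      exact ⟨Ne.symm D.ht1, Ne.symm hs1, Ne.symm hts1⟩
  exact (hA x).mp ((Subgroup.eq_of_le_of_card_ge hAS (D.card_S.le.trans h4)).symm ▸ hx)

end AbData

end CfsgLib.MinNonCA
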