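import Cfsg.Agent.Lib.MinNonCA.Cover
import Cfsg.Agent.Lib.PSL2.Out
import Cfsg.Agent.Lib.OmegaMem
import Cfsg.Agent.Lib.InnerFix.U33

/-!
A group with all proper subgroups CA containing a perfect cover of `SL(2,q)` as a self-centralising
normal subgroup is CA.
-/

set_option autoImplicit false
set_option linter.style.haveILetI false
set_option linter.unusedSectionVars false

namespace CfsgLib.MinNonCA

open Subgroup Matrix
open CfsgLib.SL2Tori (NS commute_of_commute)
open CfsgLib.PSL2 (conjSL fieldSL coe_conjSL uSL coe_uSL dSL coe_dSL dil)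

universe u

section FieldFacts

variable {F : Type} [Field F] [Fintype F]

theorem isSquare_mul_iff_any {a b : F} (ha : a ≠ 0) (hb : b ≠ 0) : IsSquare (a * b) ↔ (IsSquare a ↔ IsSquare b) := by
  classical
  by_cases h2 : (2 : F) = 0
  · haveI : CharP F 2 := CharTwo.of_one_ne_zero_of_two_eq_zero one_ne_zero h2
    have h : ∀ x : F, IsSquare x := fun x => FiniteField.isSquare_of_char_two (ringChar.eq F 2) x
    simp [h]
  · exact CfsgLib.OmegaMem.isSquare_mul_iff h2 ha hb

theorem two_ne_zero_of_nonsquare {d : F} (hd : ¬ IsSquare d) : (2 : F) ≠ 0 := fun h2 => by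
  haveI : CharP F 2 := CharTwo.of_one_ne_zero_of_two_eq_zero one_ne_zero h2
  exact hd (FiniteField.isSquare_of_char_two (ringChar.eq F 2) d)

theorem map_isSquare_iff (σ : F ≃+* F) {d : F} : IsSquare (σ d) ↔ IsSquare d :=
  ⟨fun h => by simpa using h.map σ.symm, fun h => h.map σ⟩

/-- The fixed elements of an involutory field automorphism are squares. -/
theorem isSquare_of_fixed (h2 : (2 : F) ≠ 0) {σ : F ≃+* F} (hσ : ∀ x, σ (σ x) = x) (hne : ∃ x, σ x ≠ x) {f : F}
    (hf : σ f = f) : IsSquare f := by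
  classical
  rcases eq_or_ne f 0 with rfl | hf0
  · exact IsSquare.zero
  obtain ⟨x, hx⟩ := hne
  let K := σ.toRingHom.eqLocusField (RingHom.id F)
  haveI : Fintype K := Fintype.ofFinite K
  set δ := x - σ x with hδ
  have hδ0 : δ ≠ 0 := sub_ne_zero.mpr (Ne.symm hx)
  have hδσ : σ δ = -δ := by rw [hδ, map_sub, hσ, neg_sub]
  let f' : K := ⟨f, hf⟩
  let d' : K := ⟨δ * δ, by show σ (δ * δ) = δ * δ; rw [map_mul, hδσ, neg_mul_neg]⟩
  have hd : ¬ IsSquare d' := by
    rintro ⟨r, hr⟩
    have hr' : δ * δ = r.1 * r.1 := congrArg Subtype.val hr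
    have hrσ : σ r.1 = r.1 := r.2
    have : σ δ = δ := by
      rcases mul_self_eq_mul_self_iff.mp hr' with h | h <;> rw [h]
      · exact hrσ
      · rw [map_neg, hrσ]
    rw [hδσ] at this
    exact mul_ne_zero h2 hδ0 (by linear_combination (-1) * this)
  by_cases hf' : IsSquare f'
  · obtain ⟨r, hr⟩ := hf'
    exact ⟨r.1, congrArg Subtype.val hr⟩
  · have h2' : (2 : K) ≠ 0 := fun h => h2 (by
      have e : ((2 : K) : F) = ((0 : K) : F) := congrArg Subtype.val h
      exact e)
    have hf0' : f' ≠ 0 := fun h => hf0 (congrArg Subtype.val h)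
    have hd0 : d' ≠ 0 := fun h => mul_ne_zero hδ0 hδ0 (congrArg Subtype.val h)
    obtain ⟨r, hr⟩ := (CfsgLib.OmegaMem.isSquare_mul_iff h2' hf0' hd0).mpr (iff_of_false hf' hd)
    have hr' : f * (δ * δ) = r.1 * r.1 := congrArg Subtype.val hr
    exact ⟨r.1 / δ, by field_simp; linear_combination hr'⟩

/-- A norm that is the square of a fixed element comes from a square. -/
theorem isSquare_of_norm (h2 : (2 : F) ≠ 0) {σ : F ≃+* F} (hσ : ∀ x, σ (σ x) = x) (hne : ∃ x, σ x ≠ x)
    {d b : F} (hd : d ≠ 0) (hb : b * b = d * σ d) (hfix : σ b = b) : IsSquare d := by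
  have hb0 : b ≠ 0 := fun h => by
    rw [h, mul_zero, eq_comm, mul_eq_zero] at hb
    exact hb.elim hd fun h' => hd (σ.injective (h'.trans (map_zero σ).symm))
  set y := b / d with hy
  have hyy : y * σ y = 1 := by
    have : σ d ≠ 0 := fun h' => hd (σ.injective (h'.trans (map_zero σ).symm))
    rw [hy, map_div₀, hfix, div_mul_div_comm, hb, div_self (mul_ne_zero hd this)]
  by_cases hy1 : y = -1
  · apply isSquare_of_fixed h2 hσ hne
    have hdb : d = -b := by
      rw [hy, div_eq_iff hd] at hy1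
      linear_combination hy1
    rw [hdb, map_neg, hfix]
  · have hz0 : 1 + y ≠ 0 := fun e => hy1 (by linear_combination e)
    have hσz : σ (1 + y) ≠ 0 := fun h' => hz0 (σ.injective (h'.trans (map_zero σ).symm))
    have e : y * σ (1 + y) = 1 + y := by
      rw [map_add, map_one, mul_add, mul_one, hyy, add_comm]
    have hy0 : y ≠ 0 := div_ne_zero hb0 hd
    have hys : IsSquare y := by
      have h1 := isSquare_mul_iff_any hy0 hσz
      rw [e, map_isSquare_iff] at h1
      by_cases hz : IsSquare (1 + y)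
      · exact (h1.mp hz).mpr hz
      · by_contra hn
        exact hz (h1.mpr (iff_of_false hn hz))
    have hbd : b = y * d := by rw [hy, div_mul_cancel₀ _ hd]
    have := isSquare_of_fixed h2 hσ hne hfix
    rw [hbd, isSquare_mul_iff_any hy0 hd] at this
    exact this.mp hys

theorem uSL_add (s t : F) : (uSL s * uSL t : Matrix.SpecialLinearGroup (Fin 2) F) = uSL (s + t) :=
  Subtype.ext (by simp [coe_uSL, add_comm])

theorem uSL_neg (t : F) : (uSL (-t) : Matrix.SpecialLinearGroup (Fin 2) F) = (uSL t)⁻¹ := by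
  rw [eq_inv_iff_mul_eq_one, uSL_add, neg_add_cancel]
  exact Subtype.ext (by simp [coe_uSL, Matrix.one_fin_two])

theorem fieldSL_uSL (σ : F ≃+* F) (t : F) : fieldSL σ (uSL t) = uSL (σ t) := by
  refine Subtype.ext ?_
  show (uSL t).1.map σ.toRingHom = _
  ext i j
  fin_cases i <;> fin_cases j <;> simp [coe_uSL]

/-- The upper triangular subgroup. -/
def upperSL (F : Type) [Field F] [Fintype F] : Subgroup (Matrix.SpecialLinearGroup (Fin 2) F) where
  carrier := {A | A.1 1 0 = 0}
  one_mem' := by simp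
  mul_mem' := by
    intro A B (hA : A.1 1 0 = 0) (hB : B.1 1 0 = 0)
    show (A * B).1 1 0 = 0
    simp [Matrix.mul_apply, Fin.sum_univ_two, hA, hB]
  inv_mem' := by
    intro A (hA : A.1 1 0 = 0)
    show (A⁻¹).1 1 0 = 0
    rw [Matrix.SpecialLinearGroup.coe_inv, Matrix.adjugate_fin_two]
    simp [hA]

end FieldFacts

variable {G : Type u} [Group G] [Finite G] {F : Type} [Field F] [Fintype F] {L : Subgroup G} [L.Normal]

local notation "M2" => Matrix (Fin 2) (Fin 2) F
local notation "SL2" => Matrix.SpecialLinearGroup (Fin 2) F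

namespace Cover

variable (C : Cover L F)

/-- The action of `g` on the cover is given by `M` and `σ`. -/
def Rep (g : G) (M : GL (Fin 2) F) (σ : F ≃+* F) : Prop :=
  ∀ l : L, C.φ (MulAut.conjNormal g l) = conjSL M (fieldSL σ (C.φ l))

theorem exists_rep (hL : commutator L = ⊤) (g : G) : ∃ M σ, C.Rep g M σ := by
  obtain ⟨p, hp⟩ := CharP.exists F
  haveI : Fact p.Prime := ⟨CharP.char_is_prime F p⟩
  let ψ : L →* Matrix.ProjectiveSpecialLinearGroup (Fin 2) F := PSL2.mk.comp C.φ
  have hψ : Function.Surjective ψ := (QuotientGroup.mk'_surjective _).comp C.surj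
  have hker : ψ.ker = Subgroup.center L := by
    ext x
    rw [MonoidHom.mem_ker]
    exact ⟨fun h => C.mem_center_of_map hL ((QuotientGroup.eq_one_iff _).mp h),
      fun h => (QuotientGroup.eq_one_iff _).mpr (C.map_center h)⟩
  let e := (QuotientGroup.quotientMulEquivOfEq hker.symm).trans (QuotientGroup.quotientKerEquivOfSurjective ψ hψ)
  let χ : MulAut (Matrix.ProjectiveSpecialLinearGroup (Fin 2) F) :=
    MulAut.congr e (PSL2.centreQuotAut L (MulAut.conjNormal g))
  obtain ⟨M, σ, hMσ⟩ := PSL2.exists_diag_field p χ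
  refine ⟨M, σ, fun l => ?_⟩
  have he : ∀ x : L, e (QuotientGroup.mk x) = ψ x := fun x => rfl
  have hmk : ∀ x : L, PSL2.mk (C.φ (MulAut.conjNormal g x)) = PSL2.mk (conjSL M (fieldSL σ (C.φ x))) := by
    intro x
    have h1 : χ (ψ x) = ψ (MulAut.conjNormal g x) := by
      show e (PSL2.centreQuotAut L (MulAut.conjNormal g) (e.symm (ψ x))) = _
      rw [← he x, e.symm_apply_apply]
      exact he _
    have h2 : (PSL2.diagAut M * PSL2.fieldAut σ) (ψ x) = PSL2.mk (conjSL M (fieldSL σ (C.φ x))) := rfl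
    rw [← h2, ← hMσ, h1]
    rfl
  exact DFunLike.congr_fun (hom_eq_of_center hL (C.φ.comp (MulAut.conjNormal g).toMonoidHom)
    (((conjSL M).toMonoidHom.comp (fieldSL σ).toMonoidHom).comp C.φ)
    (fun x => QuotientGroup.eq.mp (hmk x))) l

theorem fieldSL_conjSL (σ : F ≃+* F) (M : GL (Fin 2) F) (y : SL2) :
    fieldSL σ (conjSL M y) = conjSL (GeneralLinearGroup.map σ.toRingHom M) (fieldSL σ y) := by
  refine Subtype.ext ?_
  show (M.1 * y.1 * (M⁻¹).1).map σ.toRingHom = _
  rw [coe_conjSL, ← map_inv, Matrix.map_mul, Matrix.map_mul]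
  rfl

theorem rep_mul {g g' : G} {M M' : GL (Fin 2) F} {σ σ' : F ≃+* F} (h : C.Rep g M σ) (h' : C.Rep g' M' σ') :
    C.Rep (g * g') (M * GeneralLinearGroup.map σ.toRingHom M') (σ'.trans σ) := by
  intro l
  rw [map_mul (MulAut.conjNormal (H := L)) g g', MulAut.mul_apply, h, h', fieldSL_conjSL, map_mul, MulAut.mul_apply]
  rfl

theorem conjSL_toGL (A y : SL2) : conjSL (SpecialLinearGroup.toGL A) y = A * y * A⁻¹ := by
  refine Subtype.ext ?_
  rw [coe_conjSL, ← map_inv]
  rfl

theorem rep_coe (l : L) : C.Rep (l : G) (SpecialLinearGroup.toGL (C.φ l)) (RingEquiv.refl F) := by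
  intro x
  have e : MulAut.conjNormal (l : G) x = l * x * l⁻¹ := Subtype.ext (MulAut.conjNormal_apply _ _)
  rw [e, map_mul, map_mul, map_inv, conjSL_toGL]
  congr 2

theorem reduce {g : G} {M N : GL (Fin 2) F} {σ : F ≃+* F} (h : C.Rep g M σ) {A : SL2} {r : F} (hr : r ≠ 0)
    (hM : M.1 = r • (A.1 * N.1)) {l : L} (hl : C.φ l = A) : C.Rep ((l : G)⁻¹ * g) N σ := by
  let s : GL (Fin 2) F := Units.map (algebraMap F M2).toMonoidHom (Units.mk0 r hr)
  have hs : ∀ y : SL2, conjSL s y = y := fun y => Subtype.ext (by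
    rw [coe_conjSL, show s.1 * y.1 = y.1 * s.1 from Algebra.commutes r y.1, mul_assoc, Units.mul_inv, mul_one])
  have hMN : M = s * SpecialLinearGroup.toGL A * N := Units.ext (by
    rw [hM, Units.val_mul, Units.val_mul, mul_assoc, show s.1 = algebraMap F M2 r from rfl, ← Algebra.smul_def]
    rfl)
  have hA : ∀ x, C.φ (MulAut.conjNormal g x) = A * conjSL N (fieldSL σ (C.φ x)) * A⁻¹ := fun x => by
    rw [h x, hMN, map_mul, map_mul, MulAut.mul_apply, MulAut.mul_apply, hs, conjSL_toGL]
  intro x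
  have e : MulAut.conjNormal ((l : G)⁻¹ * g) x = l⁻¹ * MulAut.conjNormal g x * l := Subtype.ext (by
    simp only [MulAut.conjNormal_apply, Subgroup.coe_mul, Subgroup.coe_inv]; group)
  rw [e, map_mul, map_mul, map_inv, hA, hl]
  group

theorem det_ne_zero (M : GL (Fin 2) F) : M.1.det ≠ 0 :=
  ((Matrix.isUnit_iff_isUnit_det _).mp M.isUnit).ne_zero

theorem exists_reduce {g : G} {M : GL (Fin 2) F} (N : GL (Fin 2) F) {σ : F ≃+* F} (h : C.Rep g M σ) {r : F}
    (hr : M.1.det = r * r * N.1.det) : ∃ l : L, C.Rep ((l : G)⁻¹ * g) N σ := by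
  have hr0 : r ≠ 0 := fun e => det_ne_zero M (by rw [hr, e, mul_zero, zero_mul])
  have hdet : (r⁻¹ • (M.1 * (N⁻¹).1)).det = 1 := by
    rw [Matrix.det_smul, Matrix.det_mul, Fintype.card_fin, hr]
    have : N.1.det * (N⁻¹).1.det = 1 := by rw [← Matrix.det_mul, Units.mul_inv, Matrix.det_one]
    field_simp
    linear_combination this
  obtain ⟨l, hl⟩ := C.surj ⟨_, hdet⟩
  refine ⟨l, C.reduce h hr0 ?_ hl⟩
  show M.1 = r • (r⁻¹ • (M.1 * (N⁻¹).1) * N.1)
  rw [smul_mul_assoc, smul_smul, mul_inv_cancel₀ hr0, one_smul, mul_assoc, Units.inv_mul, mul_one]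

theorem center_le (hC : Subgroup.centralizer (L : Set G) ≤ Subgroup.center G) {k : L} (hk : k ∈ Subgroup.center L) :
    (k : G) ∈ Subgroup.center G :=
  hC (Subgroup.mem_centralizer_iff.mpr fun x hx =>
    congrArg Subtype.val (Subgroup.mem_center_iff.mp hk ⟨x, hx⟩))

theorem mem_center_of_rep_one (hL : commutator L = ⊤) (hC : Subgroup.centralizer (L : Set G) ≤ Subgroup.center G)
    {g : G} (h : C.Rep g 1 (RingEquiv.refl F)) : g ∈ Subgroup.center G := by
  refine hC (Subgroup.mem_centralizer_iff.mpr fun x hx => ?_)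
  have hc : ∀ a : L, a⁻¹ * MulAut.conjNormal g a ∈ Subgroup.center L := fun a => C.central (by
    rw [MonoidHom.mem_ker, map_mul, map_inv, h a, map_one, MulAut.one_apply]
    exact inv_mul_cancel _)
  have e := congrArg Subtype.val (commute_all_of_center hL (MulAut.conjNormal g) hc ⟨x, hx⟩)
  rw [MulAut.conjNormal_apply] at e
  exact (mul_inv_eq_iff_eq_mul.mp e).symm

theorem decomp (hL : commutator L = ⊤) (hC : Subgroup.centralizer (L : Set G) ≤ Subgroup.center G)
    {g : G} {M : GL (Fin 2) F} (h : C.Rep g M (RingEquiv.refl F)) (hsq : IsSquare M.1.det) :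
    ∃ l : L, (l : G)⁻¹ * g ∈ Subgroup.center G := by
  obtain ⟨r, hr⟩ := hsq
  obtain ⟨l, hl⟩ := C.exists_reduce 1 h (r := r) (by rw [hr, Units.val_one, Matrix.det_one, mul_one])
  exact ⟨l, C.mem_center_of_rep_one hL hC hl⟩

theorem ker_cube {k : L} (hk : k ∈ C.φ.ker) : k ^ 3 = 1 := by
  rcases C.small with hb | ⟨-, hd⟩
  · rw [hb, Subgroup.mem_bot] at hk
    rw [hk, one_pow]
  · exact orderOf_dvd_iff_pow_eq_one.mp ((Subgroup.orderOf_dvd_natCard _ hk).trans hd)

include C in
theorem exists_sq_ne_one : ∃ s : F, s ≠ 0 ∧ s * s ≠ 1 := by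
  classical
  by_contra hc
  push Not at hc
  have hle : (Finset.univ : Finset F) ⊆ {0, 1, -1} := fun s _ => by
    by_cases hs : s = 0
    · simp [hs]
    · rcases mul_self_eq_one_iff.mp (hc s hs) with h | h <;> simp [h]
  have := (Finset.card_le_card hle).trans Finset.card_le_three
  rw [Finset.card_univ] at this
  have := C.four
  omega

theorem fixed_absurd (h : Hyp G) {g : G} {σ : F ≃+* F} (hg : C.Rep g 1 σ) {a b : L} {t : F}
    (ha : C.φ a = uSL 1) (hb : C.φ b = uSL t) (hab : a * b = b * a) (hfix : MulAut.conjNormal g a = a)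
    (ht : σ t ≠ t) : False := by
  set B : Subgroup G := ((upperSL F).comap C.φ).map L.subtype with hB
  have hUsolv : Group.IsSolvable (upperSL F) := by
    have h00 : ∀ A : upperSL F, A.1.1 0 0 * A.1.1 1 1 = 1 := fun A => by
      have hd := A.1.2
      rw [Matrix.det_fin_two, show A.1.1 1 0 = 0 from A.2, mul_zero, sub_zero] at hd
      exact hd
    let d : upperSL F →* Fˣ :=
      { toFun := fun A => Units.mk0 (A.1.1 0 0) (left_ne_zero_of_mul_eq_one (h00 A))
        map_one' := Units.ext (by simp)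
        map_mul' := fun A A' => Units.ext (by
          simp [Matrix.mul_apply, Fin.sum_univ_two, show A'.1.1 1 0 = 0 from A'.2]) }
    haveI hk : Group.IsSolvable d.ker := Group.isSolvable_of_comm fun A A' => by
      have hu : ∀ A : d.ker, (A : upperSL F).1 = uSL ((A : upperSL F).1.1 0 1) := fun A => by
        have e0 : (A : upperSL F).1.1 0 0 = 1 := congrArg Units.val (MonoidHom.mem_ker.mp A.2)
        have e1 := h00 A.1
        rw [e0, one_mul] at e1
        refine Subtype.ext ?_
        rw [coe_uSL]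
        conv_lhs => rw [Matrix.eta_fin_two (A : upperSL F).1.1, show (A : upperSL F).1.1 1 0 = 0 from A.1.2, e0, e1]
      refine Subtype.ext (Subtype.ext ?_)
      show (A : upperSL F).1 * (A' : upperSL F).1 = (A' : upperSL F).1 * (A : upperSL F).1
      rw [hu A, hu A', uSL_add, uSL_add, add_comm]
    exact Group.isSolvable_of_ker_le_range d.ker.subtype d (by rw [Subgroup.range_subtype])
  have hBsolv : Group.IsSolvable B := by
    let f := C.φ.subgroupComap (upperSL F)
    haveI hk : Group.IsSolvable f.ker := Group.isSolvable_of_comm fun x y => by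
      refine Subtype.ext (Subtype.ext ?_)
      exact Subgroup.mem_center_iff.mp (C.central (congrArg Subtype.val (MonoidHom.mem_ker.mp y.2) : C.φ _ = 1)) _
    haveI := hUsolv
    haveI : Group.IsSolvable ((upperSL F).comap C.φ) :=
      Group.isSolvable_of_ker_le_range f.ker.subtype f (by rw [Subgroup.range_subtype])
    exact Group.isSolvable_of_surjective (f := L.subtype.subgroupMap ((upperSL F).comap C.φ))
      (MonoidHom.subgroupMap_surjective _ _)
  have hnorm : g ∈ Subgroup.normalizer (B : Set G) := mem_normalizer_of_conj (by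
    rintro _ ⟨x, hx, rfl⟩
    refine ⟨MulAut.conjNormal g x, ?_, MulAut.conjNormal_apply _ _⟩
    show (C.φ (MulAut.conjNormal g x)).1 1 0 = 0
    rw [hg x, map_one, MulAut.one_apply]
    show ((C.φ x).1.map σ.toRingHom) 1 0 = 0
    rw [Matrix.map_apply, show (C.φ x).1 1 0 = 0 from hx, map_zero])
  have hH := ne_top_of_solvable h.nonsolv (isSolvable_sup_zpowers hBsolv hnorm)
  have memB : ∀ x : L, (C.φ x).1 1 0 = 0 → (x : G) ∈ B ⊔ Subgroup.zpowers g :=
    fun x hx => Subgroup.mem_sup_left ⟨x, hx, rfl⟩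
  obtain ⟨s, hs, hs1⟩ := C.exists_sq_ne_one
  obtain ⟨c, hc⟩ := C.surj (dSL s hs)
  have hga : g * (a : G) = a * g := by
    have e := congrArg Subtype.val hfix
    rw [MulAut.conjNormal_apply] at e
    exact mul_inv_eq_iff_eq_mul.mp e
  have hgb := h.comm hH (x := (a : G)) (a := g) (b := (b : G)) (c := (c : G))
    (memB a (by rw [ha]; simp [coe_uSL])) (Subgroup.mem_sup_right (Subgroup.mem_zpowers g))
    (memB b (by rw [hb]; simp [coe_uSL])) (memB c (by rw [hc]; simp [coe_dSL])) hga
    (congrArg Subtype.val hab).symm (fun e => by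
      have e' := congrArg C.φ (Subtype.ext e : c * a = a * c)
      rw [map_mul, map_mul, hc, ha] at e'
      have := congrArg (fun A : SL2 => A.1 0 1) e'
      simp [coe_uSL, coe_dSL, Matrix.mul_apply, Fin.sum_univ_two] at this
      exact hs1 (by field_simp at this; rw [← pow_two]; exact this))
  have e : MulAut.conjNormal g b = b := Subtype.ext (by
    rw [MulAut.conjNormal_apply, hgb, mul_inv_cancel_right])
  have e' := hg b
  rw [e, map_one, MulAut.one_apply, hb, fieldSL_uSL] at e'
  have := congrArg (fun A : SL2 => A.1 0 1) e'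
  simp [coe_uSL] at this
  exact ht this.symm

theorem field_eq_refl_of_one (h : Hyp G) (hC : Subgroup.centralizer (L : Set G) ≤ Subgroup.center G)
    {g : G} {σ : F ≃+* F} (hg : C.Rep g 1 σ) : σ = RingEquiv.refl F := by
  by_contra hne
  obtain ⟨a, ha⟩ := C.surj (uSL 1)
  by_cases hk : C.φ.ker = ⊥
  · have inj : Function.Injective C.φ := (MonoidHom.ker_eq_bot_iff C.φ).mp hk
    obtain ⟨t, ht⟩ : ∃ t, σ t ≠ t := by
      by_contra hc
      push Not at hc
      exact hne (RingEquiv.ext hc)
    obtain ⟨b, hb⟩ := C.surj (uSL t)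
    refine C.fixed_absurd h hg ha hb (inj ?_) (inj ?_) ht
    · rw [map_mul, map_mul, ha, hb, uSL_add, uSL_add, add_comm]
    · rw [hg, map_one, MulAut.one_apply, ha, fieldSL_uSL, map_one]
  · obtain ⟨h9, -⟩ := C.small.resolve_left hk
    haveI := InnerFix.U33.charP_three (F := F) h9
    obtain ⟨i, hi⟩ := InnerFix.U33.exists_i (F := F) h9
    have hσi : σ i = -i := (InnerFix.U33.ringAut_eq h9 hi σ).resolve_left hne
    obtain ⟨b, hb⟩ := C.surj (uSL i)
    have hgl : ∀ l : L, C.φ (MulAut.conjNormal g l) = fieldSL σ (C.φ l) := fun l => by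
      rw [hg, map_one, MulAut.one_apply]
    have hka : MulAut.conjNormal g a * a⁻¹ ∈ C.φ.ker := by
      rw [MonoidHom.mem_ker, map_mul, map_inv, hgl, ha, fieldSL_uSL, map_one, mul_inv_cancel]
    have hkb : MulAut.conjNormal g b * b ∈ C.φ.ker := by
      rw [MonoidHom.mem_ker, map_mul, hgl, hb, fieldSL_uSL, hσi, uSL_neg, inv_mul_cancel]
    have hfixk : ∀ k ∈ C.φ.ker, MulAut.conjNormal g k = k := fun k hk => Subtype.ext (by
      rw [MulAut.conjNormal_apply, Subgroup.mem_center_iff.mp (center_le hC (C.central hk)) g, mul_inv_cancel_right])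
    have hcm : a * b * a⁻¹ * b⁻¹ ∈ C.φ.ker := C.comm_mem_ker (by
      rw [ha, hb]; show uSL 1 * uSL i = uSL i * uSL 1; rw [uSL_add, uSL_add, add_comm])
    set k1 := MulAut.conjNormal g a * a⁻¹ with hk1
    set k2 := MulAut.conjNormal g b * b with hk2
    set c := a * b * a⁻¹ * b⁻¹ with hc
    have ega : MulAut.conjNormal g a = k1 * a := by rw [hk1, inv_mul_cancel_right]
    have egb : MulAut.conjNormal g b = k2 * b⁻¹ := by rw [hk2, mul_inv_cancel_right]
    have hz1 := Subgroup.mem_center_iff.mp (C.central hka)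
    have hz2 := Subgroup.mem_center_iff.mp (C.central hkb)
    have hzc := Subgroup.mem_center_iff.mp (C.central hcm)
    clear_value k1 k2 c
    have hcab : a * b = c * (b * a) := by rw [hc]; group
    have hab : a * b = b * a := by
      have e := congrArg (MulAut.conjNormal g) hcab
      rw [map_mul, map_mul, map_mul, hfixk c hcm, ega, egb] at e
      have e' : a * b⁻¹ = c * (b⁻¹ * a) := by
        apply mul_left_cancel (a := k1 * k2)
        calc k1 * k2 * (a * b⁻¹) = k1 * ((k2 * a) * b⁻¹) := by group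
          _ = k1 * ((a * k2) * b⁻¹) := by rw [hz2 a]
          _ = k1 * a * (k2 * b⁻¹) := by group
          _ = c * (k2 * b⁻¹ * (k1 * a)) := e
          _ = c * (k2 * (b⁻¹ * k1) * a) := by group
          _ = c * (k2 * (k1 * b⁻¹) * a) := by rw [hz1]
          _ = (c * (k2 * k1)) * (b⁻¹ * a) := by group
          _ = ((k2 * k1) * c) * (b⁻¹ * a) := by rw [hzc]
          _ = ((k1 * k2) * c) * (b⁻¹ * a) := by rw [hz1 k2]
          _ = k1 * k2 * (c * (b⁻¹ * a)) := by group
      have e2 : a * b⁻¹ = c⁻¹ * (b⁻¹ * a) := by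
        calc a * b⁻¹ = (b * c)⁻¹ * ((b * c) * a * b⁻¹) := by group
          _ = (b * c)⁻¹ * ((c * (b * a)) * b⁻¹) := by rw [hzc b]; group
          _ = (c * b)⁻¹ * ((a * b) * b⁻¹) := by rw [hzc b, hcab]
          _ = b⁻¹ * c⁻¹ * a := by group
          _ = c⁻¹ * (b⁻¹ * a) := by
            rw [← mul_assoc, (show Commute b⁻¹ c⁻¹ from (show Commute b c from hzc b).inv_inv).eq]
      have h2 : c = c⁻¹ := mul_right_cancel (e'.symm.trans e2)
      have h3 := C.ker_cube hcm
      rw [pow_succ, pow_two, eq_inv_iff_mul_eq_one.mp h2, one_mul] at h3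
      rw [hcab, h3, one_mul]
    have hg3 : C.Rep (g * g * g) 1 (σ.trans (σ.trans σ)) := by
      have := C.rep_mul (C.rep_mul hg hg) hg
      rwa [map_one, map_one, one_mul, one_mul] at this
    refine C.fixed_absurd h hg3 ha hb hab ?_ ?_
    · rw [map_mul, map_mul, MulAut.mul_apply, MulAut.mul_apply, ega, map_mul, hfixk k1 hka, ega, map_mul, map_mul,
        hfixk k1 hka, ega, show k1 * (k1 * (k1 * a)) = k1 ^ 3 * a by rw [pow_succ, pow_two]; group,
        C.ker_cube hka, one_mul]
    · show σ (σ (σ i)) ≠ i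
      rw [hσi, map_neg, hσi, map_neg, map_neg, hσi, neg_neg]
      intro e
      have h3 : (3 : F) = 0 := by exact_mod_cast CharP.cast_eq_zero F 3
      have : i = 0 := by linear_combination e + i * h3
      rw [this, mul_zero] at hi
      exact one_ne_zero (α := F) (by linear_combination hi)

theorem field_eq_refl (h : Hyp G) (hL : commutator L = ⊤)
    (hC : Subgroup.centralizer (L : Set G) ≤ Subgroup.center G) {g : G} {M : GL (Fin 2) F} {σ : F ≃+* F}
    (hg : C.Rep g M σ) : σ = RingEquiv.refl F := by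
  have hsquare : ∀ {g : G} {M : GL (Fin 2) F} {σ : F ≃+* F}, C.Rep g M σ → IsSquare M.1.det →
      σ = RingEquiv.refl F := by
    intro g M σ hg hsq
    obtain ⟨r, hr⟩ := hsq
    obtain ⟨l, hl⟩ := C.exists_reduce 1 hg (r := r) (by rw [hr, Units.val_one, Matrix.det_one, mul_one])
    exact C.field_eq_refl_of_one h hC hl
  set d := M.1.det with hdd
  by_cases hsq : IsSquare d
  · exact hsquare hg hsq
  have h2 := two_ne_zero_of_nonsquare hsq
  have hd0 : d ≠ 0 := det_ne_zero M
  have hdet : ∀ N : GL (Fin 2) F, (GeneralLinearGroup.map σ.toRingHom N).1.det = σ N.1.det := fun N =>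
    (RingHom.map_det σ.toRingHom N.1).symm
  have hnorm : IsSquare (d * σ d) := by
    rw [isSquare_mul_iff_any hd0 (fun e => hd0 (σ.injective (e.trans (map_zero σ).symm))), map_isSquare_iff]
  have hσ2 : σ.trans σ = RingEquiv.refl F := hsquare (C.rep_mul hg hg) (by
    rw [Units.val_mul, Matrix.det_mul, hdet]; exact hnorm)
  have hσσ : ∀ x, σ (σ x) = x := fun x => RingEquiv.congr_fun hσ2 x
  by_contra hne
  obtain ⟨x, hx⟩ : ∃ x, σ x ≠ x := by
    by_contra hc
    push Not at hc
    exact hne (RingEquiv.ext hc)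
  let D : GL (Fin 2) F := dil (Units.mk0 d hd0)
  have hD : D.1 = !![d, 0; 0, 1] := rfl
  obtain ⟨l₁, hl₁⟩ := C.exists_reduce D hg (r := 1) (by rw [hD, Matrix.det_fin_two_of]; ring)
  set g' := (l₁ : G)⁻¹ * g
  obtain ⟨b, hb⟩ := hnorm
  have hb0 : b ≠ 0 := fun e => by
    rw [e, mul_zero, mul_eq_zero] at hb
    exact hb.elim hd0 fun e' => hd0 (σ.injective (e'.trans (map_zero σ).symm))
  obtain ⟨l, hl⟩ := C.surj (dSL b hb0)
  have hgg := C.rep_mul hl₁ hl₁
  rw [hσ2] at hgg
  have hz : (l : G)⁻¹ * (g' * g') ∈ Subgroup.center G := by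
    refine C.mem_center_of_rep_one hL hC (C.reduce hgg hb0 ?_ hl)
    show D.1 * D.1.map σ.toRingHom = b • ((dSL b hb0).1 * (1 : M2))
    rw [hD, coe_dSL, mul_one]
    ext i j
    fin_cases i <;> fin_cases j <;> simp [Matrix.mul_apply, Fin.sum_univ_two, hb0, hb]
  have hfix : MulAut.conjNormal g' l = l := Subtype.ext (by
    rw [MulAut.conjNormal_apply, mul_inv_eq_iff_eq_mul]
    have e := Subgroup.mem_center_iff.mp hz g'
    calc g' * (l : G) = (g' * ((l : G) * ((l : G)⁻¹ * (g' * g')))) * ((l : G)⁻¹ * (g' * g'))⁻¹ := by group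
      _ = g' * g' * g' * ((l : G)⁻¹ * (g' * g'))⁻¹ := by group
      _ = (l : G) * (((l : G)⁻¹ * (g' * g')) * g') * ((l : G)⁻¹ * (g' * g'))⁻¹ := by group
      _ = (l : G) * (g' * ((l : G)⁻¹ * (g' * g'))) * ((l : G)⁻¹ * (g' * g'))⁻¹ := by rw [e]
      _ = (l : G) * g' := by group)
  have e := hl₁ l
  rw [hfix, hl] at e
  have e00 := congrArg (fun A : SL2 => A.1 0 0) e
  simp only [coe_conjSL] at e00
  have hDinv : (D⁻¹).1 = !![d⁻¹, 0; 0, 1] := by
    show (!![((Units.mk0 d hd0)⁻¹ : Fˣ).1, 0; 0, 1] : M2) = _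
    rw [Units.val_inv_eq_inv_val, Units.val_mk0]
  have hmap : (fieldSL σ (dSL b hb0)).1 = !![σ b, 0; 0, (σ b)⁻¹] := by
    show (dSL b hb0).1.map σ.toRingHom = _
    ext i j
    fin_cases i <;> fin_cases j <;> simp [coe_dSL]
  rw [hD, hDinv, hmap, coe_dSL, Matrix.mul_fin_two, Matrix.mul_fin_two] at e00
  simp at e00
  have hbσ : σ b = b := by
    rw [mul_comm d, mul_assoc, mul_inv_cancel₀ hd0, mul_one] at e00
    exact e00.symm
  exact hsq (isSquare_of_norm h2 hσσ ⟨x, hx⟩ hd0 hb.symm hbσ)

/-- The group is CA. -/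
theorem isCA_group (h : Hyp G) (hL : commutator L = ⊤)
    (hC : Subgroup.centralizer (L : Set G) ≤ Subgroup.center G) (C : Cover L F) : IsCA G := by
  classical
  have hrep : ∀ g : G, ∃ M : GL (Fin 2) F, C.Rep g M (RingEquiv.refl F) := fun g => by
    obtain ⟨M, σ, hM⟩ := C.exists_rep hL g
    exact ⟨M, C.field_eq_refl h hL hC hM ▸ hM⟩
  choose M hM using hrep
  have hfixM : ∀ (g : G) (l : L), g * (l : G) = l * g → Commute (M g).1 (C.φ l).1 := by
    intro g l e
    have hc : MulAut.conjNormal g l = l := Subtype.ext (by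
      rw [MulAut.conjNormal_apply, e, mul_inv_cancel_right])
    have e1 := congrArg Subtype.val (hM g l)
    rw [hc, coe_conjSL] at e1
    show (M g).1 * (C.φ l).1 = (C.φ l).1 * (M g).1
    calc (M g).1 * (C.φ l).1 = (M g).1 * (fieldSL (RingEquiv.refl F) (C.φ l)).1 * (((M g)⁻¹).1 * (M g).1) := by
          rw [Units.inv_mul, mul_one]; rfl
      _ = (C.φ l).1 * (M g).1 := by rw [← mul_assoc, ← e1]
  have hsplit : ∀ g : G, IsSquare (M g).1.det → ∃ l : L, (l : G)⁻¹ * g ∈ Subgroup.center G :=
    fun g => C.decomp hL hC (hM g)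
  -- a product of two non-square elements is square
  have hprod : ∀ g g' : G, ¬ IsSquare (M g).1.det → ¬ IsSquare (M g').1.det →
      ∃ l : L, (l : G)⁻¹ * (g * g') ∈ Subgroup.center G := by
    intro g g' hg hg'
    have hr := C.rep_mul (hM g) (hM g')
    replace hr : C.Rep (g * g') (M g * M g') (RingEquiv.refl F) := hr
    refine C.decomp hL hC hr ?_
    rw [Units.val_mul, Matrix.det_mul]
    exact (isSquare_mul_iff_any (det_ne_zero _) (det_ne_zero _)).mpr (iff_of_false hg hg')
  -- commuting with a central translate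
  have hcz : ∀ {g u : G} {l : L}, (l : G)⁻¹ * u ∈ Subgroup.center G → g * u = u * g → g * (l : G) = l * g := by
    intro g u l hz e
    have hu : (l : G) = u * ((l : G)⁻¹ * u)⁻¹ := by group
    rw [hu]
    exact ((show Commute g u from e).mul_right
      (Subgroup.mem_center_iff.mp ((Subgroup.center G).inv_mem hz) g)).eq
  refine isCA_of_comm fun x hx a b hax hbx => ?_
  by_cases hxs : IsSquare (M x).1.det
  · obtain ⟨l, hl⟩ := hsplit x hxs
    have hlc : l ∉ Subgroup.center L := fun e => hx (by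
      rw [show x = (l : G) * ((l : G)⁻¹ * x) by group]
      exact (Subgroup.center G).mul_mem (center_le hC e) hl)
    have hin : ∀ y : G, y * x = x * y → ∀ l' : L, (l' : G)⁻¹ * y ∈ Subgroup.center G → l' * l = l * l' :=
      fun y hy l' hl' => Subtype.ext ((hcz hl' (hcz hl hy).symm).symm)
    -- one outside, one inside
    have mixed : ∀ y z : G, y * x = x * y → z * x = x * z → ¬ IsSquare (M y).1.det →
        ∀ l2 : L, (l2 : G)⁻¹ * z ∈ Subgroup.center G → y * z = z * y := by
      intro y z hy hz hys l2 hl2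
      have h2 := hin z hz l2 hl2
      obtain ⟨α, β, hMy⟩ := SL2Centralizer.exists_of_commute (C.ns hL hlc) (hfixM y l (hcz hl hy))
      have hφ : (C.φ l2).1 * (C.φ l).1 = (C.φ l).1 * (C.φ l2).1 :=
        congrArg Subtype.val ((show Commute l2 l from h2).map C.φ).eq
      have hk : MulAut.conjNormal y l2 * l2⁻¹ ∈ C.φ.ker := by
        rw [MonoidHom.mem_ker, map_mul, map_inv, mul_inv_eq_one]
        refine Subtype.ext ?_
        rw [hM y l2, coe_conjSL]
        show (M y).1 * (C.φ l2).1 * ((M y)⁻¹).1 = (C.φ l2).1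
        have hc : Commute (M y).1 (C.φ l2).1 := by
          rw [hMy]
          exact ((Commute.one_left _).smul_left α).add_left ((show Commute (C.φ l).1 (C.φ l2).1 from hφ.symm).smul_left β)
        rw [hc.eq, mul_assoc, Units.mul_inv, mul_one]
      set k := MulAut.conjNormal y l2 * l2⁻¹ with hkdef
      have hkz := center_le hC (C.central hk)
      obtain ⟨l3, hl3⟩ := hprod y y hys hys
      have h3 := hin (y * y) ((show Commute y x from hy).mul_left hy) l3 hl3
      have h23 : l3 * l2 = l2 * l3 := (C.isCA hL).comm hlc h3 h2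
      have hyy : Commute (y * y) (l2 : G) := by
        rw [show y * y = (l3 : G) * ((l3 : G)⁻¹ * (y * y)) by group]
        exact (show Commute (l3 : G) l2 from congrArg Subtype.val h23).mul_left
          (Subgroup.mem_center_iff.mp hl3 _).symm
      have e1 : y * (l2 : G) * y⁻¹ = k * l2 := by
        have := congrArg Subtype.val (show MulAut.conjNormal y l2 = k * l2 by rw [hkdef, inv_mul_cancel_right])
        rwa [MulAut.conjNormal_apply] at this
      have h4 := conj_pow_central hkz e1 2
      rw [pow_two, pow_two, hyy.eq, mul_inv_cancel_right] at h4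
      have hk2 : (k : G) * k = 1 := by
        have := h4.symm
        rwa [mul_eq_right] at this
      have hk1 : (k : G) = 1 := by
        have h3' := congrArg Subtype.val (C.ker_cube hk)
        rw [pow_succ, pow_two] at h3'
        simpa [hk2] using h3'
      rw [hk1, one_mul, mul_inv_eq_iff_eq_mul] at e1
      rw [show z = (l2 : G) * ((l2 : G)⁻¹ * z) by group]
      exact (show Commute y l2 from e1).mul_right (Subgroup.mem_center_iff.mp hl2 y)
    by_cases has : IsSquare (M a).1.det <;> by_cases hbs : IsSquare (M b).1.det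
    · obtain ⟨l1, hl1⟩ := hsplit a has
      obtain ⟨l2, hl2⟩ := hsplit b hbs
      have e := congrArg Subtype.val ((C.isCA hL).comm hlc (hin a hax l1 hl1) (hin b hbx l2 hl2))
      rw [show a = (l1 : G) * ((l1 : G)⁻¹ * a) by group, show b = (l2 : G) * ((l2 : G)⁻¹ * b) by group]
      have z1 := Subgroup.mem_center_iff.mp hl1
      have z2 := Subgroup.mem_center_iff.mp hl2
      exact (((show Commute (l1 : G) l2 from e).mul_right (z2 _)).mul_left
        ((show Commute ((l1 : G)⁻¹ * a) l2 from (z1 _).symm).mul_right (z1 _).symm)).eq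
    · obtain ⟨l1, hl1⟩ := hsplit a has
      exact (mixed b a hbx hax hbs l1 hl1).symm
    · obtain ⟨l2, hl2⟩ := hsplit b hbs
      exact mixed a b hax hbx has l2 hl2
    · obtain ⟨l2, hl2⟩ := hprod b a hbs has
      have e := mixed a (b * a) hax ((show Commute b x from hbx).mul_left hax) has l2 hl2
      exact mul_right_cancel (b := a) (by simpa [mul_assoc] using e)
  · have hns : ∀ r : F, (M x).1 ≠ r • (1 : M2) := fun r e => hxs (by
      rw [e, Matrix.det_smul, Matrix.det_one, mul_one, Fintype.card_fin, pow_two]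
      exact ⟨r, rfl⟩)
    have key : ∀ y z : G, y * x = x * y → z * x = x * z → ∀ l1 l2 : L, (l1 : G)⁻¹ * y ∈ Subgroup.center G →
        (l2 : G)⁻¹ * z ∈ Subgroup.center G → y * z = z * y := by
      intro y z hy hz l1 l2 hl1 hl2
      have z1 := Subgroup.mem_center_iff.mp hl1
      have z2 := Subgroup.mem_center_iff.mp hl2
      suffices e : l1 * l2 = l2 * l1 by
        rw [show y = (l1 : G) * ((l1 : G)⁻¹ * y) by group, show z = (l2 : G) * ((l2 : G)⁻¹ * z) by group]
        exact (((show Commute (l1 : G) l2 from congrArg Subtype.val e).mul_right (z2 _)).mul_left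
          ((show Commute ((l1 : G)⁻¹ * y) l2 from (z1 _).symm).mul_right (z1 _).symm)).eq
      have c1 := hfixM x l1 (hcz hl1 hy.symm)
      have c2 := hfixM x l2 (hcz hl2 hz.symm)
      obtain ⟨α, β, e1⟩ := SL2Centralizer.exists_of_commute hns c1.symm
      have hcc : Commute (C.φ l1) (C.φ l2) := Subtype.ext (by
        show (C.φ l1).1 * (C.φ l2).1 = (C.φ l2).1 * (C.φ l1).1
        rw [e1]
        exact (((Commute.one_left _).smul_left α).add_left (c2.smul_left β)).eq)
      by_contra hne
      obtain ⟨-, -, -, g, hg, htr, hga⟩ := C.exists_unip hcc hne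
      have hns1 : NS (C.φ l1) := C.ns hL fun e => hne (Subgroup.mem_center_iff.mp e l2).symm
      obtain ⟨α', β', e2⟩ := SL2Centralizer.exists_of_commute hns1 c1
      have hcg : Commute (M x).1 g.1 := by
        rw [e2]
        exact ((Commute.one_left _).smul_left α').add_left
          ((show Commute (C.φ l1).1 g.1 from congrArg Subtype.val hga.symm.eq).smul_left β')
      obtain ⟨_, _, -, hdet⟩ := commutant_unip hg htr hcg
      exact hxs ⟨_, hdet⟩
    have norm' : ∀ y : G, y * x = x * y → ∃ (y' : G) (l' : L), (y' = y ∨ y' = y * x) ∧ y' * x = x * y' ∧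
        (l' : G)⁻¹ * y' ∈ Subgroup.center G := by
      intro y hy
      by_cases hys : IsSquare (M y).1.det
      · obtain ⟨l', hl'⟩ := hsplit y hys
        exact ⟨y, l', Or.inl rfl, hy, hl'⟩
      · obtain ⟨l', hl'⟩ := hprod y x hys hxs
        exact ⟨y * x, l', Or.inr rfl, by rw [hy, mul_assoc, hy], hl'⟩
    obtain ⟨a', l1, ha', hax', hl1⟩ := norm' a hax
    obtain ⟨b', l2, hb', hbx', hl2⟩ := norm' b hbx
    have e : Commute a' b' := key a' b' hax' hbx' l1 l2 hl1 hl2
    have hA : Commute a x := hax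
    have hB : Commute b x := hbx
    have hab' : Commute a' b := by
      rcases hb' with rfl | rfl
      · exact e
      · have := e.mul_right ((show Commute a' x from hax').inv_right)
        rwa [mul_inv_cancel_right] at this
    rcases ha' with rfl | rfl
    · exact hab'
    · have := hab'.mul_left hB.symm.inv_left
      rw [mul_inv_cancel_right] at this
      exact this

end Cover

end CfsgLib.MinNonCA
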