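import Cfsg.Agent.Lib.CIT.Basic
import Cfsg.Agent.Lib.ZJ.Complement
import Cfsg.Agent.Lib.Signalizer.Functor
import Cfsg.Agent.Lib.OddOrder.FeitThompson
import Cfsg.Agent.Lib.CharTheory.Burnside

/-!
Groups all of whose proper subgroups are CA-groups: elementary facts.
-/

set_option autoImplicit false
set_option linter.style.haveILetI false
set_option linter.unusedSectionVars false

namespace CfsgLib.MinNonCA

open Subgroup

universe u

/-- Every non-central element has abelian centraliser. -/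
def IsCA (G : Type u) [Group G] : Prop :=
  ∀ x : G, x ∉ Subgroup.center G → IsMulCommutative (Subgroup.centralizer ({x} : Set G))

/-- Non-solvable with all proper subgroups CA. -/
structure Hyp (G : Type u) [Group G] : Prop where
  nonsolv : ¬ Group.IsSolvable G
  sub : ∀ H : Subgroup G, H ≠ ⊤ → IsCA H

variable {G : Type u} [Group G]

/-- Two commuting partners of a non-central element commute. -/
theorem IsCA.comm (h : IsCA G) {x a b : G} (hx : x ∉ Subgroup.center G) (ha : a * x = x * a)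
    (hb : b * x = x * b) : a * b = b * a := by
  haveI := h x hx
  exact congrArg Subtype.val (mul_comm'
    (⟨a, Subgroup.mem_centralizer_singleton_iff.mpr ha⟩ : Subgroup.centralizer ({x} : Set G))
    ⟨b, Subgroup.mem_centralizer_singleton_iff.mpr hb⟩)

theorem isCA_of_comm (h : ∀ x : G, x ∉ Subgroup.center G → ∀ a b : G, a * x = x * a → b * x = x * b → a * b = b * a) :
    IsCA G := fun x hx => ⟨⟨fun a b => Subtype.ext
  (h x hx a b (Subgroup.mem_centralizer_singleton_iff.mp a.2) (Subgroup.mem_centralizer_singleton_iff.mp b.2))⟩⟩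

theorem IsCA.of_injective {H : Type u} [Group H] (f : H →* G) (hf : Function.Injective f) (h : IsCA G) : IsCA H :=
  isCA_of_comm fun x hx a b ha hb => hf (by
    have hx' : f x ∉ Subgroup.center G := fun hc => hx (Subgroup.mem_center_iff.mpr fun g =>
      hf (by rw [map_mul, map_mul]; exact Subgroup.mem_center_iff.mp hc (f g)))
    rw [map_mul, map_mul]
    exact h.comm hx' (by rw [← map_mul, ← map_mul, ha]) (by rw [← map_mul, ← map_mul, hb]))

/-- The basic move. -/
theorem Hyp.move (h : Hyp G) {H : Subgroup G} (hH : H ≠ ⊤) {x a b : G} (hx : x ∈ H) (ha : a ∈ H) (hb : b ∈ H)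
    (hxa : a * x = x * a) (hxb : b * x = x * b) (hab : a * b ≠ b * a) : ∀ c ∈ H, c * x = x * c := by
  by_contra hc
  push Not at hc
  obtain ⟨c, hc, hne⟩ := hc
  exact hab (congrArg Subtype.val ((h.sub H hH).comm (x := ⟨x, hx⟩) (a := ⟨a, ha⟩) (b := ⟨b, hb⟩)
    (fun hz => hne (congrArg Subtype.val (Subgroup.mem_center_iff.mp hz ⟨c, hc⟩)))
    (Subtype.ext hxa) (Subtype.ext hxb)))

/-- In a proper subgroup, two elements commuting with a non-central element commute. -/
theorem Hyp.comm (h : Hyp G) {H : Subgroup G} (hH : H ≠ ⊤) {x a b c : G} (hx : x ∈ H) (ha : a ∈ H) (hb : b ∈ H)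
    (hc : c ∈ H) (hxa : a * x = x * a) (hxb : b * x = x * b) (hxc : c * x ≠ x * c) : a * b = b * a := by
  by_contra hab
  exact hxc (h.move hH hx ha hb hxa hxb hab c hc)

theorem Hyp.subgroup (h : Hyp G) {U : Subgroup G} (hU : ¬ Group.IsSolvable U) : Hyp U := by
  refine ⟨hU, fun H hH => ?_⟩
  have hne : H.map U.subtype ≠ ⊤ := by
    intro e
    apply hH
    rw [eq_top_iff]
    intro a _
    obtain ⟨b, hb, hba⟩ := (e ▸ Subgroup.mem_top (a : G) : (a : G) ∈ H.map U.subtype)
    rwa [← U.subtype_injective hba]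
  exact (h.sub _ hne).of_injective (H.equivMapOfInjective _ U.subtype_injective).toMonoidHom
    (H.equivMapOfInjective _ U.subtype_injective).injective

theorem Hyp.of_equiv {H : Type u} [Group H] (e : G ≃* H) (h : Hyp G) : Hyp H := by
  refine ⟨fun hs => h.nonsolv (Group.isSolvable_of_isSolvable_injective (f := e.toMonoidHom) e.injective), fun K hK => ?_⟩
  have hne : K.map e.symm.toMonoidHom ≠ ⊤ := by
    intro eK
    apply hK
    rw [eq_top_iff]
    intro a _
    obtain ⟨b, hb, hba⟩ := (eK ▸ Subgroup.mem_top (e.symm a) : e.symm a ∈ K.map e.symm.toMonoidHom)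
    rwa [← e.symm.injective hba]
  exact (h.sub _ hne).of_injective (K.equivMapOfInjective e.symm.toMonoidHom e.symm.injective).toMonoidHom
    (K.equivMapOfInjective e.symm.toMonoidHom e.symm.injective).injective

theorem isSolvable_of_le {H K : Subgroup G} (h : H ≤ K) (hK : Group.IsSolvable K) : Group.IsSolvable H :=
  Group.isSolvable_of_isSolvable_injective (f := Subgroup.inclusion h) (Subgroup.inclusion_injective h)

theorem isSolvable_bot : Group.IsSolvable (⊥ : Subgroup G) := Group.isSolvable_of_comm fun _ _ => Subsingleton.elim _ _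

theorem isSolvable_zpowers (g : G) : Group.IsSolvable (Subgroup.zpowers g) :=
  Group.isSolvable_of_comm fun a b => mul_comm' a b

theorem ne_top_of_solvable (h : ¬ Group.IsSolvable G) {H : Subgroup G} (hH : Group.IsSolvable H) : H ≠ ⊤ := by
  rintro rfl
  exact h (Group.isSolvable_of_isSolvable_injective (f := (Subgroup.topEquiv (G := G)).symm.toMonoidHom)
    (Subgroup.topEquiv (G := G)).symm.injective)

/-- Adjoining an element normalising a solvable subgroup keeps it solvable. -/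
theorem isSolvable_sup_zpowers [Finite G] {H : Subgroup G} (hH : Group.IsSolvable H) {g : G}
    (hg : g ∈ Subgroup.normalizer (H : Set G)) : Group.IsSolvable ↥(H ⊔ Subgroup.zpowers g) :=
  CfsgLib.Signalizer.isSolvable_sup' hH (isSolvable_zpowers g) (Subgroup.zpowers_le.mpr hg)

theorem mem_normalizer_of_conj [Finite G] {H : Subgroup G} {g : G} (h : ∀ x ∈ H, g * x * g⁻¹ ∈ H) :
    g ∈ Subgroup.normalizer (H : Set G) := by
  have e : H.map (MulAut.conj g).toMonoidHom = H := by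
    refine Subgroup.eq_of_le_of_card_ge ?_ (Nat.card_congr
      (H.equivMapOfInjective _ (MulAut.conj g).injective).toEquiv).le
    rintro _ ⟨x, hx, rfl⟩
    exact h x hx
  refine Subgroup.mem_normalizer_iff.mpr fun x => ⟨h x, fun hx => ?_⟩
  rw [← e] at hx
  obtain ⟨a, ha, hax⟩ := hx
  change g * a * g⁻¹ = g * x * g⁻¹ at hax
  rwa [← mul_left_cancel (mul_right_cancel hax)]

theorem normal_le_normalizer (H : Subgroup G) [hH : H.Normal] (g : G) : g ∈ Subgroup.normalizer (H : Set G) := by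
  rw [Subgroup.normalizer_eq_top]; exact Subgroup.mem_top g

theorem mem_normalizer_sup {H K : Subgroup G} {g : G} (hH : g ∈ Subgroup.normalizer (H : Set G))
    (hK : g ∈ Subgroup.normalizer (K : Set G)) [Finite G] : g ∈ Subgroup.normalizer ((H ⊔ K : Subgroup G) : Set G) := by
  refine mem_normalizer_of_conj fun x hx => ?_
  have : (H ⊔ K).map (MulAut.conj g).toMonoidHom ≤ H ⊔ K := by
    rw [Subgroup.map_sup]
    refine sup_le_sup ?_ ?_ <;> rintro _ ⟨a, ha, rfl⟩
    · exact (Subgroup.mem_normalizer_iff.mp hH a).mp ha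
    · exact (Subgroup.mem_normalizer_iff.mp hK a).mp ha
  exact this ⟨x, hx, rfl⟩

variable [Finite G]

theorem isSolvable_of_isPGroup {p : ℕ} [Fact p.Prime] {P : Subgroup G} (hP : IsPGroup p P) : Group.IsSolvable P := by
  haveI := hP.isNilpotent
  infer_instance

theorem isSolvable_sylow_normalizer (S : Sylow 2 G) :
    Group.IsSolvable (Subgroup.normalizer ((S : Subgroup G) : Set G)) := by
  haveI : Fact (Nat.Prime 2) := ⟨Nat.prime_two⟩
  set N := Subgroup.normalizer ((S : Subgroup G) : Set G)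
  let S' : Sylow 2 N := S.subtype Subgroup.le_normalizer
  haveI : (S' : Subgroup N).Normal := Subgroup.normal_in_normalizer
  refine (Group.isSolvable_iff_subgroup_quotient (S' : Subgroup N)).mpr
    ⟨isSolvable_of_isPGroup S'.2, CfsgLib.OddOrder.feitThompson ?_⟩
  rw [← Subgroup.index_eq_card, ← Nat.not_even_iff_odd, even_iff_two_dvd]
  exact S'.not_dvd_index

/-- A non-solvable group has a solvable non-abelian Sylow normaliser. -/
theorem exists_solvable_nonabelian (h : ¬ Group.IsSolvable G) :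
    ∃ Y : Subgroup G, Group.IsSolvable Y ∧ ∃ a ∈ Y, ∃ b ∈ Y, a * b ≠ b * a := by
  haveI : Fact (Nat.Prime 2) := ⟨Nat.prime_two⟩
  obtain ⟨S⟩ : Nonempty (Sylow 2 G) := inferInstance
  refine ⟨_, isSolvable_sylow_normalizer S, ?_⟩
  by_contra hc
  push Not at hc
  have hNC : Subgroup.normalizer ((S : Subgroup G) : Set G) ≤ Subgroup.centralizer ((S : Subgroup G) : Set G) :=
    fun n hn => Subgroup.mem_centralizer_iff.mpr fun s hs => hc s (Subgroup.le_normalizer hs) n hn
  have hcompl := MonoidHom.ker_transferSylow_isComplement' S hNC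
  have hodd : Odd (Nat.card (MonoidHom.transferSylow S hNC).ker) := by
    rw [← Nat.not_even_iff_odd, even_iff_two_dvd]
    exact MonoidHom.not_dvd_card_ker_transferSylow S hNC
  apply h
  haveI := CfsgLib.OddOrder.feitThompson hodd
  haveI := isSolvable_of_isPGroup S.2
  exact Group.isSolvable_of_ker_le_range (Subgroup.subtype (MonoidHom.transferSylow S hNC).ker)
    (MonoidHom.transferSylow S hNC) (by rw [Subgroup.range_subtype])

/-- A non-solvable group has a nontrivial element of odd order inverted by a 2-element. -/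
theorem exists_real {X : Type u} [Group X] [Finite X] (hX : ¬ Group.IsSolvable X) :
    ∃ y u : X, y ≠ 1 ∧ Odd (orderOf y) ∧ (∃ k, u ^ 2 ^ k = 1) ∧ u * y * u⁻¹ = y⁻¹ := by
  classical
  haveI : Fact (Nat.Prime 2) := ⟨Nat.prime_two⟩
  set P := Cfsg.pCore 2 X
  have hP : IsPGroup 2 P := CfsgLib.isPGroup_pCore 2
  have hQ : ¬ Group.IsSolvable (X ⧸ P) := fun hs =>
    hX ((Group.isSolvable_iff_subgroup_quotient P).mpr ⟨isSolvable_of_isPGroup hP, hs⟩)
  have h2 : 2 ∣ Nat.card (X ⧸ P) := by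
    rw [← even_iff_two_dvd, ← Nat.not_odd_iff_even]
    exact fun ho => hQ (CfsgLib.OddOrder.feitThompson ho)
  obtain ⟨t, ht⟩ := exists_prime_orderOf_dvd_card' 2 h2
  have hbot : Cfsg.pCore 2 (X ⧸ P) = ⊥ := CfsgLib.ZJ.pCore_quotient_pCore_eq_bot
  obtain ⟨r, k, hr, hr2, hk, hinv⟩ := _root_.CfsgLib.CIT.IsCIT.exists_inverted ht (by
    rw [hbot, Subgroup.mem_bot]; rintro rfl; simp at ht)
  obtain ⟨g, rfl⟩ := QuotientGroup.mk_surjective k
  haveI : Fact r.Prime := ⟨hr⟩
  -- an element of order `r` above `k`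
  have hdvd : r ∣ orderOf g := hk ▸ orderOf_map_dvd (QuotientGroup.mk' P) g
  obtain ⟨a, m, hm, hgm⟩ := Nat.exists_eq_pow_mul_and_not_dvd (orderOf_pos g).ne' r hr.ne_one
  obtain ⟨z, hz⟩ := QuotientGroup.mk_surjective t
  -- the `r`-part
  set g1 := g ^ m
  have hg1k : ((g1 : X) : X ⧸ P) ≠ 1 := by
    rw [QuotientGroup.mk_pow]
    intro e
    exact hm (hk ▸ orderOf_dvd_of_pow_eq_one e)
  have hg1o : g1 ^ r ^ a = 1 := by rw [← pow_mul, mul_comm, ← hgm, pow_orderOf_eq_one]
  set H := P ⊔ Subgroup.zpowers g1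
  set T := Subgroup.zpowers g1
  have hTr : IsPGroup r T := by
    obtain ⟨b, -, hb⟩ := (Nat.dvd_prime_pow hr).mp (orderOf_dvd_of_pow_eq_one hg1o)
    exact IsPGroup.of_card (n := b) (by rw [Nat.card_zpowers, hb])
  have hcardH : Nat.card H ∣ Nat.card T * Nat.card P :=
    CfsgLib.Signalizer.card_sup_dvd (fun x _ => normal_le_normalizer P x)
  obtain ⟨eP, heP⟩ := IsPGroup.iff_card.mp hP
  obtain ⟨eT, heT⟩ := IsPGroup.iff_card.mp hTr
  have hTH : T ≤ H := le_sup_right
  have hfacH : (Nat.card H).factorization r = eT := by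
    have h1 : r ^ eT ∣ Nat.card H := heT ▸ Subgroup.card_dvd_of_le hTH
    refine le_antisymm ?_ ((hr.pow_dvd_iff_le_factorization Nat.card_pos.ne').mp h1)
    have h2 : r ^ (Nat.card H).factorization r ∣ r ^ eT * 2 ^ eP := by
      have := (Nat.ordProj_dvd (Nat.card H) r).trans hcardH
      rwa [heP, heT] at this
    have hcop : Nat.Coprime (r ^ (Nat.card H).factorization r) (2 ^ eP) :=
      Nat.Coprime.pow _ _ ((Nat.coprime_primes hr Nat.prime_two).mpr hr2)
    exact (Nat.pow_dvd_pow_iff_le_right hr.one_lt).mp (hcop.dvd_of_dvd_mul_right h2)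
  set T' := T.map (MulAut.conj z).toMonoidHom
  have hzk : ((z * g1 * z⁻¹ : X) : X ⧸ P) = ((g1⁻¹ : X) : X ⧸ P) := by
    simp only [QuotientGroup.mk_mul, QuotientGroup.mk_inv, g1, QuotientGroup.mk_pow, hz]
    rw [← inv_pow, ← hinv, conj_pow]
  have hT'H : T' ≤ H := by
    rw [Subgroup.map_le_iff_le_comap, Subgroup.zpowers_le]
    show z * g1 * z⁻¹ ∈ H
    have hmem : g1 * (z * g1 * z⁻¹) ∈ P := by
      rw [← QuotientGroup.eq_one_iff, QuotientGroup.mk_mul, hzk, QuotientGroup.mk_inv, mul_inv_cancel]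
    have := H.mul_mem (H.inv_mem (Subgroup.mem_sup_right (Subgroup.mem_zpowers g1))) (Subgroup.mem_sup_left hmem)
    rwa [inv_mul_cancel_left] at this
  have hcT' : Nat.card T' = r ^ eT := by
    rw [Subgroup.card_map_of_injective (MulAut.conj z).injective]; exact heT
  let R1 : Sylow r H := Sylow.ofCard (T.subgroupOf H) (by
    rw [Nat.card_congr (Subgroup.subgroupOfEquivOfLe hTH).toEquiv, heT, hfacH])
  let R2 : Sylow r H := Sylow.ofCard (T'.subgroupOf H) (by
    rw [Nat.card_congr (Subgroup.subgroupOfEquivOfLe hT'H).toEquiv, hcT', hfacH])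
  obtain ⟨⟨c, hc⟩, hcR⟩ := MulAction.exists_smul_eq H R2 R1
  -- `c z` normalises `T`
  have hnorm : ∀ x ∈ T, c * z * x * (c * z)⁻¹ ∈ T := by
    intro x hx
    have hx' : z * x * z⁻¹ ∈ T' := ⟨x, hx, rfl⟩
    have hmem : (⟨c, hc⟩ : H) * ⟨z * x * z⁻¹, hT'H hx'⟩ * (⟨c, hc⟩ : H)⁻¹ ∈ (R1 : Subgroup H) := by
      rw [← hcR, Sylow.smul_def]
      exact Subgroup.smul_mem_pointwise_smul _ (MulAut.conj (⟨c, hc⟩ : H)) _ hx'
    have : c * (z * x * z⁻¹) * c⁻¹ ∈ T := hmem
    rwa [show c * z * x * (c * z)⁻¹ = c * (z * x * z⁻¹) * c⁻¹ by group]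
  have hcomm : ∀ d ∈ H, Commute (d : X ⧸ P) ((g1 : X) : X ⧸ P) := by
    intro d hd
    obtain ⟨p, hp, x, hx, rfl⟩ := Subgroup.mem_sup_of_normal_left.mp hd
    obtain ⟨i, rfl⟩ := Subgroup.mem_zpowers_iff.mp hx
    rw [QuotientGroup.mk_mul, (QuotientGroup.eq_one_iff p).mpr hp, one_mul, QuotientGroup.mk_zpow]
    exact (Commute.refl _).zpow_left i
  have hw : ((c * z * g1 * (c * z)⁻¹ : X) : X ⧸ P) = ((g1⁻¹ : X) : X ⧸ P) := by
    rw [show c * z * g1 * (c * z)⁻¹ = c * (z * g1 * z⁻¹) * c⁻¹ by group, QuotientGroup.mk_mul,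
      QuotientGroup.mk_mul, hzk, QuotientGroup.mk_inv, QuotientGroup.mk_inv, ((hcomm c hc).inv_right).eq,
      mul_inv_cancel_right]
  have hinvw : c * z * g1 * (c * z)⁻¹ = g1⁻¹ := by
    have hmem : c * z * g1 * (c * z)⁻¹ * g1 ∈ T :=
      T.mul_mem (hnorm g1 (Subgroup.mem_zpowers g1)) (Subgroup.mem_zpowers g1)
    have hmemP : c * z * g1 * (c * z)⁻¹ * g1 ∈ P := by
      rw [← QuotientGroup.eq_one_iff, QuotientGroup.mk_mul, hw, QuotientGroup.mk_inv, inv_mul_cancel]
    have hd : Disjoint T P := IsPGroup.disjoint_of_ne r 2 hr2 T P hTr hP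
    exact mul_eq_one_iff_eq_inv.mp (Subgroup.disjoint_def.mp hd hmem hmemP)
  -- the 2-part of `c z`
  obtain ⟨j, n, hn, hjn⟩ := Nat.exists_eq_pow_mul_and_not_dvd (orderOf_pos (c * z)).ne' 2 (by norm_num)
  refine ⟨g1, (c * z) ^ n, fun e => hg1k (by rw [e]; rfl), ?_, ⟨j, by rw [← pow_mul, mul_comm, ← hjn, pow_orderOf_eq_one]⟩, ?_⟩
  · exact ((hr.odd_of_ne_two hr2).pow).of_dvd_nat (orderOf_dvd_of_pow_eq_one hg1o)
  · have hodd : Odd n := Nat.not_even_iff_odd.mp fun e => hn (even_iff_two_dvd.mp e)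
    obtain ⟨i, rfl⟩ := hodd
    have hsq : Commute ((c * z) ^ 2) g1 := by
      have : c * z * (c * z * g1 * (c * z)⁻¹) * (c * z)⁻¹ = g1 := by
        rw [hinvw, ← conj_inv, hinvw, inv_inv]
      refine mul_inv_eq_iff_eq_mul.mp ?_
      calc (c * z) ^ 2 * g1 * ((c * z) ^ 2)⁻¹ = c * z * (c * z * g1 * (c * z)⁻¹) * (c * z)⁻¹ := by
            rw [pow_two]; group
        _ = g1 := this
    have e : ∀ p q : X, p * q * g1 * (p * q)⁻¹ = p * (q * g1 * q⁻¹) * p⁻¹ := fun p q => by group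
    rw [pow_succ', e, pow_mul, (hsq.pow_left i).eq, mul_inv_cancel_right, hinvw]

/-- The real element modulo a solvable normal subgroup. -/
theorem exists_real_mod {E : Subgroup G} [E.Normal] (hG : ¬ Group.IsSolvable G) (hE : Group.IsSolvable E) :
    ∃ y u : G, y ∉ E ∧ Odd (orderOf y) ∧ (∃ k, u ^ 2 ^ k = 1) ∧ u * y * u⁻¹ * y ∈ E := by
  obtain ⟨yb, ub, hy1, hyo, ⟨k, huk⟩, hinv⟩ := exists_real (X := G ⧸ E)
    (fun hs => hG ((Group.isSolvable_iff_subgroup_quotient E).mpr ⟨hE, hs⟩))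
  obtain ⟨g, rfl⟩ := QuotientGroup.mk_surjective yb
  obtain ⟨z, rfl⟩ := QuotientGroup.mk_surjective ub
  obtain ⟨a, m, hm, hgm⟩ := Nat.exists_eq_pow_mul_and_not_dvd (orderOf_pos g).ne' 2 (by norm_num)
  obtain ⟨b, n, hn, hzn⟩ := Nat.exists_eq_pow_mul_and_not_dvd (orderOf_pos z).ne' 2 (by norm_num)
  have hoy : Nat.Coprime (2 ^ a) (orderOf ((g : G) : G ⧸ E)) := by
    refine Nat.Coprime.pow_left a ?_
    exact Nat.coprime_two_left.mpr hyo
  have hoz : Nat.Coprime n (2 ^ k) := Nat.Coprime.pow_right k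
    (Nat.coprime_two_right.mpr (Nat.not_even_iff_odd.mp fun e => hn (even_iff_two_dvd.mp e)))
  obtain ⟨a', ha'⟩ := exists_pow_eq_self_of_coprime hoy
  have hy' : ((g ^ (2 ^ a * a') : G) : G ⧸ E) = g := by
    rw [QuotientGroup.mk_pow, pow_mul, ha']
  have hyodd : Odd (orderOf (g ^ (2 ^ a * a'))) := by
    refine (Nat.not_even_iff_odd.mp fun e => hm (even_iff_two_dvd.mp e)).of_dvd_nat (orderOf_dvd_of_pow_eq_one ?_)
    rw [← pow_mul, show 2 ^ a * a' * m = 2 ^ a * m * a' by ring, pow_mul, ← hgm, pow_orderOf_eq_one, one_pow]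
  obtain ⟨n', hn'⟩ : ∃ n', ((z : G) : G ⧸ E) ^ (n * n') = z := by
    obtain ⟨n', hn'⟩ := exists_pow_eq_self_of_coprime (x := ((z : G) : G ⧸ E))
      (hoz.coprime_dvd_right (orderOf_dvd_of_pow_eq_one huk))
    exact ⟨n', by rw [pow_mul, hn']⟩
  refine ⟨g ^ (2 ^ a * a'), z ^ (n * n'), fun hmem => hy1 (hy' ▸ (QuotientGroup.eq_one_iff _).mpr hmem), hyodd,
    ⟨b, ?_⟩, ?_⟩
  · rw [← pow_mul, show n * n' * 2 ^ b = 2 ^ b * n * n' by ring, pow_mul, ← hzn, pow_orderOf_eq_one, one_pow]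
  · rw [← QuotientGroup.eq_one_iff, QuotientGroup.mk_mul, QuotientGroup.mk_mul, QuotientGroup.mk_mul,
      QuotientGroup.mk_inv, hy', QuotientGroup.mk_pow, hn', hinv, inv_mul_cancel]

end CfsgLib.MinNonCA
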