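import Cfsg.Agent.Lib.MinNonCA.TwoSylowCore
import Cfsg.Agent.Lib.AltMult.SLNine

/-!
Perfect groups with all proper subgroups CA and non-abelian Sylow 2-subgroups map onto `SL(2,q)`.
-/

set_option autoImplicit false
set_option linter.style.haveILetI false
set_option linter.unusedSectionVars false

namespace CfsgLib.MinNonCA

open Subgroup

universe u v w

variable {L : Type u} [Group L] [Finite L]

namespace TwoData

variable (D : TwoData L)

theorem odd_card_O : Odd (Nat.card D.O) := by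
  haveI : Fact (Nat.Prime 2) := ⟨Nat.prime_two⟩
  rw [← Nat.not_even_iff_odd, even_iff_two_dvd]
  intro h
  obtain ⟨u, hu⟩ := exists_prime_orderOf_dvd_card' 2 h
  have := (D.mem_O.mp u.2).2
  rw [Subgroup.orderOf_coe, hu] at this
  exact absurd this (by decide)

include D in
/-- Recognition of the simple quotient. -/
theorem psl2 : ∃ (F : Type) (_ : Field F) (_ : Fintype F), Odd (Fintype.card F) ∧
    Nonempty ((L ⧸ Subgroup.center L) ≃* Matrix.ProjectiveSpecialLinearGroup (Fin 2) F) := by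
  classical
  haveI : Fact (Nat.Prime 2) := ⟨Nat.prime_two⟩
  haveI := D.q.simple
  obtain ⟨n, hn, ⟨eS⟩⟩ := D.exists_dihedral
  set T := (D.Sbar : Subgroup (L ⧸ Subgroup.center L)) with hT
  set O' := D.O.map π with hO'
  set C' := Subgroup.centralizer ({π D.a} : Set (L ⧸ Subgroup.center L)) with hC'
  have hā : orderOf (π D.a) = 2 :=
    CfsgLib.Involutions.orderOf_eq_two_iff'.mpr ⟨D.π_a, fun e => D.haZ (π_eq_one.mp e)⟩
  have hlift : ∀ g : L, π g ∈ C' → g ∈ D.Dg := fun g hg => hg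
  have hTC : ∀ c ∈ T, c * π D.a = π D.a * c := by
    intro c hc
    obtain ⟨s, hs, rfl⟩ := D.mem_Sbar.mp hc
    exact Subgroup.mem_centralizer_singleton_iff.mp (D.S_le_Dg hs)
  have hOC : O' ≤ C' := by
    rintro _ ⟨u, hu, rfl⟩
    exact D.O_le_Dg hu
  have hOodd : Odd (Nat.card O') := D.odd_card_O.of_dvd_nat (Subgroup.card_map_dvd D.O _)
  have hdisj : ∀ c ∈ O', c ∈ T → c = 1 := by
    intro c hc hcT
    obtain ⟨j, hj⟩ := D.Sbar.2 ⟨c, hcT⟩
    exact orderOf_eq_one_iff.mp (Nat.eq_one_of_dvd_coprimes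
      (Nat.Coprime.pow_right j (Nat.coprime_two_right.mpr hOodd)) (Subgroup.orderOf_dvd_natCard _ hc)
      (orderOf_dvd_of_pow_eq_one (congrArg Subtype.val hj)))
  have hcore : O' = (Cfsg.oddCore C').map C'.subtype := by
    haveI hn' : (O'.subgroupOf C').Normal := by
      refine ⟨fun y hy c => ?_⟩
      obtain ⟨u, hu, e⟩ := hy
      obtain ⟨g, hg⟩ := QuotientGroup.mk'_surjective (Subgroup.center L) (c : L ⧸ Subgroup.center L)
      have hg' : π g = (c : L ⧸ Subgroup.center L) := hg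
      refine ⟨g * u * g⁻¹, D.conj_O (hlift g (hg' ▸ c.2)) hu, ?_⟩
      show π (g * u * g⁻¹) = (c : L ⧸ Subgroup.center L) * y * (c : L ⧸ Subgroup.center L)⁻¹
      rw [map_mul, map_mul, map_inv, hg']
      exact congrArg (fun a => (c : L ⧸ Subgroup.center L) * a * (c : L ⧸ Subgroup.center L)⁻¹) e
    have hodd' : Odd (Nat.card (O'.subgroupOf C')) := by
      rw [Nat.card_congr (Subgroup.subgroupOfEquivOfLe hOC).toEquiv]
      exact hOodd
    refine le_antisymm (fun y hy => ⟨⟨y, hOC hy⟩, CfsgLib.le_oddCore hodd'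
      (show (⟨y, hOC hy⟩ : C') ∈ O'.subgroupOf C' from hy), rfl⟩) ?_
    rintro _ ⟨y, hy, rfl⟩
    obtain ⟨g, hg⟩ := QuotientGroup.mk'_surjective (Subgroup.center L) (y : L ⧸ Subgroup.center L)
    have hg' : π g = (y : L ⧸ Subgroup.center L) := hg
    obtain ⟨u, hu, s, hs, e⟩ := D.Dg_decomp (hlift g (hg' ▸ y.2))
    have hsC : π s ∈ C' := D.S_le_Dg hs
    have huC : π u ∈ C' := hOC ⟨u, hu, rfl⟩
    have hu' : (⟨π u, huC⟩ : C') ∈ Cfsg.oddCore C' :=
      CfsgLib.le_oddCore hodd' (show (⟨π u, huC⟩ : C') ∈ O'.subgroupOf C' from ⟨u, hu, rfl⟩)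
    have hs' : (⟨π s, hsC⟩ : C') ∈ Cfsg.oddCore C' := by
      have := mul_mem (inv_mem hu') hy
      convert this using 1
      refine Subtype.ext ?_
      show π s = (π u)⁻¹ * (y : L ⧸ Subgroup.center L)
      rw [← hg', e, map_mul, inv_mul_cancel_left]
    obtain ⟨j, hj⟩ := D.Sbar.2 ⟨π s, D.mem_Sbar.mpr ⟨s, hs, rfl⟩⟩
    have hs1 : orderOf (⟨π s, hsC⟩ : C') = 1 := Nat.eq_one_of_dvd_coprimes
      (Nat.Coprime.pow_right j (Nat.coprime_two_right.mpr CfsgLib.odd_card_oddCore))
      (Subgroup.orderOf_dvd_natCard _ hs')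
      (orderOf_dvd_of_pow_eq_one (Subtype.ext (by simpa using congrArg Subtype.val hj)))
    refine ⟨u, hu, ?_⟩
    show π u = (y : L ⧸ Subgroup.center L)
    rw [← hg', e, map_mul, show π s = 1 from congrArg Subtype.val (orderOf_eq_one_iff.mp hs1), mul_one]
  -- inversion
  have hinv : ∀ s ∈ (D.S : Subgroup L), s * D.a ≠ D.a * s → ∀ u ∈ D.O, π (s * u * s⁻¹) = (π u)⁻¹ := by
    intro s hs hsa u hu
    have hsu := D.conj_O (D.S_le_Dg hs) hu
    rw [eq_inv_iff_mul_eq_one, ← map_mul, π_eq_one]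
    refine D.fixed_le_center hs hsa (mul_mem hsu hu) ?_
    have hpp := Subgroup.mem_center_iff.mp (D.sq_center hs hsa) u
    calc s * (s * u * s⁻¹ * u) = (s * s * u) * s⁻¹ * u := by group
      _ = (u * (s * s)) * s⁻¹ * u := by rw [hpp]
      _ = u * (s * u * s⁻¹) * s := by group
      _ = (s * u * s⁻¹) * u * s := by rw [D.cent_comm (D.mem_O.mp hu).1 (D.mem_O.mp hsu).1]
  have hcenA : ∀ s ∈ (D.S : Subgroup L), s * D.a = D.a * s → π s ∈ Subgroup.centralizer (O' : Set _) := by
    intro s _ hsa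
    rw [Subgroup.mem_centralizer_iff]
    rintro _ ⟨u, hu, rfl⟩
    rw [← map_mul, ← map_mul, D.cent_comm (D.mem_O.mp hu).1 hsa]
  have hcenM : O' ≠ ⊥ → ∀ s ∈ (D.S : Subgroup L), s * D.a ≠ D.a * s →
      π s ∉ Subgroup.centralizer (O' : Set (L ⧸ Subgroup.center L)) := by
    intro hne s hs hsa h
    apply hne
    rw [eq_bot_iff]
    rintro _ ⟨u, hu, rfl⟩
    rw [Subgroup.mem_bot]
    have h1 : π u * π s = π s * π u := Subgroup.mem_centralizer_iff.mp h _ ⟨u, hu, rfl⟩
    have h2 := hinv s hs hsa u hu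
    rw [map_mul, map_mul, map_inv, ← h1, mul_inv_cancel_right] at h2
    exact eq_one_of_self_inv hOodd ⟨u, hu, rfl⟩ (eq_inv_iff_mul_eq_one.mp h2)
  refine CfsgLib.BSW.psl2_of_dihedral D.Sbar n hn eS (π D.a) hā (D.mem_Sbar.mpr ⟨D.a, D.ha, rfl⟩) hTC O' hcore
    (fun hne => ?_) (fun c hc hcC y hy => ?_) (fun Y hY hY1 g hg => ?_)
  · have heq : T ⊓ Subgroup.centralizer (O' : Set _) = D.Abar := by
      refine le_antisymm (fun c hc => ?_) (fun c hc => ?_)
      · obtain ⟨hc1, hc2⟩ := Subgroup.mem_inf.mp hc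
        obtain ⟨s, hs, rfl⟩ := D.mem_Sbar.mp hc1
        by_cases hsa : s * D.a = D.a * s
        · exact D.mem_Abar.mpr ⟨s, hs, hsa, rfl⟩
        · exact absurd hc2 (hcenM hne s hs hsa)
      · obtain ⟨s, hs, hsa, rfl⟩ := D.mem_Abar.mp hc
        exact Subgroup.mem_inf.mpr ⟨D.mem_Sbar.mpr ⟨s, hs, rfl⟩, hcenA s hs hsa⟩
    rw [heq]
    exact ⟨D.Abar_cyclic, D.Abar_relIndex⟩
  · obtain ⟨s, hs, rfl⟩ := D.mem_Sbar.mp hc
    obtain ⟨u, hu, rfl⟩ := hy
    have h := hinv s hs (fun e => hcC (hcenA s hs e)) u hu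
    rwa [map_mul, map_mul, map_inv] at h
  · obtain ⟨y, hy, hy1⟩ := (Subgroup.bot_or_exists_ne_one Y).resolve_left hY1
    obtain ⟨k, hk, rfl⟩ := hY hy
    have hkZ : k ∉ Subgroup.center L := fun e => hy1 (π_eq_one.mpr e)
    obtain ⟨x, hx, hxa⟩ := D.exists_moving
    obtain ⟨z, hz, ez⟩ := π_eq ((hinv x hx hxa k hk).trans (map_inv π k).symm)
    have hxk : x * k ≠ k * x := fun e => hkZ (D.fixed_le_center hx hxa hk e)
    obtain ⟨g, rfl⟩ := QuotientGroup.mk'_surjective (Subgroup.center L) g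
    have hmem : π (g⁻¹ * k * g) ∈ Y := by
      have := (Subgroup.mem_normalizer_iff''.mp hg (π k)).mp hy
      simpa only [map_mul, map_inv] using this
    obtain ⟨u, hu, eu⟩ := hY hmem
    have hka : D.a * (g⁻¹ * k * g) = g⁻¹ * k * g * D.a :=
      π_comm_of_eq eu.symm ((D.mem_O.mp hu).1).symm
    set a' := g * D.a * g⁻¹ with ha'
    have ha'k : a' * k = k * a' := by
      calc g * D.a * g⁻¹ * k = g * (D.a * (g⁻¹ * k * g)) * g⁻¹ := by group
        _ = g * ((g⁻¹ * k * g) * D.a) * g⁻¹ := by rw [hka]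
        _ = k * (g * D.a * g⁻¹) := by group
    have ha'a := D.q.abelian_of_real hkZ hz ez hxk ha'k ((D.mem_O.mp hk).1).symm
    obtain ⟨w, hw, s, hs, e⟩ := D.Dg_decomp (D.cent_le_Dg ha'a)
    have hwa := (D.mem_O.mp hw).1
    have hsa : s * D.a = D.a * s := by
      have := ((show Commute w D.a from hwa).inv_left.mul_left (show Commute a' D.a from ha'a))
      rwa [e, inv_mul_cancel_left] at this
    have ha'2 : π a' * π a' = 1 := by
      rw [ha', map_mul, map_mul, map_inv,
        show π g * π D.a * (π g)⁻¹ * (π g * π D.a * (π g)⁻¹) = π g * (π D.a * π D.a) * (π g)⁻¹ by group, D.π_a]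
      group
    have hws : Commute (π w) (π s) := (show Commute w s from D.cent_comm hwa hsa).map π
    rw [e, map_mul, show π w * π s * (π w * π s) = π w * (π s * π w) * π s by group, ← hws.eq,
      show π w * (π w * π s) * π s = (π w * π w) * (π s * π s) by group] at ha'2
    have hw2 : π w * π w = 1 := hdisj _ (mul_mem ⟨w, hw, rfl⟩ ⟨w, hw, rfl⟩) (by
      rw [eq_inv_of_mul_eq_one_left ha'2]
      exact inv_mem (mul_mem (D.mem_Sbar.mpr ⟨s, hs, rfl⟩) (D.mem_Sbar.mpr ⟨s, hs, rfl⟩)))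
    have hw1 : π w = 1 := eq_one_of_self_inv hOodd ⟨w, hw, rfl⟩ hw2
    rw [hw2, one_mul] at ha'2
    have hga : π a' = π s := by rw [e, map_mul, hw1, one_mul]
    have hsfin : π s = π D.a := by
      rcases D.shape.2 s hs hsa (π_eq_one.mp (by rw [map_mul]; exact ha'2)) with h | h
      · exfalso
        apply D.haZ
        rw [π_eq_one.mpr h, ha', map_mul, map_mul, map_inv, conj_eq_one_iff] at hga
        exact π_eq_one.mp hga
      · have h1 : π D.a * π s = 1 := by rw [← map_mul]; exact π_eq_one.mpr h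
        exact mul_left_cancel (h1.trans D.π_a.symm)
    rw [hsfin, ha', map_mul, map_mul, map_inv] at hga
    exact Subgroup.mem_centralizer_singleton_iff.mpr (mul_inv_eq_iff_eq_mul.mp hga)

end TwoData

theorem card_of_surjective {A : Type v} {B : Type w} [Group A] [Group B] (f : A →* B)
    (hf : Function.Surjective f) : Nat.card A = Nat.card f.ker * Nat.card B := by
  rw [← f.ker.card_mul_index, Subgroup.index_ker, MonoidHom.range_eq_top.mpr hf, Subgroup.card_top]

/-- Lifting a central extension of `PSL(2,q)` with even centre to `SL(2,q)`. -/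
theorem Quasi.exists_to_SL2 (q : Quasi L) {F : Type} [Field F] [Fintype F] (hodd : Odd (Fintype.card F))
    (h5 : 5 ≤ Fintype.card F) (e : (L ⧸ Subgroup.center L) ≃* Matrix.ProjectiveSpecialLinearGroup (Fin 2) F)
    (h2Z : 2 ∣ Nat.card (Subgroup.center L)) :
    ∃ φ : L →* Matrix.SpecialLinearGroup (Fin 2) F, Function.Surjective φ ∧ Odd (Nat.card φ.ker) ∧
      φ.ker ≤ Subgroup.center L := by
  classical
  have hSperf : commutator (Matrix.SpecialLinearGroup (Fin 2) F) = ⊤ := CfsgLib.StSL.perfect_SL2 (by omega)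
  let p : Matrix.SpecialLinearGroup (Fin 2) F →* Matrix.ProjectiveSpecialLinearGroup (Fin 2) F :=
    QuotientGroup.mk' (Subgroup.center (Matrix.SpecialLinearGroup (Fin 2) F))
  have hp : Function.Surjective p := QuotientGroup.mk'_surjective _
  have hpker : ∀ m, p m = 1 → m ∈ Subgroup.center (Matrix.SpecialLinearGroup (Fin 2) F) :=
    fun m hm => (QuotientGroup.eq_one_iff m).mp hm
  let ψ : L →* Matrix.ProjectiveSpecialLinearGroup (Fin 2) F :=
    e.toMonoidHom.comp (QuotientGroup.mk' (Subgroup.center L))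
  have hψ : Function.Surjective ψ := e.surjective.comp (QuotientGroup.mk'_surjective _)
  have hψker : ∀ l, ψ l = 1 → l ∈ Subgroup.center L := fun l hl =>
    (QuotientGroup.eq_one_iff l).mp (e.injective (hl.trans (map_one e).symm))
  set P : Subgroup (L × Matrix.SpecialLinearGroup (Fin 2) F) :=
    (ψ.comp (MonoidHom.fst _ _)).eqLocus (p.comp (MonoidHom.snd _ _)) with hP
  have hfst : Function.Surjective ((MonoidHom.fst _ _).comp P.subtype) := fun l => by
    obtain ⟨m, hm⟩ := hp (ψ l)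
    exact ⟨⟨(l, m), hm.symm⟩, rfl⟩
  have hsnd : Function.Surjective ((MonoidHom.snd _ _).comp P.subtype) := fun m => by
    obtain ⟨l, hl⟩ := hψ (p m)
    exact ⟨⟨(l, m), hl⟩, rfl⟩
  let K := commutator P
  -- the projections of the derived subgroup
  let f : K →* L := ((MonoidHom.fst _ _).comp P.subtype).comp K.subtype
  let σ : K →* Matrix.SpecialLinearGroup (Fin 2) F := ((MonoidHom.snd _ _).comp P.subtype).comp K.subtype
  have hf : Function.Surjective f := by
    rw [← MonoidHom.range_eq_top, MonoidHom.range_comp, Subgroup.range_subtype]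
    show (commutator P).map _ = ⊤
    rw [commutator_def, Subgroup.map_commutator, Subgroup.map_top_of_surjective _ hfst, ← commutator_def, q.perfect]
  have hσ : Function.Surjective σ := by
    rw [← MonoidHom.range_eq_top, MonoidHom.range_comp, Subgroup.range_subtype]
    show (commutator P).map _ = ⊤
    rw [commutator_def, Subgroup.map_commutator, Subgroup.map_top_of_surjective _ hsnd, ← commutator_def, hSperf]
  have hmem : ∀ x : P, ψ (x : L × Matrix.SpecialLinearGroup (Fin 2) F).1 = p (x : L × Matrix.SpecialLinearGroup (Fin 2) F).2 := fun x => x.2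
  have hcen : ∀ x : P, p (x : L × Matrix.SpecialLinearGroup (Fin 2) F).2 = 1 → x ∈ Subgroup.center P := by
    intro x hx
    rw [Subgroup.mem_center_iff]
    intro y
    refine Subtype.ext (Prod.ext ?_ ?_)
    · exact Subgroup.mem_center_iff.mp (hψker _ ((hmem x).trans hx)) _
    · exact Subgroup.mem_center_iff.mp (hpker _ hx) _
  haveI hKperf : Group.IsPerfect K := by
    refine ⟨Subgroup.map_injective K.subtype_injective ?_⟩
    rw [K.map_subtype_commutator, ← MonoidHom.range_eq_map, Subgroup.range_subtype]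
    refine le_antisymm K.commutator_le_self ?_
    show commutator P ≤ ⁅K, K⁆
    rw [commutator_def, Subgroup.commutator_le]
    intro x _ y _
    have hsplit : ∀ x : P, ∃ k : P, k ∈ K ∧ k⁻¹ * x ∈ Subgroup.center P := by
      intro x
      obtain ⟨k, hk⟩ := hσ (x : L × Matrix.SpecialLinearGroup (Fin 2) F).2
      refine ⟨k, k.2, hcen _ ?_⟩
      show p (((k : P) : L × Matrix.SpecialLinearGroup (Fin 2) F).2⁻¹ * (x : L × Matrix.SpecialLinearGroup (Fin 2) F).2) = 1
      rw [show ((k : P) : L × Matrix.SpecialLinearGroup (Fin 2) F).2 = (x : L × Matrix.SpecialLinearGroup (Fin 2) F).2 from hk, inv_mul_cancel, map_one]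
    obtain ⟨k, hk, hc⟩ := hsplit x
    obtain ⟨l, hl, hd⟩ := hsplit y
    have hc' := Subgroup.mem_center_iff.mp hc
    have hd' := Subgroup.mem_center_iff.mp hd
    have h1 : x * y * x⁻¹ * y⁻¹ = k * y * k⁻¹ * y⁻¹ := by
      calc x * y * x⁻¹ * y⁻¹ = k * ((k⁻¹ * x) * y * (k⁻¹ * x)⁻¹) * k⁻¹ * y⁻¹ := by group
        _ = k * y * k⁻¹ * y⁻¹ := by rw [← hc' y, mul_inv_cancel_right]
    have h2 : k * y * k⁻¹ * y⁻¹ = k * l * k⁻¹ * l⁻¹ := by
      calc k * y * k⁻¹ * y⁻¹ = k * l * ((l⁻¹ * y) * k⁻¹ * (l⁻¹ * y)⁻¹) * l⁻¹ := by group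
        _ = k * l * k⁻¹ * l⁻¹ := by rw [← hd' k⁻¹, mul_inv_cancel_right]
    rw [commutatorElement_def, h1, h2, ← commutatorElement_def]
    exact Subgroup.commutator_mem_commutator hk hl
  let ρ : K →* Matrix.ProjectiveSpecialLinearGroup (Fin 2) F := p.comp σ
  have hρ : Function.Surjective ρ := hp.comp hσ
  have hρc : ρ.ker ≤ Subgroup.center K := fun x hx => by
    have h := Subgroup.mem_center_iff.mp (hcen (x : P) hx)
    exact Subgroup.mem_center_iff.mpr fun y => Subtype.ext (h y)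
  have hσc : σ.ker ≤ Subgroup.center K := fun x hx => hρc (show p (σ x) = 1 by
    rw [MonoidHom.mem_ker.mp hx, map_one])
  -- orders
  have hcSL : Nat.card (Matrix.SpecialLinearGroup (Fin 2) F) =
      2 * Nat.card (Matrix.ProjectiveSpecialLinearGroup (Fin 2) F) := by
    rw [card_PSL_two hodd, CfsgLib.SLCard.card_SL_two]
  have hcK1 := card_of_surjective ρ hρ
  have hcK2 := card_of_surjective σ hσ
  have hcK3 := card_of_surjective f hf
  have hcL : Nat.card L = Nat.card (Subgroup.center L) * Nat.card (Matrix.ProjectiveSpecialLinearGroup (Fin 2) F) := by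
    rw [← Nat.card_congr e.toEquiv]
    exact ((Subgroup.center L).card_mul_index).symm
  set c := Nat.card (Matrix.ProjectiveSpecialLinearGroup (Fin 2) F) with hc
  have hcpos : 0 < c := Nat.card_pos
  have e12 : Nat.card ρ.ker = 2 * Nat.card σ.ker := by
    refine Nat.eq_of_mul_eq_mul_right hcpos ?_
    rw [← hcK1, hcK2, hcSL]; ring
  have e13 : Nat.card ρ.ker = Nat.card f.ker * Nat.card (Subgroup.center L) := by
    refine Nat.eq_of_mul_eq_mul_right hcpos ?_
    rw [← hcK1, hcK3, hcL]; ring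
  have hσodd : Odd (Nat.card σ.ker) := by
    by_cases h9 : Fintype.card F = 9
    · refine Odd.of_dvd_nat (by decide : Odd 3) (CfsgLib.CpQuot.ker_card_dvd_of_bound (fun Γ _ _ τ hτ => ?_) σ hσ hσc)
      obtain ⟨w, hw, hw3, hle⟩ := CfsgLib.AltMult.SLNine.bound h9 hτ
      rw [le_antisymm hle (Subgroup.zpowers_le.mpr hw), Nat.card_zpowers]
      exact orderOf_dvd_of_pow_eq_one hw3
    · have hA := Cfsg.Agent.S2086.result (F := F) (q := Fintype.card F) rfl 2 le_rfl (fun _ => by omega) (by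
        simp only [Set.mem_insert_iff, Set.mem_singleton_iff, Prod.mk.injEq]
        omega)
      have h := CfsgLib.CpQuot.ker_card_dvd hA ρ hρ hρc
      rw [Nat.card_congr (Multiplicative.toAdd), Nat.card_zmod, e12] at h
      have h2 := h.trans (Nat.gcd_dvd_left 2 _)
      have : Nat.card σ.ker = 1 := by
        have := Nat.le_of_dvd two_pos h2
        have : 0 < Nat.card σ.ker := Nat.card_pos
        omega
      rw [this]; exact odd_one
  obtain ⟨z, hz⟩ := h2Z
  have hfodd : Odd (Nat.card f.ker) := by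
    have h : Nat.card σ.ker = Nat.card f.ker * z := by
      rw [hz, e12] at e13
      exact Nat.eq_of_mul_eq_mul_left two_pos (by rw [e13]; ring)
    exact Odd.of_dvd_nat hσodd ⟨z, h⟩
  have hle : f.ker ≤ σ.ker := by
    intro x hx
    rw [MonoidHom.mem_ker]
    have hρx : σ x ∈ Subgroup.center (Matrix.SpecialLinearGroup (Fin 2) F) := hpker _
      ((hmem (x : P)).symm.trans (show ψ (f x) = 1 by rw [MonoidHom.mem_ker.mp hx, map_one]))
    have h2 : orderOf (σ x) ∣ 2 := by
      refine (Subgroup.orderOf_dvd_natCard _ hρx).trans ?_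
      rw [CfsgLib.SLCard.card_SL_center (by norm_num)]
      exact Nat.gcd_dvd_left 2 _
    have h1 : orderOf (σ x) ∣ Nat.card f.ker := (orderOf_map_dvd σ x).trans (Subgroup.orderOf_dvd_natCard _ hx)
    exact orderOf_eq_one_iff.mp (Nat.eq_one_of_dvd_coprimes (Nat.coprime_two_left.mpr hfodd) h2 h1)
  let φ : L →* Matrix.SpecialLinearGroup (Fin 2) F := f.liftOfSurjective hf ⟨σ, hle⟩
  have hφ : ∀ x, φ (f x) = σ x := fun x => by
    simp only [φ]
    exact f.liftOfRightInverse_comp_apply _ _ ⟨σ, hle⟩ x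
  have hφs : Function.Surjective φ := fun m => by
    obtain ⟨x, rfl⟩ := hσ m
    exact ⟨f x, hφ x⟩
  refine ⟨φ, hφs, ?_, fun l hl => ?_⟩
  · refine Odd.of_dvd_nat hσodd ⟨Nat.card f.ker, ?_⟩
    refine Nat.eq_of_mul_eq_mul_right (show 0 < Nat.card (Matrix.SpecialLinearGroup (Fin 2) F) from Nat.card_pos) ?_
    rw [← hcK2, hcK3, card_of_surjective φ hφs]; ring
  · obtain ⟨x, rfl⟩ := hf l
    refine hψker _ ?_
    show ψ ((x : P) : L × Matrix.SpecialLinearGroup (Fin 2) F).1 = 1
    rw [hmem (x : P)]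
    show p (σ x) = 1
    rw [← hφ, MonoidHom.mem_ker.mp hl, map_one]

/-- The outcome for non-abelian Sylow 2-subgroups. -/
theorem Quasi.nonabelian_cases (q : Quasi L) (S : Sylow 2 L)
    (hS : ∃ x ∈ (S : Subgroup L), ∃ y ∈ (S : Subgroup L), x * y ≠ y * x) :
    ∃ (F : Type) (_ : Field F) (_ : Fintype F), Odd (Fintype.card F) ∧ 5 ≤ Fintype.card F ∧
      ∃ φ : L →* Matrix.SpecialLinearGroup (Fin 2) F, Function.Surjective φ ∧ Odd (Nat.card φ.ker) ∧
        φ.ker ≤ Subgroup.center L := by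
  obtain ⟨D, -⟩ := q.exists_twoData S hS
  obtain ⟨F, iF, iF', hodd, ⟨e⟩⟩ := D.psl2
  exact ⟨F, iF, iF', hodd, q.five_le hodd e,
    q.exists_to_SL2 hodd (q.five_le hodd e) e (q.two_dvd_center S hS)⟩

end CfsgLib.MinNonCA
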