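import Cfsg.Agent.Lib.MinNonCA.AbelianFinal
import Cfsg.Agent.Lib.MinNonCA.TwoSylowFinal
import Cfsg.Agent.Lib.SL2Char.Tori

/-!
Perfect central covers of `SL(2,q)` arising from groups with all proper subgroups CA are CA.
-/

set_option autoImplicit false
set_option linter.style.haveILetI false
set_option linter.unusedSectionVars false

namespace CfsgLib.MinNonCA

open Subgroup
open CfsgLib.SL2Tori (NS commute_of_commute)

universe u

variable {L : Type u} [Group L] [Finite L] {F : Type} [Field F] [Fintype F]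

local notation "M2" => Matrix (Fin 2) (Fin 2) F
local notation "SL2" => Matrix.SpecialLinearGroup (Fin 2) F

/-- A central cover of `SL(2,q)` with kernel trivial, or of order dividing 3 for `q = 9`. -/
structure Cover (L : Type u) [Group L] (F : Type) [Field F] [Fintype F] where
  φ : L →* Matrix.SpecialLinearGroup (Fin 2) F
  surj : Function.Surjective φ
  central : φ.ker ≤ Subgroup.center L
  four : 4 ≤ Fintype.card F
  small : φ.ker = ⊥ ∨ (Fintype.card F = 9 ∧ Nat.card φ.ker ∣ 3)

/-- Two homomorphisms out of a perfect group agreeing modulo the centre are equal. -/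
theorem hom_eq_of_center {A : Type*} [Group A] {M : Type*} [Group M] (hA : commutator A = ⊤)
    (f₁ f₂ : A →* M) (h : ∀ a, (f₁ a)⁻¹ * f₂ a ∈ Subgroup.center M) : f₁ = f₂ := by
  let d : A →* Subgroup.center M :=
    { toFun := fun a => ⟨(f₁ a)⁻¹ * f₂ a, h a⟩
      map_one' := Subtype.ext (by simp)
      map_mul' := fun a b => Subtype.ext (by
        show (f₁ (a * b))⁻¹ * f₂ (a * b) = (f₁ a)⁻¹ * f₂ a * ((f₁ b)⁻¹ * f₂ b)
        have hc := Subgroup.mem_center_iff.mp (h a) (f₁ b)⁻¹
        rw [map_mul, map_mul, mul_inv_rev, ← mul_assoc ((f₁ a)⁻¹ * f₂ a), ← hc]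
        group) }
  ext a
  have hle : commutator A ≤ d.ker := by
    rw [commutator_def, Subgroup.commutator_le]
    intro x _ y _
    rw [MonoidHom.mem_ker, map_commutatorElement, commutatorElement_eq_one_iff_commute]
    exact Subtype.ext (Subgroup.mem_center_iff.mp (d y).2 (d x : M))
  have h1 : a ∈ d.ker := hle (hA ▸ Subgroup.mem_top a)
  have h2 : (f₁ a)⁻¹ * f₂ a = 1 := congrArg Subtype.val (MonoidHom.mem_ker.mp h1)
  exact inv_mul_eq_one.mp h2

/-- An element commuting with a perfect group modulo the centre commutes with it. -/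
theorem commute_all_of_center {A : Type*} [Group A] (hA : commutator A = ⊤) (θ : A ≃* A)
    (h : ∀ a, a⁻¹ * θ a ∈ Subgroup.center A) (a : A) : θ a = a :=
  (DFunLike.congr_fun (hom_eq_of_center hA (MonoidHom.id A) θ.toMonoidHom h) a).symm

/-- In a matrix algebra commutant of a trace-2 element, determinants are squares. -/
theorem commutant_unip {g : SL2} (hg : NS g) (ht : g.1.trace = 2) {C : M2} (hC : Commute C g.1) :
    ∃ α β : F, C = α • (1 : M2) + β • g.1 ∧ C.det = (α + β) * (α + β) := by
  obtain ⟨α, β, h⟩ := SL2Centralizer.exists_of_commute hg hC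
  refine ⟨α, β, h, ?_⟩
  rw [h, SL2Centralizer.det_lin, ht]
  ring

theorem unip_mul {N : M2} (hN : N * N = 0) (s t : F) :
    ((1 : M2) + s • N) * (1 + t • N) = 1 + (s + t) • N := by
  simp only [add_mul, mul_add, one_mul, mul_one, smul_mul_assoc, mul_smul_comm, hN, smul_zero, add_zero, add_smul]
  abel

theorem unip_pow {N : M2} (hN : N * N = 0) (s : F) : ∀ n : ℕ, ((1 : M2) + s • N) ^ n = 1 + ((n : F) * s) • N
  | 0 => by simp
  | n + 1 => by
      rw [pow_succ, unip_pow hN s n, unip_mul hN]
      push_cast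
      ring_nf

theorem conj_pow_central {A : Type*} [Group A] {a b c : A} (hc : c ∈ Subgroup.center A) (h : a * b * a⁻¹ = c * b) :
    ∀ n : ℕ, a ^ n * b * (a ^ n)⁻¹ = c ^ n * b
  | 0 => by simp
  | n + 1 => by
      have hcn := Subgroup.mem_center_iff.mp ((Subgroup.center A).pow_mem hc n) a
      calc a ^ (n + 1) * b * (a ^ (n + 1))⁻¹ = a * (a ^ n * b * (a ^ n)⁻¹) * a⁻¹ := by
            rw [pow_succ']; group
        _ = (a * c ^ n) * b * a⁻¹ := by rw [conj_pow_central hc h n, ← mul_assoc a]
        _ = c ^ n * (a * b * a⁻¹) := by rw [hcn]; group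
        _ = c ^ (n + 1) * b := by rw [h, pow_succ]; group

namespace Cover

variable (C : Cover L F)

theorem mem_center_of_map (hL : commutator L = ⊤) {x : L} (h : C.φ x ∈ Subgroup.center SL2) :
    x ∈ Subgroup.center L := by
  rw [Subgroup.mem_center_iff]
  intro g
  have hc : ∀ a, a⁻¹ * (MulAut.conj x) a ∈ Subgroup.center L := fun a => C.central (by
    rw [MonoidHom.mem_ker, MulAut.conj_apply, map_mul, map_inv, map_mul, map_mul, map_inv,
      ← Subgroup.mem_center_iff.mp h, mul_inv_cancel_right, inv_mul_cancel])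
  have e := commute_all_of_center hL (MulAut.conj x) hc g
  rw [MulAut.conj_apply] at e
  exact (mul_inv_eq_iff_eq_mul.mp e).symm

theorem map_center {x : L} (h : x ∈ Subgroup.center L) : C.φ x ∈ Subgroup.center SL2 := by
  rw [Subgroup.mem_center_iff]
  intro g
  obtain ⟨a, rfl⟩ := C.surj g
  rw [← map_mul, ← map_mul, Subgroup.mem_center_iff.mp h a]

theorem ns (hL : commutator L = ⊤) {x : L} (h : x ∉ Subgroup.center L) : NS (C.φ x) := by
  by_contra hn
  exact h (C.mem_center_of_map hL (SL2Tori.mem_center_iff.mpr hn))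

theorem comm_mem_ker {a b : L} (h : Commute (C.φ a) (C.φ b)) : a * b * a⁻¹ * b⁻¹ ∈ C.φ.ker := by
  rw [MonoidHom.mem_ker, map_mul, map_mul, map_mul, map_inv, map_inv, h.eq]
  group

/-- A non-commuting pair with commuting images forces `q = 9` and a unipotent in the common commutant. -/
theorem exists_unip {a b : L} (h : Commute (C.φ a) (C.φ b)) (hne : a * b ≠ b * a) :
    (3 : F) = 0 ∧ Fintype.card F = 9 ∧ (∀ k ∈ C.φ.ker, k ^ 3 = 1) ∧
      ∃ g : SL2, NS g ∧ g.1.trace = 2 ∧ Commute g (C.φ a) := by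
  have hk : C.φ.ker ≠ ⊥ := by
    intro hbot
    have := C.comm_mem_ker h
    rw [hbot, Subgroup.mem_bot, mul_inv_eq_one, mul_inv_eq_iff_eq_mul] at this
    exact hne this
  obtain ⟨h9, hdvd⟩ := C.small.resolve_left hk
  have h3 : (3 : F) = 0 := by
    have h := FiniteField.cast_card_eq_zero F
    rw [h9] at h
    have h' : (3 : F) * 3 = 0 := by rw [← h]; norm_num
    exact mul_self_eq_zero.mp h'
  have hk3 : ∀ k ∈ C.φ.ker, k ^ 3 = 1 := fun k hk =>
    orderOf_dvd_iff_pow_eq_one.mp ((Subgroup.orderOf_dvd_natCard _ hk).trans hdvd)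
  refine ⟨h3, h9, hk3, ?_⟩
  set c := a * b * a⁻¹ * b⁻¹ with hc
  have hcab : a * b * a⁻¹ = c * b := by rw [hc]; group
  have hcZ := C.central (C.comm_mem_ker h)
  -- 3 divides the order of the image of `a`
  have h3n : 3 ∣ orderOf (C.φ a) := by
    by_contra hn
    apply hne
    have hpow : a ^ orderOf (C.φ a) ∈ Subgroup.center L :=
      C.central (by rw [MonoidHom.mem_ker, map_pow, pow_orderOf_eq_one])
    have h1 := conj_pow_central hcZ hcab (orderOf (C.φ a))
    rw [← Subgroup.mem_center_iff.mp hpow b, mul_inv_cancel_right] at h1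
    have h2 : c ^ orderOf (C.φ a) = 1 := by
      have := h1.symm
      rwa [mul_eq_right] at this
    have h4 : c = 1 := orderOf_eq_one_iff.mp (Nat.eq_one_of_dvd_coprimes
      ((Nat.prime_three.coprime_iff_not_dvd).mpr hn)
      (orderOf_dvd_of_pow_eq_one (hk3 c (C.comm_mem_ker h))) (orderOf_dvd_of_pow_eq_one h2))
    rw [h4, one_mul] at hcab
    exact mul_inv_eq_iff_eq_mul.mp hcab
  obtain ⟨k, hk'⟩ := h3n
  set g := C.φ a ^ k with hg
  have hg3 : g * g * g = 1 := by
    rw [hg, ← pow_add, ← pow_add, show k + k + k = 3 * k by ring, ← hk', pow_orderOf_eq_one]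
  have hg1 : g ≠ 1 := by
    intro e
    have h1 := Nat.le_of_dvd (by
      rcases Nat.eq_zero_or_pos k with rfl | hk0
      · have := orderOf_pos (C.φ a); omega
      · exact hk0) (orderOf_dvd_of_pow_eq_one e)
    have := orderOf_pos (C.φ a)
    omega
  have hns : NS g := by
    intro r hr
    apply hg1
    have hd : r * r = 1 := by
      have := g.2
      rw [hr, Matrix.det_smul, Matrix.det_one, Fintype.card_fin, mul_one, pow_two] at this
      exact this
    have hg2 : g * g = 1 := Subtype.ext (by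
      show g.1 * g.1 = 1
      rw [hr, smul_mul_smul_comm, hd, one_smul, one_mul])
    rw [hg2, one_mul] at hg3
    exact hg3
  refine ⟨g, hns, ?_, (Commute.refl _).pow_left k⟩
  have hsq := SL2Orders.sq_eq g
  set t := g.1.trace
  have hcube : (0 : F) • (1 : M2) + (0 : F) • g.1 = (-t - 1) • (1 : M2) + (t * t - 1) • g.1 := by
    have e : g.1 * g.1 * g.1 = 1 := congrArg Subtype.val hg3
    rw [hsq, sub_mul, smul_mul_assoc, hsq, one_mul, smul_sub, smul_smul] at e
    rw [sub_smul, sub_smul, neg_smul, one_smul, one_smul, zero_smul, zero_smul, add_zero]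
    linear_combination (norm := module) -e
  obtain ⟨e1, -⟩ := SL2Centralizer.lin_injective hns hcube
  linear_combination e1 - h3

include C in
/-- Such covers are CA. -/
theorem isCA (hL : commutator L = ⊤) : IsCA L := by
  refine isCA_of_comm fun x hx a b hax hbx => ?_
  by_contra hne
  have hA : Commute (C.φ a) (C.φ x) := (show Commute a x from hax).map C.φ
  have hB : Commute (C.φ b) (C.φ x) := (show Commute b x from hbx).map C.φ
  have hAB : Commute (C.φ a) (C.φ b) := commute_of_commute (C.ns hL hx) hA hB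
  obtain ⟨h3, h9, -, g, hg, htr, hga⟩ := C.exists_unip hAB hne
  have hnsA : NS (C.φ a) := C.ns hL fun e => hne (Subgroup.mem_center_iff.mp e b).symm
  set N : M2 := g.1 - 1 with hN'
  have hgg : g.1 * g.1 = (2 : F) • g.1 - 1 := by rw [SL2Orders.sq_eq g, htr]
  have hN : N * N = 0 := by
    rw [hN', sub_mul, mul_sub, mul_sub, one_mul, mul_one, mul_one, hgg, two_smul]
    abel
  have hsq : ∀ y : L, Commute (C.φ y) (C.φ a) → ∃ s : F, (C.φ (y * y)).1 = 1 + s • N := by
    intro y hy
    obtain ⟨α, β, e, hdet⟩ := commutant_unip hg htr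
      (show Commute (C.φ y).1 g.1 from congrArg Subtype.val (commute_of_commute hnsA hy hga).eq)
    rw [(C.φ y).2] at hdet
    refine ⟨2 * β * (α + β), ?_⟩
    rw [map_mul, Matrix.SpecialLinearGroup.coe_mul, e]
    simp only [add_mul, mul_add, smul_mul_assoc, mul_smul_comm, one_mul, mul_one, hgg, hN', smul_sub, smul_smul]
    have e2 : (1 : F) • (1 : M2) = ((α + β) * (α + β)) • (1 : M2) := by rw [← hdet]
    linear_combination (norm := module) -e2
  obtain ⟨sa, hsa⟩ := hsq a (Commute.refl _)
  obtain ⟨sb, hsb⟩ := hsq b hAB.symm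
  obtain ⟨sx, hsx⟩ := hsq x hA.symm
  obtain ⟨c, hc, hcab⟩ : ∃ c ∈ C.φ.ker, a * b * a⁻¹ = c * b := ⟨_, C.comm_mem_ker hAB, by group⟩
  have hk3 := (C.exists_unip hAB hne).2.2.1
  have hcZ := C.central hc
  -- the squares do not commute
  have hne' : a * a * (b * b) ≠ b * b * (a * a) := by
    intro e
    apply hne
    have h1 := conj_pow_central hcZ hcab 2
    rw [pow_two, pow_two] at h1
    have hc2 := Subgroup.mem_center_iff.mp hcZ b
    have h2 : a * a * (b * b) * (a * a)⁻¹ = c * c * c * c * (b * b) := by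
      calc a * a * (b * b) * (a * a)⁻¹ = (a * a * b * (a * a)⁻¹) * (a * a * b * (a * a)⁻¹) := by group
        _ = c * (c * b) * (c * (c * b)) := by rw [h1, mul_assoc c c b]
        _ = c * c * ((b * c) * c) * b := by group
        _ = c * c * ((c * b) * c) * b := by rw [hc2]
        _ = c * c * c * (b * c) * b := by group
        _ = c * c * c * (c * b) * b := by rw [hc2]
        _ = c * c * c * c * (b * b) := by group
    rw [e, mul_inv_cancel_right] at h2
    have hc1 : c = 1 := by
      have h4 : c * c * c * c = 1 := by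
        have := h2.symm
        rwa [mul_eq_right] at this
      have h5 := hk3 c hc
      rw [pow_succ, pow_two] at h5
      rwa [h5, one_mul] at h4
    rw [hc1, one_mul] at hcab
    exact mul_inv_eq_iff_eq_mul.mp hcab
  have hcomm_of_eq : ∀ (u v w : L), C.φ u = C.φ v → Commute w v → Commute w u := by
    intro u v w e hwv
    have hk : u * v⁻¹ ∈ Subgroup.center L := C.central (by
      rw [MonoidHom.mem_ker, map_mul, map_inv, e, mul_inv_cancel])
    have := (show Commute w (u * v⁻¹) from Subgroup.mem_center_iff.mp hk w).mul_right hwv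
    rwa [inv_mul_cancel_right] at this
  haveI : Fact (Nat.Prime 3) := ⟨Nat.prime_three⟩
  haveI : CharP F 3 := (CharP.charP_iff_prime_eq_zero Nat.prime_three).mpr (by exact_mod_cast h3)
  let ι : ZMod 3 →+* F := ZMod.castHom dvd_rfl F
  have hι : Function.Injective ι := RingHom.injective _
  have hpow : ∀ (y : L) (s : F), (C.φ (y * y)).1 = 1 + s • N →
      ∀ i : ZMod 3, (C.φ ((y * y) ^ i.val)).1 = 1 + (ι i * s) • N := by
    intro y s hy i
    rw [map_pow, Matrix.SpecialLinearGroup.coe_pow, hy, unip_pow hN,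
      ← map_natCast ι i.val, ZMod.natCast_zmod_val]
  have key : ∀ (y z : L) (s t : F), (C.φ (y * y)).1 = 1 + s • N → (C.φ (z * z)).1 = 1 + t • N →
      ∀ r : ZMod 3, t = ι r * s → Commute (y * y) (z * z) := by
    intro y z s t hy hz r e
    refine hcomm_of_eq _ ((y * y) ^ r.val) _ (Subtype.ext ?_) ((Commute.refl _).pow_right _)
    rw [hz, hpow y s hy r, e]
  let f : ZMod 3 × ZMod 3 → F := fun p => ι p.1 * sa + ι p.2 * sb
  have hf : Function.Injective f := by
    intro p p' e
    have e' : ι (p.1 - p'.1) * sa + ι (p.2 - p'.2) * sb = 0 := by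
      rw [map_sub, map_sub]; simp only [f] at e; linear_combination e
    have h2 : p.2 - p'.2 = 0 := by
      by_contra hj
      refine hne' (key a b sa sb hsa hsb (-(p.1 - p'.1) / (p.2 - p'.2)) ?_)
      rw [map_div₀, map_neg, div_mul_eq_mul_div, eq_div_iff (fun h => hj (hι (h.trans (map_zero ι).symm)))]
      linear_combination e'
    rw [h2, map_zero, zero_mul, add_zero] at e'
    have h1 : p.1 - p'.1 = 0 := by
      rcases mul_eq_zero.mp e' with h | h
      · exact hι (h.trans (map_zero ι).symm)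
      · exfalso
        refine hne' ((key b a sb sa hsb hsa 0 ?_).symm.eq)
        rw [h, map_zero, zero_mul]
    exact Prod.ext (sub_eq_zero.mp h1) (sub_eq_zero.mp h2)
  obtain ⟨⟨i, j⟩, hij⟩ := ((Fintype.bijective_iff_injective_and_card f).mpr
    ⟨hf, by rw [h9, Fintype.card_prod, ZMod.card]⟩).2 sx
  simp only [f] at hij
  have hzero : ∀ (y z : L) (sy sz : F) (i j : ZMod 3), (C.φ (y * y)).1 = 1 + sy • N →
      (C.φ (z * z)).1 = 1 + sz • N → sx = ι i * sy + ι j * sz →
      z * x = x * z → y * y * (z * z) ≠ z * z * (y * y) → i = 0 := by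
    intro y z sy sz i j hy hz e hzx hne''
    by_contra hi
    have hu : C.φ (x * x) = C.φ ((y * y) ^ i.val * (z * z) ^ j.val) := Subtype.ext (by
      rw [map_mul C.φ ((y * y) ^ i.val), Matrix.SpecialLinearGroup.coe_mul, hpow y sy hy i,
        hpow z sz hz j, unip_mul hN, hsx, e])
    have hzx' : Commute (z * z) ((y * y) ^ i.val * (z * z) ^ j.val) :=
      hcomm_of_eq _ (x * x) _ hu.symm
        (((show Commute z x from hzx).mul_left hzx).mul_right ((show Commute z x from hzx).mul_left hzx))
    have hzy : Commute (z * z) ((y * y) ^ i.val) := by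
      have := hzx'.mul_right ((Commute.refl (z * z)).pow_right j.val).inv_right
      rwa [mul_inv_cancel_right] at this
    apply hne''
    refine (hcomm_of_eq (y * y) (((y * y) ^ i.val) ^ (i⁻¹).val) (z * z) (Subtype.ext ?_) (hzy.pow_right _)).symm.eq
    rw [map_pow C.φ ((y * y) ^ i.val), Matrix.SpecialLinearGroup.coe_pow, hpow y sy hy i, hy, unip_pow hN,
      ← map_natCast ι (i⁻¹).val, ZMod.natCast_zmod_val, ← mul_assoc, ← map_mul, inv_mul_cancel₀ hi, map_one,
      one_mul]
  have hi : i = 0 := hzero a b sa sb i j hsa hsb hij.symm hbx hne'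
  have hj : j = 0 := hzero b a sb sa j i hsb hsa (by rw [← hij]; ring) hax (fun e => hne' e.symm)
  rw [hi, hj, map_zero, zero_mul, zero_mul, add_zero] at hij
  rw [← hij, zero_smul, add_zero, map_mul] at hsx
  have h2 : (2 : F) ≠ 0 := fun e => one_ne_zero (α := F) (by linear_combination h3 - e)
  apply hx
  refine C.mem_center_of_map hL ?_
  rcases SL2Orders.eq_one_or_neg_one_of_sq h2 _ (Subtype.ext hsx) with e | e <;>
    rw [e, SL2Tori.mem_center_iff] <;> intro hn
  · exact hn 1 (by simp)
  · exact hn (-1) (by simp)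

end Cover

/-- The outcome of the structure theorems. -/
theorem Quasi.cover_or_psl (q : Quasi L) :
    (∃ (F : Type) (_ : Field F) (_ : Fintype F), Nonempty (Cover L F)) ∨
    (∃ (F : Type) (_ : Field F) (_ : Fintype F), Odd (Fintype.card F) ∧ 5 ≤ Fintype.card F ∧
      ¬ 16 ∣ Fintype.card F ^ 2 - 1 ∧ Nonempty (L ≃* Matrix.ProjectiveSpecialLinearGroup (Fin 2) F) ∧
      ¬ IsCA L) := by
  classical
  haveI : Fact (Nat.Prime 2) := ⟨Nat.prime_two⟩
  obtain ⟨S⟩ : Nonempty (Sylow 2 L) := inferInstance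
  by_cases hS : ∀ x ∈ (S : Subgroup L), ∀ y ∈ (S : Subgroup L), x * y = y * x
  · rcases q.abelian_cases S hS with ⟨F, iF, iF', -, h4, ⟨e⟩⟩ | ⟨⟨F, iF, iF', ho, h5, h16, he⟩, hca⟩
    · refine Or.inl ⟨F, iF, iF', ⟨⟨e.toMonoidHom, e.surjective, ?_, h4, Or.inl ?_⟩⟩⟩ <;>
        rw [MonoidHom.ker_eq_bot e.toMonoidHom e.injective]
      exact bot_le
    · exact Or.inr ⟨F, iF, iF', ho, h5, h16, he, hca⟩
  · push Not at hS
    obtain ⟨F, iF, iF', hodd, h5, φ, hφ, hko, hkc⟩ := q.nonabelian_cases S hS
    refine Or.inl ⟨F, iF, iF', ⟨⟨φ, hφ, hkc, by omega, ?_⟩⟩⟩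
    haveI : Group.IsPerfect L := ⟨q.perfect⟩
    by_cases h9 : Fintype.card F = 9
    · refine Or.inr ⟨h9, CfsgLib.CpQuot.ker_card_dvd_of_bound (fun Γ _ _ τ hτ => ?_) φ hφ hkc⟩
      obtain ⟨w, hw, hw3, hle⟩ := CfsgLib.AltMult.SLNine.bound h9 hτ
      rw [le_antisymm hle (Subgroup.zpowers_le.mpr hw), Nat.card_zpowers]
      exact orderOf_dvd_of_pow_eq_one hw3
    · left
      have hA := Cfsg.Agent.S2086.result (F := F) (q := Fintype.card F) rfl 2 le_rfl (fun _ => by omega) (by
        simp only [Set.mem_insert_iff, Set.mem_singleton_iff, Prod.mk.injEq]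
        omega)
      set ρ := (QuotientGroup.mk' (Subgroup.center (Matrix.SpecialLinearGroup (Fin 2) F))).comp φ
      have hρs : Function.Surjective ρ := (QuotientGroup.mk'_surjective _).comp hφ
      have hρc : ρ.ker ≤ Subgroup.center L := fun x hx => by
        rw [Subgroup.mem_center_iff]
        intro g
        have hx' : φ x ∈ Subgroup.center _ := (QuotientGroup.eq_one_iff _).mp hx
        have hc : ∀ a, a⁻¹ * (MulAut.conj x) a ∈ Subgroup.center L := fun a => hkc (by
          rw [MonoidHom.mem_ker, MulAut.conj_apply, map_mul, map_inv, map_mul, map_mul, map_inv,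
            ← Subgroup.mem_center_iff.mp hx', mul_inv_cancel_right, inv_mul_cancel])
        have e := commute_all_of_center q.perfect (MulAut.conj x) hc g
        rw [MulAut.conj_apply] at e
        exact (mul_inv_eq_iff_eq_mul.mp e).symm
      have h := CfsgLib.CpQuot.ker_card_dvd hA ρ hρs hρc
      rw [Nat.card_congr (Multiplicative.toAdd), Nat.card_zmod] at h
      have hle : φ.ker ≤ ρ.ker := fun x hx => by
        rw [MonoidHom.mem_ker] at hx ⊢
        show QuotientGroup.mk' _ (φ x) = 1
        rw [hx, map_one]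
      refine Subgroup.card_eq_one.mp (Nat.eq_one_of_dvd_coprimes (Nat.coprime_two_right.mpr hko) dvd_rfl
        (((Subgroup.card_dvd_of_le hle).trans h).trans (Nat.gcd_dvd_left 2 _)))

end CfsgLib.MinNonCA
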