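import Cfsg.Agent.Lib.MinNonCA.FourData
import Cfsg.Agent.Lib.KleinCent.Chars
import Cfsg.Agent.Lib.CharTheory.Clifford
import Cfsg.Agent.Lib.CharTheory.Linear

/-!
The section of `t`: integral coefficients against the irreducible characters of `O`.
-/

set_option autoImplicit false
set_option linter.style.haveILetI false
set_option linter.unusedSectionVars false

namespace CfsgLib.MinNonCA

open Cfsg CfsgLib.CharTheory
open scoped ComplexConjugate

universe u

namespace Four

variable {X : Type u} [Group X] [Fintype X] (D : Four X)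

noncomputable instance instFintypeO : Fintype D.O := Fintype.ofFinite _
noncomputable instance instFintypeO0 : Fintype D.O0 := Fintype.ofFinite _
noncomputable instance instFintypeK : Fintype D.K := Fintype.ofFinite _
noncomputable instance instFintypeS : Fintype D.S := Fintype.ofFinite _

theorem cardO_ne : (Nat.card D.O : ℂ) ≠ 0 := Nat.cast_ne_zero.mpr Nat.card_pos.ne'

/-- Conjugation by `s`. -/
def sigma : D.O →* D.O where
  toFun u := ⟨D.s * u * D.s, D.s_norm u.2⟩
  map_one' := Subtype.ext (by simp [D.hs2])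
  map_mul' a b := Subtype.ext (D.s_conj_mul _ _)

theorem sigma_sigma (u : D.O) : D.sigma (D.sigma u) = u := Subtype.ext (by
  show D.s * (D.s * (u : X) * D.s) * D.s = u
  rw [show D.s * (D.s * (u : X) * D.s) * D.s = (D.s * D.s) * u * (D.s * D.s) by group, D.hs2, one_mul, mul_one])

/-- The conjugate of an irreducible character by `s`. -/
def sConj (φ : IrrCharacter D.O) : IrrCharacter D.O :=
  ⟨fun u => (φ : D.O → ℂ) (D.sigma u),
    isIrrCharacter_comp_surjective φ.2 D.sigma (fun u => ⟨D.sigma u, D.sigma_sigma u⟩)⟩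

theorem sConj_sConj (φ : IrrCharacter D.O) : D.sConj (D.sConj φ) = φ :=
  Subtype.ext (funext fun u => congrArg (φ : D.O → ℂ) (D.sigma_sigma u))

/-- The section of a class function. -/
def sec (χ : X → ℂ) : D.O → ℂ := fun u => χ (D.t * u)

theorem sec_class {χ : X → ℂ} (hχ : IsClassFunction X χ) : IsClassFunction D.O (D.sec χ) := fun u o => by
  show χ (D.t * ((o : X) * u * (o : X)⁻¹)) = χ (D.t * u)
  rw [show D.t * ((o : X) * u * (o : X)⁻¹) = (D.t * o) * u * (o : X)⁻¹ by group, ← D.hOt o o.2,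
    show (o : X) * D.t * u * (o : X)⁻¹ = (o : X) * (D.t * u) * (o : X)⁻¹ by group, hχ]

theorem sec_sigma {χ : X → ℂ} (hχ : IsClassFunction X χ) (u : D.O) : D.sec χ (D.sigma u) = D.sec χ u := by
  show χ (D.t * (D.s * u * D.s)) = χ (D.t * u)
  rw [show D.t * (D.s * (u : X) * D.s) = (D.t * D.s) * u * D.s by group, ← D.hcomm,
    show D.s * D.t * (u : X) * D.s = D.s * (D.t * u) * D.s by group]
  nth_rewrite 2 [← D.s_inv]
  rw [hχ]

theorem q_int {χ : X → ℂ} (hχ : IsCharacter X χ) (φ : IrrCharacter D.O) :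
    ∃ z : ℤ, classInner (D.sec χ) (φ : D.O → ℂ) = z := by
  classical
  have hφ := isCharacter_of_irr φ.2
  obtain ⟨n1, hn1⟩ := classInner_char_nat (isCharacter_restrict hχ D.O) hφ
  let Z := Subgroup.zpowers D.t
  letI : Fintype Z := Fintype.ofFinite _
  let ψ : Z × D.O →* X := MonoidHom.noncommCoprod Z.subtype D.O.subtype fun a h => by
    obtain ⟨m, hm⟩ := Subgroup.mem_zpowers_iff.mp a.2
    show Commute (a : X) (h : X)
    rw [← hm]
    exact (show Commute D.t (h : X) from (D.hOt _ h.2).symm).zpow_left m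
  obtain ⟨n2, hn2⟩ := classInner_char_nat (isCharacter_comp hχ ψ)
    (isCharacter_comp hφ (MonoidHom.snd Z D.O))
  refine ⟨2 * n2 - n1, ?_⟩
  have hord : orderOf D.t = 2 := orderOf_eq_prime (by rw [sq]; exact D.ht2) D.ht1
  have hne : (1 : Z) ≠ ⟨D.t, Subgroup.mem_zpowers _⟩ := fun e => D.ht1 (congrArg Subtype.val e).symm
  have hZ : (Finset.univ : Finset Z) = {1, ⟨D.t, Subgroup.mem_zpowers _⟩} := by
    refine (Finset.eq_univ_of_card _ ?_).symm
    rw [Finset.card_pair hne, ← Nat.card_eq_fintype_card, Nat.card_zpowers, hord]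
  have hsum : ∑ p : Z × D.O, χ (ψ p) * conj ((φ : D.O → ℂ) p.2) =
      ∑ h : D.O, χ h * conj ((φ : D.O → ℂ) h) + ∑ h : D.O, χ (D.t * h) * conj ((φ : D.O → ℂ) h) := by
    rw [Fintype.sum_prod_type, hZ, Finset.sum_pair hne]
    congr 1
    refine Finset.sum_congr rfl fun h _ => ?_
    show χ ((1 : X) * h) * _ = _
    rw [one_mul]
  simp only [classInner, MonoidHom.coe_snd] at hn1 hn2
  rw [hsum, Nat.card_prod, Nat.card_zpowers, hord] at hn2
  simp only [classInner, sec]
  push_cast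
  rw [← hn1, ← hn2]
  push_cast
  have := D.cardO_ne
  field_simp
  ring

/-- The coefficient of `χ(t ·)` against `φ`. -/
noncomputable def c (χ : IrrCharacter X) (φ : IrrCharacter D.O) : ℤ :=
  (D.q_int (isCharacter_of_irr χ.2) φ).choose

theorem c_spec (χ : IrrCharacter X) (φ : IrrCharacter D.O) :
    classInner (D.sec (χ : X → ℂ)) (φ : D.O → ℂ) = (D.c χ φ : ℂ) :=
  (D.q_int (isCharacter_of_irr χ.2) φ).choose_spec

theorem c_sConj (χ : IrrCharacter X) (φ : IrrCharacter D.O) : D.c χ (D.sConj φ) = D.c χ φ := by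
  have h : classInner (D.sec (χ : X → ℂ)) (D.sConj φ : D.O → ℂ) = classInner (D.sec (χ : X → ℂ)) (φ : D.O → ℂ) := by
    simp only [classInner]
    congr 1
    let e : D.O ≃ D.O := ⟨D.sigma, D.sigma, D.sigma_sigma, D.sigma_sigma⟩
    refine Fintype.sum_equiv e _ _ fun u => ?_
    show D.sec (χ : X → ℂ) u * conj ((φ : D.O → ℂ) (D.sigma u)) = _
    rw [← D.sec_sigma (isClassFunction_irr χ.2) u]
    rfl
  rw [D.c_spec, D.c_spec] at h
  exact_mod_cast h

theorem value (χ : IrrCharacter X) (u : D.O) :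
    (χ : X → ℂ) (D.t * u) = ∑ φ : IrrCharacter D.O, (D.c χ φ : ℂ) * (φ : D.O → ℂ) u := by
  have h := congrFun (eq_sum_irr (D.sec_class (isClassFunction_irr χ.2))) u
  simp only [Finset.sum_apply, Pi.smul_apply, smul_eq_mul, D.c_spec] at h
  exact h

theorem sum_deg (φ : IrrCharacter D.O) : ∑ χ : IrrCharacter X, (D.c χ φ : ℂ) * (χ : X → ℂ) 1 = 0 := by
  classical
  simp only [← D.c_spec, classInner, sec, mul_assoc, Finset.sum_mul, Finset.mul_sum]
  rw [Finset.sum_comm]
  refine Finset.sum_eq_zero fun u _ => ?_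
  have hne : D.t * (u : X) ≠ 1 := fun e => by
    have := D.pow_tu u.2
    rw [e, one_pow] at this
    exact D.ht1 this.symm
  have e : ∀ χ : IrrCharacter X, (Nat.card D.O : ℂ)⁻¹ * ((χ : X → ℂ) (D.t * u) * (conj ((φ : D.O → ℂ) u) * (χ : X → ℂ) 1)) =
      (Nat.card D.O : ℂ)⁻¹ * conj ((φ : D.O → ℂ) u) * ((χ : X → ℂ) (D.t * u) * (χ : X → ℂ) 1) := fun χ => by ring
  rw [Finset.sum_congr rfl fun χ _ => e χ, ← Finset.mul_sum, sum_irr_apply_mul_degree, if_neg hne, mul_zero]

theorem card_conj_eq (g g' : X) [DecidableEq X] [Decidable (IsConj g g')] :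
    ((Finset.univ.filter fun c => c * g * c⁻¹ = g').card : ℂ) =
      if IsConj g g' then (Nat.card (Subgroup.centralizer ({g} : Set X)) : ℂ) else 0 := by
  classical
  split
  · rename_i h
    obtain ⟨c₀, hc₀⟩ := isConj_iff.mp h
    rw [Nat.card_eq_fintype_card, ← Finset.card_univ]
    norm_cast
    symm
    refine Finset.card_bij (fun k _ => c₀ * (k : X)) ?_ ?_ ?_
    · intro k _
      simp only [Finset.mem_filter, Finset.mem_univ, true_and]
      have hk := Subgroup.mem_centralizer_singleton_iff.mp k.2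
      rw [← hc₀]
      calc c₀ * (k : X) * g * (c₀ * (k : X))⁻¹ = c₀ * ((k : X) * g) * (k : X)⁻¹ * c₀⁻¹ := by group
        _ = c₀ * (g * (k : X)) * (k : X)⁻¹ * c₀⁻¹ := by rw [hk]
        _ = _ := by group
    · intro a _ b _ hab
      exact Subtype.ext (mul_left_cancel hab)
    · intro c hc
      simp only [Finset.mem_filter, Finset.mem_univ, true_and] at hc
      refine ⟨⟨c₀⁻¹ * c, Subgroup.mem_centralizer_singleton_iff.mpr ?_⟩, Finset.mem_univ _, by simp⟩
      calc c₀⁻¹ * c * g = c₀⁻¹ * (c * g * c⁻¹) * c := by group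
        _ = c₀⁻¹ * (c₀ * g * c₀⁻¹) * c := by rw [hc, ← hc₀]
        _ = g * (c₀⁻¹ * c) := by group
  · rename_i h
    rw [Finset.card_eq_zero.mpr (Finset.filter_eq_empty_iff.mpr fun c _ e => h (isConj_iff.mpr ⟨c, e⟩))]
    simp

theorem univ_S [DecidableEq X] : (Finset.univ : Finset D.S) =
    {1, ⟨D.t, D.t_mem⟩, ⟨D.s, D.s_mem⟩, ⟨D.t * D.s, D.S.mul_mem D.t_mem D.s_mem⟩} := by
  ext v
  simp only [Finset.mem_univ, Finset.mem_insert, Finset.mem_singleton, true_iff, Subtype.ext_iff,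
    OneMemClass.coe_one]
  exact D.mem_S.mp v.2

theorem sum_S {M : Type*} [AddCommMonoid M] (f : X → M) :
    ∑ v : D.S, f v = f 1 + f D.t + f D.s + f (D.t * D.s) := by
  classical
  have a1 : D.t ≠ D.t * D.s := fun e => D.hs1 (left_eq_mul.mp e)
  have a2 : D.s ≠ D.t * D.s := fun e => D.ht1 (right_eq_mul.mp e)
  have n1 : (1 : X) ≠ D.t := D.ht1.symm
  have n2 : (1 : X) ≠ D.s := D.hs1.symm
  have n3 : (1 : X) ≠ D.t * D.s := D.ts_ne.symm
  rw [D.univ_S, Finset.sum_insert, Finset.sum_insert, Finset.sum_insert, Finset.sum_singleton,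
    OneMemClass.coe_one]
  · simp only [add_assoc]
  · simp only [Finset.mem_singleton, Subtype.ext_iff]; exact a2
  · simp only [Finset.mem_insert, Finset.mem_singleton, Subtype.ext_iff, not_or]; exact ⟨D.hts, a1⟩
  · simp only [Finset.mem_insert, Finset.mem_singleton, Subtype.ext_iff, OneMemClass.coe_one, not_or]
    exact ⟨n1, n2, n3⟩

/-- Orthogonality of the coefficient vectors. -/
theorem orth [DecidableEq (IrrCharacter D.O)] (φ ψ : IrrCharacter D.O) :
    ∑ χ : IrrCharacter X, D.c χ φ * D.c χ ψ =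
      2 * (if ψ = φ then 1 else 0) + 2 * (if D.sConj ψ = φ then 1 else 0) := by
  classical
  have inner : ∀ u : D.O, ∑ u' : D.O, (∑ χ : IrrCharacter X, (χ : X → ℂ) (D.t * u) * conj ((χ : X → ℂ) (D.t * u'))) *
      (ψ : D.O → ℂ) u' = (Nat.card D.O : ℂ) * (2 * (ψ : D.O → ℂ) u + 2 * (D.sConj ψ : D.O → ℂ) u) := by
    intro u
    simp only [sum_irr_mul_conj, ← card_conj_eq, ← Finset.sum_boole, Finset.sum_mul]
    rw [Finset.sum_comm, ← Finset.sum_subset (Finset.subset_univ ((Finset.univ : Finset (D.S × D.O)).image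
      fun p => (p.1 : X) * p.2))]
    · rw [Finset.sum_image fun p _ p' _ e => Prod.ext (Subtype.ext (D.unique_SO p.1.2 p'.1.2 p.2.2 p'.2.2 e).1)
        (Subtype.ext (D.unique_SO p.1.2 p'.1.2 p.2.2 p'.2.2 e).2)]
      have step : ∀ p : D.S × D.O, ∑ u' : D.O, (if (p.1 : X) * p.2 * (D.t * u) * ((p.1 : X) * p.2)⁻¹ = D.t * u'
            then (1 : ℂ) else 0) * (ψ : D.O → ℂ) u' =
          (ψ : D.O → ℂ) ⟨(p.1 : X) * ((p.2 : X) * u * (p.2 : X)⁻¹) * (p.1 : X)⁻¹,
            D.S_norm p.1.2 (D.O.mul_mem (D.O.mul_mem p.2.2 u.2) (D.O.inv_mem p.2.2))⟩ := by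
        intro p
        have hc : (p.1 : X) * p.2 * (D.t * u) * ((p.1 : X) * p.2)⁻¹ =
            D.t * ((p.1 : X) * ((p.2 : X) * u * (p.2 : X)⁻¹) * (p.1 : X)⁻¹) := by
          calc (p.1 : X) * p.2 * (D.t * u) * ((p.1 : X) * p.2)⁻¹
              = (p.1 : X) * ((p.2 : X) * D.t) * u * (p.2 : X)⁻¹ * (p.1 : X)⁻¹ := by group
            _ = (p.1 : X) * (D.t * p.2) * u * (p.2 : X)⁻¹ * (p.1 : X)⁻¹ := by rw [D.hOt _ p.2.2]
            _ = ((p.1 : X) * D.t) * ((p.2 : X) * u * (p.2 : X)⁻¹) * (p.1 : X)⁻¹ := by group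
            _ = (D.t * p.1) * ((p.2 : X) * u * (p.2 : X)⁻¹) * (p.1 : X)⁻¹ := by rw [D.S_comm_t p.1.2]
            _ = _ := by group
        rw [hc]
        rw [Finset.sum_eq_single ⟨_, D.S_norm p.1.2 (D.O.mul_mem (D.O.mul_mem p.2.2 u.2) (D.O.inv_mem p.2.2))⟩]
        · rw [if_pos rfl, one_mul]
        · intro u' _ hne
          rw [if_neg fun e => hne (Subtype.ext (mul_left_cancel e).symm), zero_mul]
        · simp
      rw [Finset.sum_congr rfl fun p _ => step p, Fintype.sum_prod_type, Finset.sum_comm]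
      have hper : ∀ o : D.O, ∑ v : D.S, (ψ : D.O → ℂ) ⟨(v : X) * ((o : X) * u * (o : X)⁻¹) * (v : X)⁻¹,
          D.S_norm v.2 (D.O.mul_mem (D.O.mul_mem o.2 u.2) (D.O.inv_mem o.2))⟩ =
          2 * (ψ : D.O → ℂ) u + 2 * (D.sConj ψ : D.O → ℂ) u := by
        intro o
        set m : D.O := ⟨(o : X) * u * (o : X)⁻¹, D.O.mul_mem (D.O.mul_mem o.2 u.2) (D.O.inv_mem o.2)⟩ with hm
        have hmo : m = o * u * o⁻¹ := Subtype.ext rfl
        let f : X → ℂ := fun v => if h : v * (m : X) * v⁻¹ ∈ D.O then (ψ : D.O → ℂ) ⟨_, h⟩ else 0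
        have hf : ∀ v : D.S, (ψ : D.O → ℂ) ⟨(v : X) * ((o : X) * u * (o : X)⁻¹) * (v : X)⁻¹,
            D.S_norm v.2 (D.O.mul_mem (D.O.mul_mem o.2 u.2) (D.O.inv_mem o.2))⟩ = f v := fun v => by
          simp only [f]; rw [dif_pos (D.S_norm v.2 m.2)]
        rw [Finset.sum_congr rfl fun v _ => hf v, D.sum_S f]
        have ht : ∀ w ∈ D.O, D.t * w * D.t⁻¹ = w := fun w hw => by rw [← D.hOt w hw, mul_inv_cancel_right]
        have e1 : f 1 = (ψ : D.O → ℂ) u := by
          simp only [f]; rw [dif_pos (by simp)]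
          rw [show (⟨(1 : X) * (m : X) * 1⁻¹, by simp⟩ : D.O) = m from Subtype.ext (by simp), hmo,
            isClassFunction_irr ψ.2]
        have e2 : f D.t = (ψ : D.O → ℂ) u := by
          simp only [f]; rw [dif_pos (D.S_norm D.t_mem m.2)]
          rw [show (⟨D.t * (m : X) * D.t⁻¹, D.S_norm D.t_mem m.2⟩ : D.O) = m from Subtype.ext (ht _ m.2), hmo,
            isClassFunction_irr ψ.2]
        have e3 : f D.s = (D.sConj ψ : D.O → ℂ) u := by
          simp only [f]; rw [dif_pos (D.S_norm D.s_mem m.2)]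
          rw [show (⟨D.s * (m : X) * D.s⁻¹, D.S_norm D.s_mem m.2⟩ : D.O) = D.sigma m from
            Subtype.ext (by show D.s * (m : X) * D.s⁻¹ = D.s * (m : X) * D.s; rw [D.s_inv]), hmo]
          exact isClassFunction_irr (D.sConj ψ).2 u o
        have e4 : f (D.t * D.s) = (D.sConj ψ : D.O → ℂ) u := by
          simp only [f]; rw [dif_pos (D.S_norm (D.S.mul_mem D.t_mem D.s_mem) m.2)]
          rw [show (⟨D.t * D.s * (m : X) * (D.t * D.s)⁻¹, D.S_norm (D.S.mul_mem D.t_mem D.s_mem) m.2⟩ : D.O) =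
            D.sigma m from Subtype.ext (by
              show D.t * D.s * (m : X) * (D.t * D.s)⁻¹ = D.s * (m : X) * D.s
              rw [show D.t * D.s * (m : X) * (D.t * D.s)⁻¹ = D.t * (D.s * m * D.s⁻¹) * D.t⁻¹ by group, D.s_inv,
                ht _ (D.s_norm m.2)]), hmo]
          exact isClassFunction_irr (D.sConj ψ).2 u o
        rw [e1, e2, e3, e4]; ring
      rw [Finset.sum_congr rfl fun o _ => hper o, Finset.sum_const, nsmul_eq_mul, Finset.card_univ,
        ← Nat.card_eq_fintype_card]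
    · intro c _ hc
      refine Finset.sum_eq_zero fun u' _ => ?_
      rw [if_neg, zero_mul]
      intro e
      apply hc
      obtain ⟨v, hv, o, ho, rfl⟩ := D.hC c (D.conj_section u.2 u'.2 e)
      exact Finset.mem_image.mpr ⟨(⟨v, D.mem_S.mpr hv⟩, ⟨o, ho⟩), Finset.mem_univ _, rfl⟩
  have hcast : ((∑ χ : IrrCharacter X, D.c χ φ * D.c χ ψ : ℤ) : ℂ) =
      2 * classInner (ψ : D.O → ℂ) (φ : D.O → ℂ) + 2 * classInner (D.sConj ψ : D.O → ℂ) (φ : D.O → ℂ) := by
    have hO := D.cardO_ne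
    push_cast
    calc ∑ χ : IrrCharacter X, (D.c χ φ : ℂ) * (D.c χ ψ : ℂ)
        = ∑ χ : IrrCharacter X, classInner (D.sec (χ : X → ℂ)) (φ : D.O → ℂ) *
            conj (classInner (D.sec (χ : X → ℂ)) (ψ : D.O → ℂ)) := by
          refine Finset.sum_congr rfl fun χ _ => ?_
          rw [D.c_spec, D.c_spec, map_intCast]
      _ = (Nat.card D.O : ℂ)⁻¹ * (Nat.card D.O : ℂ)⁻¹ * ∑ u : D.O, conj ((φ : D.O → ℂ) u) *
            ∑ u' : D.O, (∑ χ : IrrCharacter X, (χ : X → ℂ) (D.t * u) * conj ((χ : X → ℂ) (D.t * u'))) *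
              (ψ : D.O → ℂ) u' := by
          simp only [classInner, sec, map_mul, map_inv₀, map_natCast, map_sum, Complex.conj_conj,
            Finset.mul_sum, Finset.sum_mul]
          rw [Finset.sum_comm]
          refine (Finset.sum_congr rfl fun u' _ => Finset.sum_comm).trans ?_
          rw [Finset.sum_comm]
          exact Finset.sum_congr rfl fun u _ => Finset.sum_congr rfl fun u' _ =>
            Finset.sum_congr rfl fun χ _ => by ring
      _ = _ := by
          simp only [inner]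
          rw [classInner, classInner, Finset.mul_sum, Finset.mul_sum, Finset.mul_sum, Finset.mul_sum,
            Finset.mul_sum, ← Finset.sum_add_distrib]
          refine Finset.sum_congr rfl fun u _ => ?_
          field_simp
  rw [classInner_irr ψ.2 φ.2, classInner_irr (D.sConj ψ).2 φ.2] at hcast
  simp only [← Subtype.ext_iff] at hcast
  split_ifs at hcast ⊢ <;> exact_mod_cast hcast

end Four

end CfsgLib.MinNonCA
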