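import Mathlib

/-!
A group with a four-group Sylow 2-subgroup whose involution centralisers are `S (K O₀)`:
elementary consequences of the local data.
-/

set_option autoImplicit false
set_option linter.style.haveILetI false

namespace CfsgLib.MinNonCA

universe u

/-- The local data. -/
structure Four (X : Type u) [Group X] where
  t : X
  s : X
  y : X
  O : Subgroup X
  O0 : Subgroup X
  K : Subgroup X
  ht2 : t * t = 1
  hs2 : s * s = 1
  ht1 : t ≠ 1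
  hs1 : s ≠ 1
  hts : t ≠ s
  hcomm : s * t = t * s
  hodd : Odd (Nat.card O)
  hOt : ∀ u ∈ O, u * t = t * u
  hC : ∀ c : X, c * t = t * c → ∃ v : X, (v = 1 ∨ v = t ∨ v = s ∨ v = t * s) ∧ ∃ u ∈ O, c = v * u
  h8 : ¬ 8 ∣ Nat.card X
  hO0 : ∀ u : X, u ∈ O0 ↔ u ∈ O ∧ u * s = s * u
  hab : ∀ a ∈ O0, ∀ b ∈ O0, a * b = b * a
  hK : K ≤ O
  hKcomm : ∀ a ∈ K, ∀ b ∈ K, a * b = b * a
  hKinv : ∀ k ∈ K, s * k * s = k⁻¹
  hKnorm : ∀ u ∈ O, ∀ k ∈ K, u * k * u⁻¹ ∈ K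
  hOK : ∀ u ∈ O, ∃ k ∈ K, ∃ w ∈ O0, u = k * w
  hyt : y * t * y⁻¹ = s
  hys : y * s * y⁻¹ = t * s
  hconj : ∀ a : X, a * a = 1 → a ≠ 1 → IsConj t a
  hfpf : ∀ x ∈ O0, (∀ k ∈ K, x * k * x⁻¹ = k) ∨ (∀ k ∈ K, x * k * x⁻¹ = k → k = 1)
  hmove : ∃ x ∈ O0, ∃ k ∈ K, x * k * x⁻¹ ≠ k

namespace Four

variable {X : Type u} [Group X] (D : Four X)

theorem O0_le : D.O0 ≤ D.O := fun _ hu => ((D.hO0 _).mp hu).1

theorem O0_s {u : X} (hu : u ∈ D.O0) : u * D.s = D.s * u := ((D.hO0 u).mp hu).2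

theorem O0_t {u : X} (hu : u ∈ D.O0) : u * D.t = D.t * u := D.hOt u (D.O0_le hu)

theorem t_inv : D.t⁻¹ = D.t := inv_eq_of_mul_eq_one_right D.ht2

theorem s_inv : D.s⁻¹ = D.s := inv_eq_of_mul_eq_one_right D.hs2

theorem ts_sq : D.t * D.s * (D.t * D.s) = 1 :=
  calc D.t * D.s * (D.t * D.s) = D.t * (D.s * D.t) * D.s := by group
    _ = D.t * (D.t * D.s) * D.s := by rw [D.hcomm]
    _ = (D.t * D.t) * (D.s * D.s) := by group
    _ = 1 := by rw [D.ht2, D.hs2, mul_one]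

theorem ts_ne : D.t * D.s ≠ 1 := fun e => D.hts (by
  rw [mul_eq_one_iff_eq_inv, D.s_inv] at e; exact e)

/-- The four group. -/
def S : Subgroup X where
  carrier := {v | v = 1 ∨ v = D.t ∨ v = D.s ∨ v = D.t * D.s}
  one_mem' := Or.inl rfl
  mul_mem' := by
    have h1 : D.s * D.t = D.t * D.s := D.hcomm
    have h2 : D.t * (D.t * D.s) = D.s := by rw [← mul_assoc, D.ht2, one_mul]
    have h3 : D.s * (D.t * D.s) = D.t := by rw [← mul_assoc, h1, mul_assoc, D.hs2, mul_one]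
    have h4 : D.t * D.s * D.t = D.s := by rw [mul_assoc, h1, h2]
    have h5 : D.t * D.s * D.s = D.t := by rw [mul_assoc, D.hs2, mul_one]
    rintro a b (rfl | rfl | rfl | rfl) (rfl | rfl | rfl | rfl) <;>
      simp only [one_mul, mul_one, Set.mem_ofPred_eq, D.ht2, D.hs2, h1, h2, h3, h4, h5, D.ts_sq, true_or, or_true]
  inv_mem' := by
    rintro a (rfl | rfl | rfl | rfl)
    · exact Or.inl inv_one
    · exact Or.inr (Or.inl D.t_inv)
    · exact Or.inr (Or.inr (Or.inl D.s_inv))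
    · exact Or.inr (Or.inr (Or.inr (inv_eq_of_mul_eq_one_right D.ts_sq)))

theorem mem_S {v : X} : v ∈ D.S ↔ v = 1 ∨ v = D.t ∨ v = D.s ∨ v = D.t * D.s := Iff.rfl

theorem t_mem : D.t ∈ D.S := D.mem_S.mpr (Or.inr (Or.inl rfl))

theorem s_mem : D.s ∈ D.S := D.mem_S.mpr (Or.inr (Or.inr (Or.inl rfl)))

theorem S_sq {v : X} (hv : v ∈ D.S) : v * v = 1 := by
  rcases D.mem_S.mp hv with rfl | rfl | rfl | rfl
  exacts [one_mul 1, D.ht2, D.hs2, D.ts_sq]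

theorem S_comm_t {v : X} (hv : v ∈ D.S) : v * D.t = D.t * v := by
  rcases D.mem_S.mp hv with rfl | rfl | rfl | rfl
  · rw [one_mul, mul_one]
  · rfl
  · exact D.hcomm
  · rw [mul_assoc, D.hcomm]

theorem S_comm_O0 {v w : X} (hv : v ∈ D.S) (hw : w ∈ D.O0) : v * w = w * v := by
  have ht : Commute w D.t := D.O0_t hw
  have hs : Commute w D.s := D.O0_s hw
  rcases D.mem_S.mp hv with rfl | rfl | rfl | rfl
  exacts [(Commute.one_left w).eq, ht.eq.symm, hs.eq.symm, (ht.mul_right hs).eq.symm]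

theorem card_S : Nat.card D.S = 4 := by
  classical
  have he : (D.S : Set X) = ↑({1, D.t, D.s, D.t * D.s} : Finset X) := by
    ext v
    simp only [SetLike.mem_coe, D.mem_S, Finset.coe_insert, Finset.coe_singleton, Set.mem_insert_iff,
      Set.mem_singleton_iff]
  rw [← SetLike.coe_sort_coe, he, Nat.card_coe_set_eq, Set.ncard_coe_finset]
  have a1 : D.t ≠ D.t * D.s := fun e => D.hs1 (left_eq_mul.mp e)
  have a2 : D.s ≠ D.t * D.s := fun e => D.ht1 (right_eq_mul.mp e)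
  rw [Finset.card_insert_of_notMem (by simp [D.ht1.symm, D.hs1.symm, D.ts_ne.symm]),
    Finset.card_insert_of_notMem (by simp [D.hts, a1]), Finset.card_pair a2]

theorem pow_O [Finite X] {u : X} (hu : u ∈ D.O) : u ^ Nat.card D.O = 1 := by
  have := congrArg Subtype.val (pow_card_eq_one' (G := D.O) (x := ⟨u, hu⟩))
  rwa [Subgroup.coe_pow, OneMemClass.coe_one] at this

theorem pow_S {v : X} (hv : v ∈ D.S) : v ^ Nat.card D.O = v := by
  obtain ⟨m, hm⟩ := D.hodd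
  rw [hm, pow_succ, pow_mul, sq, D.S_sq hv, one_pow, one_mul]

theorem eq_one_of_sq [Finite X] {u : X} (hu : u ∈ D.O) (h : u * u = 1) : u = 1 := by
  obtain ⟨m, hm⟩ := D.hodd
  have := D.pow_O hu
  rwa [hm, pow_succ, pow_mul, sq, h, one_pow, one_mul] at this

theorem disjoint_SO [Finite X] {v : X} (hv : v ∈ D.S) (hu : v ∈ D.O) : v = 1 :=
  D.eq_one_of_sq hu (D.S_sq hv)

theorem unique_SO [Finite X] {v v' u u' : X} (hv : v ∈ D.S) (hv' : v' ∈ D.S) (hu : u ∈ D.O) (hu' : u' ∈ D.O)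
    (e : v * u = v' * u') : v = v' ∧ u = u' := by
  have h : v'⁻¹ * v = u' * u⁻¹ := by
    rw [eq_mul_inv_iff_mul_eq, mul_assoc, e, inv_mul_cancel_left]
  have h1 := D.disjoint_SO (D.S.mul_mem (D.S.inv_mem hv') hv) (h ▸ D.O.mul_mem hu' (D.O.inv_mem hu))
  rw [inv_mul_eq_one] at h1
  subst h1
  exact ⟨rfl, mul_left_cancel e⟩

theorem pow_tu [Finite X] {u : X} (hu : u ∈ D.O) : (D.t * u) ^ Nat.card D.O = D.t := by
  rw [(show Commute D.t u from (D.hOt u hu).symm).mul_pow, D.pow_O hu, D.pow_S D.t_mem, mul_one]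

/-- An element conjugating an element of the section to another centralises `t`. -/
theorem conj_section [Finite X] {g u u' : X} (hu : u ∈ D.O) (hu' : u' ∈ D.O)
    (e : g * (D.t * u) * g⁻¹ = D.t * u') : g * D.t = D.t * g := by
  have h := congrArg (fun x => x ^ Nat.card D.O) e
  simp only [conj_pow, D.pow_tu hu, D.pow_tu hu'] at h
  exact mul_inv_eq_iff_eq_mul.mp h

theorem K_O0 [Finite X] {k : X} (hk : k ∈ D.K) (hw : k ∈ D.O0) : k = 1 := by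
  apply D.eq_one_of_sq (D.hK hk)
  have h := D.hKinv k hk
  rw [← D.O0_s hw, mul_assoc, D.hs2, mul_one] at h
  exact (eq_inv_iff_mul_eq_one.mp h)

theorem unique_KO [Finite X] {k k' w w' : X} (hk : k ∈ D.K) (hk' : k' ∈ D.K) (hw : w ∈ D.O0) (hw' : w' ∈ D.O0)
    (e : k * w = k' * w') : k = k' ∧ w = w' := by
  have h : k'⁻¹ * k = w' * w⁻¹ := by
    rw [eq_mul_inv_iff_mul_eq, mul_assoc, e, inv_mul_cancel_left]
  have h1 := D.K_O0 (D.K.mul_mem (D.K.inv_mem hk') hk) (h ▸ D.O0.mul_mem hw' (D.O0.inv_mem hw))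
  rw [inv_mul_eq_one] at h1
  subst h1
  exact ⟨rfl, mul_left_cancel e⟩

theorem s_conj_mul (a b : X) : D.s * (a * b) * D.s = (D.s * a * D.s) * (D.s * b * D.s) :=
  calc D.s * (a * b) * D.s = D.s * a * 1 * b * D.s := by group
    _ = D.s * a * (D.s * D.s) * b * D.s := by rw [D.hs2]
    _ = _ := by group

theorem s_fix {w : X} (hw : w ∈ D.O0) : D.s * w * D.s = w := by
  rw [← D.O0_s hw, mul_assoc, D.hs2, mul_one]

theorem s_norm {u : X} (hu : u ∈ D.O) : D.s * u * D.s ∈ D.O := by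
  obtain ⟨k, hk, w, hw, rfl⟩ := D.hOK u hu
  rw [D.s_conj_mul, D.hKinv k hk, D.s_fix hw]
  exact D.O.mul_mem (D.O.inv_mem (D.hK hk)) (D.O0_le hw)

theorem S_norm {v u : X} (hv : v ∈ D.S) (hu : u ∈ D.O) : v * u * v⁻¹ ∈ D.O := by
  have ht : D.t * u * D.t⁻¹ = u := by rw [← D.hOt u hu, mul_inv_cancel_right]
  rcases D.mem_S.mp hv with rfl | rfl | rfl | rfl
  · simpa using hu
  · rwa [ht]
  · rw [D.s_inv]; exact D.s_norm hu
  · have h1 : D.s * u * D.s⁻¹ ∈ D.O := by rw [D.s_inv]; exact D.s_norm hu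
    have e : D.t * D.s * u * (D.t * D.s)⁻¹ = D.t * (D.s * u * D.s⁻¹) * D.t⁻¹ := by group
    rw [e, ← D.hOt _ h1, mul_inv_cancel_right]
    exact h1

/-- The inverted elements of `O` lie in `K`. -/
theorem inverted [Finite X] {u : X} (hu : u ∈ D.O) (h : D.s * u * D.s = u⁻¹) : u ∈ D.K := by
  obtain ⟨k, hk, w, hw, rfl⟩ := D.hOK u hu
  rw [D.s_conj_mul, D.hKinv k hk, D.s_fix hw, mul_inv_rev] at h
  -- `k⁻¹ w = w⁻¹ k⁻¹`, so `w k⁻¹ w⁻¹ = w⁻¹ w⁻¹ ... `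
  have h1 : w * w = (w * k * w⁻¹) * k⁻¹ := by
    have h2 : w = k * (w⁻¹ * k⁻¹) := by rw [← h, mul_inv_cancel_left]
    calc w * w = w * (k * (w⁻¹ * k⁻¹)) := by rw [← h2]
      _ = _ := by group
  have h3 := D.K_O0 (h1.symm ▸ D.K.mul_mem (D.hKnorm w (D.O0_le hw) k hk) (D.K.inv_mem hk))
    (D.O0.mul_mem hw hw)
  rw [D.eq_one_of_sq (D.O0_le hw) h3, mul_one]
  exact hk

/-- The involutions centralising `t`. -/
theorem invol_cent [Finite X] {a : X} (ha : a * a = 1) (hc : a * D.t = D.t * a) :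
    a = 1 ∨ a = D.t ∨ ∃ k ∈ D.K, a = D.s * k ∨ a = D.t * D.s * k := by
  obtain ⟨v, hv, u, hu, rfl⟩ := D.hC a hc
  have hvS : v ∈ D.S := D.mem_S.mpr hv
  have hvi : v⁻¹ = v := inv_eq_of_mul_eq_one_right (D.S_sq hvS)
  have h1 : v * u * v⁻¹ = u⁻¹ := eq_inv_of_mul_eq_one_left (by rw [hvi, mul_assoc]; exact ha)
  rcases hv with rfl | rfl | rfl | rfl
  · left
    rw [one_mul] at ha ⊢
    exact D.eq_one_of_sq hu ha
  · right; left
    rw [← D.hOt u hu, mul_inv_cancel_right] at h1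
    rw [D.eq_one_of_sq hu (eq_inv_iff_mul_eq_one.mp h1), mul_one]
  · rw [D.s_inv] at h1
    exact Or.inr (Or.inr ⟨u, D.inverted hu h1, Or.inl rfl⟩)
  · refine Or.inr (Or.inr ⟨u, D.inverted hu ?_, Or.inr rfl⟩)
    have hm : D.s * u * D.s⁻¹ ∈ D.O := by rw [D.s_inv]; exact D.s_norm hu
    have e : D.t * D.s * u * (D.t * D.s)⁻¹ = D.t * (D.s * u * D.s⁻¹) * D.t⁻¹ := by group
    rw [e, ← D.hOt _ hm, mul_inv_cancel_right, D.s_inv] at h1
    exact h1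

theorem mem_O0_of_odd [Finite X] {a : X} (ha : a ^ Nat.card D.O = 1 ∨ Odd (orderOf a)) (hta : a * D.t = D.t * a)
    (hsa : a * D.s = D.s * a) : a ∈ D.O0 := by
  obtain ⟨v, hv, u, hu, rfl⟩ := D.hC a hta
  have hvS : v ∈ D.S := D.mem_S.mpr hv
  have hus : u * D.s = D.s * u := by
    have hv' : v * D.s = D.s * v := by
      rcases hv with rfl | rfl | rfl | rfl
      · rw [one_mul, mul_one]
      · exact D.hcomm.symm
      · rfl
      · rw [← mul_assoc, D.hcomm]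
    apply mul_left_cancel (a := v)
    rw [← mul_assoc, hsa, ← mul_assoc v, hv', mul_assoc]
  have hu0 : u ∈ D.O0 := (D.hO0 u).mpr ⟨hu, hus⟩
  have hvu : Commute v u := D.S_comm_O0 hvS hu0
  have hv1 : v = 1 := by
    rcases ha with ha | ha
    · rwa [hvu.mul_pow, D.pow_O hu, D.pow_S hvS, mul_one] at ha
    · obtain ⟨m, hm⟩ := ha
      have h := pow_orderOf_eq_one (v * u)
      rw [hm, hvu.mul_pow, pow_succ v, pow_mul v, sq, D.S_sq hvS, one_pow, one_mul] at h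
      exact (D.unique_SO hvS D.S.one_mem (D.O.pow_mem hu _) D.O.one_mem (h.trans (one_mul 1).symm)).1
  rw [hv1, one_mul]
  exact hu0

theorem yts : D.y * (D.t * D.s) * D.y⁻¹ = D.t := by
  have e : D.y * (D.t * D.s) * D.y⁻¹ = (D.y * D.t * D.y⁻¹) * (D.y * D.s * D.y⁻¹) := by group
  rw [e, D.hyt, D.hys, ← mul_assoc, D.hcomm, mul_assoc, D.hs2, mul_one]

theorem y_O0 [Finite X] {w : X} (hw : w ∈ D.O0) : D.y * w * D.y⁻¹ ∈ D.O0 := by
  have key : ∀ v ∈ D.S, (D.y * w * D.y⁻¹) * (D.y * v * D.y⁻¹) = (D.y * v * D.y⁻¹) * (D.y * w * D.y⁻¹) := by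
    intro v hv
    calc (D.y * w * D.y⁻¹) * (D.y * v * D.y⁻¹) = D.y * (w * v) * D.y⁻¹ := by group
      _ = D.y * (v * w) * D.y⁻¹ := by rw [D.S_comm_O0 hv hw]
      _ = _ := by group
  refine D.mem_O0_of_odd (Or.inl ?_) ?_ ?_
  · rw [conj_pow, D.pow_O (D.O0_le hw)]; group
  · have := key (D.t * D.s) (D.S.mul_mem D.t_mem D.s_mem)
    rwa [D.yts] at this
  · have := key D.t D.t_mem
    rwa [D.hyt] at this

theorem y_pow_O0 [Finite X] {w : X} (hw : w ∈ D.O0) (j : ℕ) : D.y ^ j * w * (D.y ^ j)⁻¹ ∈ D.O0 := by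
  induction j with
  | zero => simpa using hw
  | succ j ih =>
    rw [show D.y ^ (j + 1) * w * (D.y ^ (j + 1))⁻¹ = D.y * (D.y ^ j * w * (D.y ^ j)⁻¹) * D.y⁻¹ by
      rw [pow_succ']; group]
    exact D.y_O0 ih

/-- An element normalising the four group and fixing `t` acts trivially on `O₀`. -/
theorem norm_fix [Finite X] {g : X} (ht : g * D.t * g⁻¹ = D.t) (hs : g * D.s * g⁻¹ ∈ D.S) {w : X}
    (hw : w ∈ D.O0) : g * w * g⁻¹ = w := by
  obtain ⟨v, hv, u, hu, rfl⟩ := D.hC g (mul_inv_eq_iff_eq_mul.mp ht)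
  have hvS : v ∈ D.S := D.mem_S.mpr hv
  have h2 : u * D.s * u⁻¹ * D.s⁻¹ ∈ D.S := by
    have e : u * D.s * u⁻¹ * D.s⁻¹ = v⁻¹ * (v * u * D.s * (v * u)⁻¹) * v * D.s⁻¹ := by group
    rw [e]
    exact D.S.mul_mem (D.S.mul_mem (D.S.mul_mem (D.S.inv_mem hvS) hs) hvS) (D.S.inv_mem D.s_mem)
  have h3 : u * D.s * u⁻¹ * D.s⁻¹ ∈ D.O := by
    have e : u * D.s * u⁻¹ * D.s⁻¹ = u * (D.s * u⁻¹ * D.s⁻¹) := by group
    rw [e]
    exact D.O.mul_mem hu (D.S_norm D.s_mem (D.O.inv_mem hu))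
  have h4 := D.disjoint_SO h2 h3
  have hu0 : u ∈ D.O0 := (D.hO0 u).mpr ⟨hu, by
    rw [mul_inv_eq_one] at h4; exact mul_inv_eq_iff_eq_mul.mp h4⟩
  calc v * u * w * (v * u)⁻¹ = v * (u * w) * u⁻¹ * v⁻¹ := by group
    _ = v * (w * u) * u⁻¹ * v⁻¹ := by rw [D.hab u hu0 w hw]
    _ = v * w * v⁻¹ := by group
    _ = w := by rw [D.S_comm_O0 hvS hw, mul_inv_cancel_right]

theorem y3 [Finite X] {w : X} (hw : w ∈ D.O0) : D.y ^ 3 * w * (D.y ^ 3)⁻¹ = w := by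
  have e : ∀ a : X, D.y ^ 3 * a * (D.y ^ 3)⁻¹ = D.y * (D.y * (D.y * a * D.y⁻¹) * D.y⁻¹) * D.y⁻¹ := fun a => by
    rw [pow_succ, pow_two]; group
  refine D.norm_fix ?_ ?_ hw
  · rw [e, D.hyt, D.hys, D.yts]
  · rw [e, D.hys, D.yts, D.hyt]; exact D.s_mem

/-- Fusion in `O₀` is induced by the powers of `y`. -/
theorem fusion [Finite X] {z a : X} (hz : z ∈ D.O0) (ha : a ∈ D.O0) (hc : IsConj z a) :
    ∃ j < 3, a = D.y ^ j * z * (D.y ^ j)⁻¹ := by
  classical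
  haveI : Fact (Nat.Prime 2) := ⟨Nat.prime_two⟩
  obtain ⟨g, hg⟩ := isConj_iff.mp hc
  set H := Subgroup.centralizer ({a} : Set X) with hH
  have hSH : D.S ≤ H := fun v hv => Subgroup.mem_centralizer_singleton_iff.mpr (D.S_comm_O0 hv ha)
  set S' := D.S.map (MulAut.conj g).toMonoidHom with hS'
  have hS'H : S' ≤ H := by
    rintro _ ⟨v, hv, rfl⟩
    refine Subgroup.mem_centralizer_singleton_iff.mpr ?_
    change g * v * g⁻¹ * a = a * (g * v * g⁻¹)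
    rw [← hg]
    calc g * v * g⁻¹ * (g * z * g⁻¹) = g * (v * z) * g⁻¹ := by group
      _ = g * (z * v) * g⁻¹ := by rw [D.S_comm_O0 hv hz]
      _ = _ := by group
  have h4' : Nat.card S' = 4 := by
    rw [hS', Subgroup.card_map_of_injective (MulAut.conj g).injective, D.card_S]
  have hfac : (Nat.card H).factorization 2 ≤ 2 := by
    by_contra hlt
    exact D.h8 ((show (8 : ℕ) = 2 ^ 3 by norm_num) ▸ ((pow_dvd_pow 2 (by omega : 3 ≤ (Nat.card H).factorization 2)).trans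
      (Nat.ordProj_dvd _ 2)).trans (Subgroup.card_subgroup_dvd_card H))
  have mk : ∀ T : Subgroup X, T ≤ H → Nat.card T = 4 → ∃ P : Sylow 2 H, (P : Subgroup H) = T.subgroupOf H := by
    intro T hT hcT
    have hc' : Nat.card (T.subgroupOf H) = 2 ^ (Nat.card H).factorization 2 := by
      have h4 : Nat.card (T.subgroupOf H) = 2 ^ 2 := by
        rw [Nat.card_congr (Subgroup.subgroupOfEquivOfLe hT).toEquiv, hcT]; norm_num
      have hd : 2 ^ 2 ∣ Nat.card H := h4 ▸ Subgroup.card_subgroup_dvd_card _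
      have h2 : 2 ≤ (Nat.card H).factorization 2 :=
        (Nat.prime_two.pow_dvd_iff_le_factorization Nat.card_pos.ne').mp hd
      rw [h4, le_antisymm hfac h2]
    exact ⟨Sylow.ofCard _ hc', Sylow.coe_ofCard _ hc'⟩
  obtain ⟨P, hP⟩ := mk D.S hSH D.card_S
  obtain ⟨Q, hQ⟩ := mk S' hS'H h4'
  obtain ⟨⟨c, hcH⟩, hcQ⟩ := MulAction.exists_smul_eq H Q P
  have hn : ∀ v ∈ D.S, c * g * v * (c * g)⁻¹ ∈ D.S := by
    intro v hv
    have hv' : g * v * g⁻¹ ∈ S' := ⟨v, hv, rfl⟩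
    have hmem : (⟨c, hcH⟩ : H) * ⟨g * v * g⁻¹, hS'H hv'⟩ * (⟨c, hcH⟩ : H)⁻¹ ∈ (P : Subgroup H) := by
      rw [← hcQ]
      show _ ∈ (((⟨c, hcH⟩ : H) • Q : Sylow 2 H) : Subgroup H)
      rw [Sylow.coe_subgroup_smul, Subgroup.mem_pointwise_smul_iff_inv_smul_mem]
      simp only [← map_inv, MulAut.smul_def, MulAut.conj_apply, inv_inv, mul_assoc, inv_mul_cancel_left,
        inv_mul_cancel, mul_one]
      rw [hQ, Subgroup.mem_subgroupOf]
      simpa only [mul_assoc] using hv'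
    rw [hP, Subgroup.mem_subgroupOf] at hmem
    rw [show c * g * v * (c * g)⁻¹ = c * (g * v * g⁻¹) * c⁻¹ by group]
    exact hmem
  have hcz : c * g * z * (c * g)⁻¹ = a := by
    rw [show c * g * z * (c * g)⁻¹ = c * (g * z * g⁻¹) * c⁻¹ by group, hg,
      Subgroup.mem_centralizer_singleton_iff.mp hcH, mul_inv_cancel_right]
  set n := c * g
  -- a power of `y` moving `t` like `n`
  have hj : ∃ j < 3, D.y ^ j * D.t * (D.y ^ j)⁻¹ = n * D.t * n⁻¹ := by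
    rcases D.mem_S.mp (hn _ D.t_mem) with e | e | e | e
    · exact absurd (conj_eq_one_iff.mp e) D.ht1
    · exact ⟨0, by norm_num, by rw [e, pow_zero]; group⟩
    · exact ⟨1, by norm_num, by rw [e, pow_one, D.hyt]⟩
    · refine ⟨2, by norm_num, ?_⟩
      rw [e, show D.y ^ 2 * D.t * (D.y ^ 2)⁻¹ = D.y * (D.y * D.t * D.y⁻¹) * D.y⁻¹ by rw [pow_two]; group,
        D.hyt, D.hys]
  obtain ⟨j, hj3, hj⟩ := hj
  refine ⟨j, hj3, ?_⟩
  have hyS : ∀ k : ℕ, ∀ v ∈ D.S, (D.y ^ k)⁻¹ * v * D.y ^ k ∈ D.S := by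
    have h1 : D.y⁻¹ * D.s * D.y = D.t := by rw [← D.hyt]; group
    have h2 : D.y⁻¹ * (D.t * D.s) * D.y = D.s := by rw [← D.hys]; group
    have h3 : D.y⁻¹ * D.t * D.y = D.t * D.s := by
      rw [show D.y⁻¹ * D.t * D.y = D.y⁻¹ * (D.y * (D.t * D.s) * D.y⁻¹) * D.y by rw [D.yts]]; group
    have base : ∀ v ∈ D.S, D.y⁻¹ * v * D.y ∈ D.S := by
      intro v hv
      rcases D.mem_S.mp hv with rfl | rfl | rfl | rfl
      · simp
      · rw [h3]; exact D.S.mul_mem D.t_mem D.s_mem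
      · rw [h1]; exact D.t_mem
      · rw [h2]; exact D.s_mem
    intro k
    induction k with
    | zero => intro v hv; simpa using hv
    | succ k ih =>
      intro v hv
      rw [show (D.y ^ (k + 1))⁻¹ * v * D.y ^ (k + 1) = D.y⁻¹ * ((D.y ^ k)⁻¹ * v * D.y ^ k) * D.y by
        rw [pow_succ]; group]
      exact base _ (ih v hv)
  have h := D.norm_fix (g := (D.y ^ j)⁻¹ * n) ?_ ?_ hz
  · calc a = n * z * n⁻¹ := hcz.symm
      _ = D.y ^ j * (((D.y ^ j)⁻¹ * n) * z * ((D.y ^ j)⁻¹ * n)⁻¹) * (D.y ^ j)⁻¹ := by group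
      _ = _ := by rw [h]
  · rw [show (D.y ^ j)⁻¹ * n * D.t * ((D.y ^ j)⁻¹ * n)⁻¹ = (D.y ^ j)⁻¹ * (n * D.t * n⁻¹) * D.y ^ j by group,
      ← hj]
    group
  · rw [show (D.y ^ j)⁻¹ * n * D.s * ((D.y ^ j)⁻¹ * n)⁻¹ = (D.y ^ j)⁻¹ * (n * D.s * n⁻¹) * D.y ^ j by group]
    exact hyS j _ (hn _ D.s_mem)

end Four

end CfsgLib.MinNonCA
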