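import Cfsg.Agent.Lib.MinNonCA.FourOmega

/-!
The section of `t`: principal character, degrees, and pairs of involutions.
-/

set_option autoImplicit false
set_option linter.style.haveILetI false
set_option linter.unusedSectionVars false

namespace CfsgLib.MinNonCA

open Cfsg CfsgLib.CharTheory CfsgLib.KleinCent
open scoped ComplexConjugate

universe u

namespace Four

variable {X : Type u} [Group X] [Fintype X] (D : Four X)

/-- The principal character. -/
def one : IrrCharacter X := ⟨fun _ => 1, isIrrCharacter_one⟩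

theorem c_one (φ : IrrCharacter D.O) [Decidable (φ = D.lam 1)] :
    D.c (one (X := X)) φ = if φ = D.lam 1 then 1 else 0 := by
  classical
  have h := D.c_spec (one (X := X)) φ
  have e : D.sec ((one (X := X)) : X → ℂ) = (fun _ => 1) := rfl
  rw [e, classInner_irr isIrrCharacter_one φ.2] at h
  have hlam : (D.lam 1 : D.O → ℂ) = fun _ => 1 := funext fun u => by simp [D.lam_apply]
  by_cases hφ : φ = D.lam 1
  · rw [if_pos hφ]
    rw [if_pos (by rw [hφ, hlam])] at h
    exact_mod_cast h.symm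
  · rw [if_neg hφ]
    rw [if_neg (fun e' => hφ (Subtype.ext (by rw [hlam]; exact e'.symm)))] at h
    exact_mod_cast h.symm

theorem value_t (χ : IrrCharacter X) :
    (χ : X → ℂ) D.t = ∑ φ : IrrCharacter D.O, (D.c χ φ : ℂ) * (φ : D.O → ℂ) 1 := by
  have h := D.value χ 1
  rwa [Subgroup.coe_one, mul_one] at h

/-- Restriction to the four group. -/
theorem degree_mod_four (χ : IrrCharacter X) {d : ℕ} (hd : (χ : X → ℂ) 1 = d) {v : ℤ}
    (hv : (χ : X → ℂ) D.t = v) : (4 : ℤ) ∣ (d : ℤ) - v := by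
  classical
  obtain ⟨n, hn⟩ := classInner_char_nat (isCharacter_restrict (isCharacter_of_irr χ.2) D.S) isCharacter_one
  simp only [classInner, map_one, mul_one] at hn
  rw [D.sum_S (χ : X → ℂ), D.card_S] at hn
  have hcl := isClassFunction_irr χ.2
  have hconst := isClassFunction_iff_isConj.mp hcl
  rw [← hconst _ _ (D.hconj D.s D.hs2 D.hs1), ← hconst _ _ (D.hconj _ D.ts_sq D.ts_ne), hd, hv] at hn
  have h4 : ((d : ℤ) : ℂ) + 3 * (v : ℂ) = 4 * ((n : ℤ) : ℂ) := by
    push_cast at hn ⊢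
    rw [← hn]; ring
  have h4' : (d : ℤ) + 3 * v = 4 * (n : ℤ) := by exact_mod_cast h4
  exact ⟨(n : ℤ) - v, by linarith⟩

theorem K_ne_bot : D.K ≠ ⊥ := by
  obtain ⟨x, _, k, hk, hne⟩ := D.hmove
  intro e
  rw [e, Subgroup.mem_bot] at hk
  exact hne (by rw [hk]; group)

/-- An element with trivial square action acts trivially. -/
theorem fpf_sq {x : X} (hx : x ∈ D.O0) (hm : ∃ k ∈ D.K, x * k * x⁻¹ ≠ k) :
    ∀ k ∈ D.K, x * x * k * (x * x)⁻¹ = k → k = 1 := by
  refine (D.hfpf (x * x) (D.O0.mul_mem hx hx)).resolve_left fun htriv => ?_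
  obtain ⟨k, hk, hne⟩ := hm
  apply hne
  have hpow : ∀ j : ℕ, (x * x) ^ j * k * ((x * x) ^ j)⁻¹ = k := by
    intro j
    induction j with
    | zero => simp
    | succ j ih =>
      have e : ∀ a b : X, a * b * k * (a * b)⁻¹ = a * (b * k * b⁻¹) * a⁻¹ := fun a b => by group
      rw [pow_succ', e, ih]
      exact htriv k hk
  obtain ⟨m, hm⟩ := D.hodd
  have e : (x * x) ^ (m + 1) = x := by
    rw [← sq, ← pow_mul, show 2 * (m + 1) = Nat.card D.O + 1 by omega, pow_succ, D.pow_O (D.O0_le hx), one_mul]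
  have := hpow (m + 1)
  rwa [e] at this

/-- Conjugation on `K`. -/
def conjK {x : X} (hx : x ∈ D.O) : D.K →* D.K where
  toFun k := ⟨x * k * x⁻¹, D.hKnorm x hx k k.2⟩
  map_one' := Subtype.ext (by simp)
  map_mul' a b := Subtype.ext (by push_cast; group)

/-- A fixed-point-free automorphism fixes no nontrivial character. -/
theorem hom_fixed_eq_one {x : X} (hx : x ∈ D.O) (hf : ∀ k ∈ D.K, x * k * x⁻¹ = k → k = 1)
    {κ : D.K →* ℂˣ} (h : κ.comp (D.conjK hx) = κ) : κ = 1 := by
  let δ : D.K → D.K := fun k => k⁻¹ * D.conjK hx k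
  have hinj : Function.Injective δ := by
    intro a b hab
    have hc : ∀ p q : D.K, p * q = q * p := fun p q => Subtype.ext (D.hKcomm _ p.2 _ q.2)
    have h1 : D.conjK hx (b⁻¹ * a) = b⁻¹ * a := by
      rw [map_mul, map_inv]
      have h2 : D.conjK hx a = a * (b⁻¹ * D.conjK hx b) := by
        rw [show b⁻¹ * D.conjK hx b = a⁻¹ * D.conjK hx a from hab.symm, mul_inv_cancel_left]
      rw [h2, hc a, ← mul_assoc, hc _ (b⁻¹ * D.conjK hx b), mul_assoc b⁻¹, mul_inv_cancel, mul_one]
    have h3 := hf _ (b⁻¹ * a : D.K).2 (congrArg Subtype.val h1)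
    exact (inv_mul_eq_one.mp (Subtype.ext h3 : b⁻¹ * a = 1)).symm
  refine MonoidHom.ext fun k => ?_
  obtain ⟨a, rfl⟩ := (Finite.injective_iff_surjective.mp hinj) k
  show κ (a⁻¹ * D.conjK hx a) = 1
  rw [map_mul, map_inv, show κ (D.conjK hx a) = κ a from DFunLike.congr_fun h a, inv_mul_cancel]

include D in
theorem six_le_degree (hfaith : ∀ χ : IrrCharacter X, χ ≠ one → ∀ g : X, (χ : X → ℂ) g = (χ : X → ℂ) 1 → g = 1)
    (χ : IrrCharacter X) (hχ : χ ≠ one) {d : ℕ} (hd : (χ : X → ℂ) 1 = d) : 6 ≤ d := by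
  classical
  obtain ⟨x, hx, hxm⟩ := D.hmove
  have hxO := D.O0_le hx
  have hf : ∀ k ∈ D.K, x * k * x⁻¹ = k → k = 1 := (D.hfpf x hx).resolve_left fun h => by
    obtain ⟨k, hk, hne⟩ := hxm; exact hne (h k hk)
  have hf2 := D.fpf_sq hx hxm
  have hxm2 : ∃ k ∈ D.K, x * x * k * (x * x)⁻¹ ≠ k := by
    obtain ⟨k, hk, hne⟩ := hxm
    exact ⟨k, hk, fun e => hne (by rw [hf2 k hk e]; group)⟩
  have hf4 := D.fpf_sq (D.O0.mul_mem hx hx) hxm2
  set ρK : D.K → ℂ := fun k => (χ : X → ℂ) k with hρ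
  have hcharK : IsCharacter D.K ρK := isCharacter_restrict (isCharacter_of_irr χ.2) D.K
  have hcl := isClassFunction_irr χ.2
  have hKc : ∀ a b : D.K, a * b = b * a := fun a b => Subtype.ext (D.hKcomm _ a.2 _ b.2)
  have hdec : ρK = ∑ ψ : IrrCharacter D.K, classInner ρK ψ • (ψ : D.K → ℂ) :=
    eq_sum_irr (isClassFunction_char hcharK)
  obtain ⟨κ, hκ1, hκ0⟩ : ∃ κ : D.K →* ℂˣ, κ ≠ 1 ∧ classInner ρK (fun k => (κ k : ℂ)) ≠ 0 := by
    by_contra hcon
    push Not at hcon
    obtain ⟨k, hk, hk1⟩ := (D.K.ne_bot_iff_exists_ne_one).mp D.K_ne_bot |>.elim fun k hk =>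
      (⟨(k : X), k.2, fun e => hk (Subtype.ext e)⟩ : ∃ k : X, k ∈ D.K ∧ k ≠ 1)
    apply hk1
    apply hfaith χ hχ
    have hterm : ∀ ψ : IrrCharacter D.K, classInner ρK ψ * (ψ : D.K → ℂ) ⟨k, hk⟩ =
        classInner ρK ψ * (ψ : D.K → ℂ) 1 := by
      intro ψ
      obtain ⟨f, hf'⟩ := exists_hom_of_degree_one (isCharacter_of_irr ψ.2) (degree_one_of_commutative hKc ψ.2)
      by_cases h1 : f = 1
      · rw [hf', h1]; simp
      · rw [hf', hcon f h1, zero_mul, zero_mul]
    have e1 := congrFun hdec ⟨k, hk⟩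
    have e2 := congrFun hdec 1
    simp only [Finset.sum_apply, Pi.smul_apply, smul_eq_mul] at e1 e2
    rw [Finset.sum_congr rfl fun ψ _ => hterm ψ, ← e2] at e1
    simpa [hρ] using e1
  -- the six characters
  let cx := D.conjK hxO
  let six : Fin 6 → (D.K →* ℂˣ) := ![κ, κ.comp cx, (κ.comp cx).comp cx, κ⁻¹, κ⁻¹.comp cx, (κ⁻¹.comp cx).comp cx]
  have hcx : ∀ (lam : D.K →* ℂˣ), classInner ρK (fun k => ((lam.comp cx) k : ℂ)) = classInner ρK (fun k => (lam k : ℂ)) := by
    intro lam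
    simp only [classInner]
    congr 1
    have hinj : Function.Injective cx := fun a b e => Subtype.ext (by
      have := congrArg Subtype.val e
      exact mul_left_cancel (mul_right_cancel this))
    refine Fintype.sum_equiv (Equiv.ofBijective cx (Finite.injective_iff_bijective.mp hinj)) _ _ fun k => ?_
    show (χ : X → ℂ) k * _ = (χ : X → ℂ) (x * (k : X) * x⁻¹) * _
    rw [hcl]
    rfl
  have hinvc : ∀ (lam : D.K →* ℂˣ), classInner ρK (fun k => ((lam⁻¹) k : ℂ)) = classInner ρK (fun k => (lam k : ℂ)) := by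
    intro lam
    simp only [classInner]
    congr 1
    refine Fintype.sum_equiv (Equiv.inv _) _ _ fun k => ?_
    show (χ : X → ℂ) k * _ = (χ : X → ℂ) (k : X)⁻¹ * _
    rw [← D.hKinv _ k.2]
    nth_rewrite 2 [← D.s_inv]
    rw [hcl, MonoidHom.inv_apply, Equiv.inv_apply, map_inv]
  have hsix : ∀ i, classInner ρK (fun k => (six i k : ℂ)) ≠ 0 := by
    intro i
    fin_cases i
    · exact hκ0
    · exact (hcx κ).trans_ne hκ0
    · exact ((hcx _).trans (hcx κ)).trans_ne hκ0
    · exact (hinvc κ).trans_ne hκ0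
    · exact ((hcx _).trans (hinvc κ)).trans_ne hκ0
    · exact (((hcx _).trans (hcx _)).trans (hinvc κ)).trans_ne hκ0
  have hκinv : κ⁻¹ ≠ κ := by
    intro e
    apply hκ1
    refine MonoidHom.ext fun k => ?_
    have h2 : κ k ^ 2 = 1 := by
      rw [sq]; nth_rewrite 1 [← DFunLike.congr_fun e k]; simp
    have hN : κ k ^ Nat.card D.K = 1 := by rw [← map_pow, pow_card_eq_one', map_one]
    have h5 := pow_gcd_eq_one.mpr ⟨h2, hN⟩
    rwa [(Nat.coprime_two_left.mpr (D.hodd.of_dvd_nat (Subgroup.card_dvd_of_le D.hK))).gcd_eq_one, pow_one] at h5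
  have n1 : κ.comp cx ≠ κ := fun e => hκ1 (D.hom_fixed_eq_one hxO hf e)
  have hx2O : x * x ∈ D.O := D.O.mul_mem hxO hxO
  have hx4O : x * x * (x * x) ∈ D.O := D.O.mul_mem hx2O hx2O
  have e2 : ∀ lam : D.K →* ℂˣ, (lam.comp cx).comp cx = lam.comp (D.conjK hx2O) := fun lam =>
    MonoidHom.ext fun k => congrArg lam (Subtype.ext (by
      show x * (x * (k : X) * x⁻¹) * x⁻¹ = x * x * k * (x * x)⁻¹; group))
  have n2 : (κ.comp cx).comp cx ≠ κ := fun e => hκ1 (D.hom_fixed_eq_one hx2O hf2 (by rw [← e2]; exact e))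
  have m1 : κ.comp cx ≠ κ⁻¹ := by
    intro e
    apply n2
    rw [e]
    refine MonoidHom.ext fun k => ?_
    have := DFunLike.congr_fun e k
    simp only [MonoidHom.comp_apply, MonoidHom.inv_apply] at this ⊢
    rw [this, inv_inv]
  have m2 : (κ.comp cx).comp cx ≠ κ⁻¹ := by
    intro e
    apply hκ1
    refine D.hom_fixed_eq_one hx4O hf4 (MonoidHom.ext fun k => ?_)
    have e' : ∀ j : D.K, κ (cx (cx j)) = (κ j)⁻¹ := fun j => DFunLike.congr_fun e j
    have : D.conjK hx4O k = cx (cx (cx (cx k))) := Subtype.ext (by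
      show x * x * (x * x) * (k : X) * (x * x * (x * x))⁻¹ = x * (x * (x * (x * k * x⁻¹) * x⁻¹) * x⁻¹) * x⁻¹
      group)
    rw [MonoidHom.comp_apply, this, e', e', inv_inv]
  have hcinj : ∀ a b : D.K →* ℂˣ, a.comp cx = b.comp cx → a = b := by
    intro a b e
    refine MonoidHom.ext fun k => ?_
    have hinj : Function.Injective cx := fun a b e => Subtype.ext (by
      have := congrArg Subtype.val e
      exact mul_left_cancel (mul_right_cancel this))
    obtain ⟨j, rfl⟩ := (Finite.injective_iff_surjective.mp hinj) k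
    exact DFunLike.congr_fun e j
  have hinvcomp : ∀ a : D.K →* ℂˣ, a⁻¹.comp cx = (a.comp cx)⁻¹ := fun a => rfl
  have hinj6 : Function.Injective six := by
    have a01 : κ ≠ κ.comp cx := n1.symm
    have a02 : κ ≠ (κ.comp cx).comp cx := n2.symm
    have a03 : κ ≠ κ⁻¹ := hκinv.symm
    have a04 : κ ≠ κ⁻¹.comp cx := fun e =>
      m1 (inv_eq_iff_eq_inv.mpr (e.trans (hinvcomp κ))).symm
    have a05 : κ ≠ (κ⁻¹.comp cx).comp cx := fun e =>
      m2 (inv_eq_iff_eq_inv.mpr (e.trans (by rw [hinvcomp, hinvcomp]))).symm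
    have a12 : κ.comp cx ≠ (κ.comp cx).comp cx := fun e => n1 (hcinj _ _ e).symm
    have a14 : κ.comp cx ≠ κ⁻¹.comp cx := fun e => hκinv (hcinj _ _ e).symm
    have a15 : κ.comp cx ≠ (κ⁻¹.comp cx).comp cx := fun e => a04 (hcinj _ _ e)
    have a24 : (κ.comp cx).comp cx ≠ κ⁻¹.comp cx := fun e => m1 (hcinj _ _ e)
    have a25 : (κ.comp cx).comp cx ≠ (κ⁻¹.comp cx).comp cx := fun e => hκinv (hcinj _ _ (hcinj _ _ e)).symm
    have a34 : κ⁻¹ ≠ κ⁻¹.comp cx := fun e => n1 (inv_inj.mp (by rw [← hinvcomp, ← e]))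
    have a35 : κ⁻¹ ≠ (κ⁻¹.comp cx).comp cx := fun e =>
      n2 (inv_inj.mp (by rw [← hinvcomp, ← hinvcomp, ← e]))
    have a45 : κ⁻¹.comp cx ≠ (κ⁻¹.comp cx).comp cx := fun e => a34 (hcinj _ _ e)
    intro i j hij
    fin_cases i <;> fin_cases j <;> (first | rfl | exact absurd hij ‹_› | exact absurd hij.symm ‹_›)
  -- count
  let emb : Fin 6 → IrrCharacter D.K := fun i => ⟨fun k => (six i k : ℂ), isIrrCharacter_linear (six i)⟩
  have hemb : Function.Injective emb := fun i j h => hinj6 (MonoidHom.ext fun k =>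
    Units.ext (congrFun (congrArg Subtype.val h) k))
  choose mult hmult using fun ψ : IrrCharacter D.K =>
    classInner_char_nat hcharK (isCharacter_of_irr ψ.2)
  have hdeg : d = ∑ ψ : IrrCharacter D.K, mult ψ := by
    have e := congrFun hdec 1
    simp only [Finset.sum_apply, Pi.smul_apply, smul_eq_mul] at e
    rw [show ρK 1 = (d : ℂ) by simp [hρ, hd]] at e
    have e' : (d : ℂ) = ((∑ ψ : IrrCharacter D.K, mult ψ : ℕ) : ℂ) := by
      rw [e, Nat.cast_sum]
      refine Finset.sum_congr rfl fun ψ _ => ?_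
      rw [degree_one_of_commutative hKc ψ.2, mul_one, hmult]
    exact_mod_cast e'
  calc 6 = ∑ ψ ∈ Finset.univ.image emb, 1 := by
        rw [Finset.sum_const, Finset.card_image_of_injective _ hemb, Finset.card_fin, smul_eq_mul, mul_one]
    _ ≤ ∑ ψ ∈ Finset.univ.image emb, mult ψ := by
        refine Finset.sum_le_sum fun ψ hψ => ?_
        obtain ⟨i, -, rfl⟩ := Finset.mem_image.mp hψ
        refine Nat.one_le_iff_ne_zero.mpr fun h0 => hsix i ?_
        have := hmult (emb i)
        rw [h0, Nat.cast_zero] at this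
        exact this
    _ ≤ ∑ ψ : IrrCharacter D.K, mult ψ :=
        Finset.sum_le_sum_of_subset (Finset.subset_univ _)
    _ = d := hdeg.symm

/-- The involutions. -/
def Invol (a : X) : Prop := a * a = 1 ∧ a ≠ 1

/-- Products of two involutions in the section. -/
theorem pair_count (u : D.O) [DecidablePred fun a : X => a * a = 1 ∧ a ≠ 1 ∧ Invol (a * (D.t * u))]
    [Decidable ((u : X) ∈ D.K)] :
    (Finset.univ.filter fun a : X => a * a = 1 ∧ a ≠ 1 ∧ Invol (a * (D.t * u))).card =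
      if (u : X) ∈ D.K then 2 * Nat.card D.K else 0 := by
  classical
  have key : ∀ a : X, a * a = 1 → a ≠ 1 → Invol (a * (D.t * u)) →
      (u : X) ∈ D.K ∧ ∃ k ∈ D.K, a = D.s * k ∨ a = D.t * D.s * k := by
    intro a ha ha1 ⟨hb, hb1⟩
    have hinv : a * (D.t * u) * a⁻¹ = (D.t * (u : X)⁻¹) := by
      rw [inv_eq_of_mul_eq_one_right ha]
      have h2 : a * (D.t * u) * a = (D.t * (u : X))⁻¹ := by
        apply eq_inv_of_mul_eq_one_left
        rw [mul_assoc (a * (D.t * u)) a]
        exact hb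
      rw [h2, mul_inv_rev, D.t_inv, D.hOt _ (D.O.inv_mem u.2)]
    have hat := D.conj_section u.2 (D.O.inv_mem u.2) hinv
    rcases D.invol_cent ha hat with h | h | ⟨k, hk, h⟩
    · exact absurd h ha1
    · exfalso
      rw [h, ← mul_assoc D.t, D.ht2, one_mul] at hb hb1
      exact hb1 (D.eq_one_of_sq u.2 hb)
    · refine ⟨?_, k, hk, h⟩
      have hku : k * (u : X) ∈ D.O := D.O.mul_mem (D.hK hk) u.2
      have hmem : k * (u : X) ∈ D.K := by
        rcases h with h | h
        · have e : a * (D.t * u) = D.t * D.s * (k * u) := by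
            rw [h, show D.s * k * (D.t * (u : X)) = D.s * (k * D.t) * u by group, D.hOt k (D.hK hk),
              show D.s * (D.t * k) * (u : X) = (D.s * D.t) * (k * u) by group, D.hcomm]
          rw [e] at hb
          refine D.inverted hku ?_
          have hm : D.s * (k * u) * D.s ∈ D.O := D.s_norm hku
          have e2 : D.t * D.s * (k * u) * (D.t * D.s * (k * u)) = (D.s * (k * u) * D.s) * (k * u) := by
            calc D.t * D.s * (k * u) * (D.t * D.s * (k * u))
                = D.t * D.s * ((k * u) * D.t) * D.s * (k * u) := by group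
              _ = D.t * D.s * (D.t * (k * u)) * D.s * (k * u) := by rw [D.hOt _ hku]
              _ = D.t * (D.s * D.t) * (k * u) * D.s * (k * u) := by group
              _ = D.t * (D.t * D.s) * (k * u) * D.s * (k * u) := by rw [D.hcomm]
              _ = (D.t * D.t) * (D.s * (k * u) * D.s) * (k * u) := by group
              _ = _ := by rw [D.ht2, one_mul]
          rw [e2] at hb
          exact eq_inv_of_mul_eq_one_left hb
        · have e : a * (D.t * u) = D.s * (k * u) := by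
            rw [h, show D.t * D.s * k * (D.t * (u : X)) = D.t * D.s * (k * D.t) * u by group, D.hOt k (D.hK hk),
              show D.t * D.s * (D.t * k) * (u : X) = D.t * (D.s * D.t) * (k * u) by group, D.hcomm,
              ← mul_assoc D.t, D.ht2, one_mul]
          rw [e] at hb
          refine D.inverted hku (eq_inv_of_mul_eq_one_left ?_)
          rw [show D.s * (k * u) * D.s * (k * u) = D.s * (k * (u : X)) * (D.s * (k * u)) by group, hb]
      have := D.K.mul_mem (D.K.inv_mem hk) hmem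
      rwa [inv_mul_cancel_left] at this
  split
  · rename_i hu
    have hsk : ∀ m ∈ D.K, Invol (D.s * m) := by
      intro m hm
      refine ⟨?_, fun e => ?_⟩
      · rw [show D.s * m * (D.s * m) = (D.s * m * D.s) * m by group, D.hKinv m hm, inv_mul_cancel]
      · have : D.s ∈ D.O := by rw [mul_eq_one_iff_eq_inv] at e; rw [e]; exact D.O.inv_mem (D.hK hm)
        exact D.hs1 (D.disjoint_SO D.s_mem this)
    have htsk : ∀ m ∈ D.K, Invol (D.t * D.s * m) := by
      intro m hm
      refine ⟨?_, fun e => ?_⟩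
      · calc D.t * D.s * m * (D.t * D.s * m) = D.t * D.s * (m * D.t) * (D.s * m) := by group
          _ = D.t * D.s * (D.t * m) * (D.s * m) := by rw [D.hOt m (D.hK hm)]
          _ = D.t * (D.s * D.t) * (m * D.s * m) := by group
          _ = (D.t * D.t) * ((D.s * m) * (D.s * m)) := by rw [D.hcomm]; group
          _ = 1 := by rw [D.ht2, (hsk m hm).1, one_mul]
      · have : D.t * D.s ∈ D.O := by rw [mul_eq_one_iff_eq_inv] at e; rw [e]; exact D.O.inv_mem (D.hK hm)
        exact D.ts_ne (D.disjoint_SO (D.S.mul_mem D.t_mem D.s_mem) this)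
    have : Nat.card (Bool × D.K) = 2 * Nat.card D.K := by simp
    rw [← this, Nat.card_eq_fintype_card, ← Finset.card_univ]
    symm
    refine Finset.card_bij (fun p _ => if p.1 then D.t * D.s * (p.2 : X) else D.s * (p.2 : X)) ?_ ?_ ?_
    · rintro ⟨b, k⟩ -
      simp only [Finset.mem_filter, Finset.mem_univ, true_and]
      have hku : (k : X) * u ∈ D.K := D.K.mul_mem k.2 hu
      cases b
      · simp only [Bool.false_eq_true, if_false]
        refine ⟨(hsk k k.2).1, (hsk k k.2).2, ?_⟩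
        rw [show D.s * (k : X) * (D.t * (u : X)) = D.s * ((k : X) * D.t) * u by group, D.hOt _ (D.hK k.2),
          show D.s * (D.t * (k : X)) * (u : X) = (D.s * D.t) * (k * u) by group, D.hcomm]
        exact htsk _ hku
      · simp only [if_true]
        refine ⟨(htsk k k.2).1, (htsk k k.2).2, ?_⟩
        rw [show D.t * D.s * (k : X) * (D.t * (u : X)) = D.t * D.s * ((k : X) * D.t) * u by group,
          D.hOt _ (D.hK k.2), show D.t * D.s * (D.t * (k : X)) * (u : X) = D.t * (D.s * D.t) * (k * u) by group,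
          D.hcomm, ← mul_assoc D.t, D.ht2, one_mul]
        exact hsk _ hku
    · rintro ⟨b, k⟩ - ⟨b', k'⟩ - e
      have hS : ∀ b : Bool, (if b then D.t * D.s else D.s) ∈ D.S := by
        intro b; cases b
        · simpa using D.s_mem
        · simpa using D.S.mul_mem D.t_mem D.s_mem
      have e' : (if b then D.t * D.s else D.s) * (k : X) = (if b' then D.t * D.s else D.s) * (k' : X) := by
        cases b <;> cases b' <;> simpa using e
      obtain ⟨h1, h2⟩ := D.unique_SO (hS b) (hS b') (D.hK k.2) (D.hK k'.2) e'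
      refine Prod.ext ?_ (Subtype.ext h2)
      have hne : D.s ≠ D.t * D.s := fun e => D.ht1 (right_eq_mul.mp e)
      cases b <;> cases b' <;> simp_all
    · intro a ha
      simp only [Finset.mem_filter, Finset.mem_univ, true_and] at ha
      obtain ⟨k, hk, h⟩ := (key a ha.1 ha.2.1 ha.2.2).2
      rcases h with h | h
      · exact ⟨(false, ⟨k, hk⟩), Finset.mem_univ _, by simp [h]⟩
      · exact ⟨(true, ⟨k, hk⟩), Finset.mem_univ _, by simp [h]⟩
  · rename_i hu
    rw [Finset.card_eq_zero, Finset.filter_eq_empty_iff]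
    exact fun a _ ⟨h1, h2, h3⟩ => hu (key a h1 h2 h3).1

/-- The sum `Σ χ(t)² c(χ, φ) / χ(1)`. -/
noncomputable def E (φ : IrrCharacter D.O) : ℂ :=
  ∑ χ : IrrCharacter X, (D.c χ φ : ℂ) * (χ : X → ℂ) D.t ^ 2 / (χ : X → ℂ) 1

theorem E_eq : ∃ κ : ℂ, ∀ φ : IrrCharacter D.O,
    D.E φ = κ * ∑ k : D.K.subgroupOf D.O, conj ((φ : D.O → ℂ) k) := by
  classical
  set cl := Finset.univ.filter (fun a : X => IsConj D.t a)
  have hcl : ∀ a : X, a ∈ cl ↔ (a * a = 1 ∧ a ≠ 1) := by
    intro a
    simp only [cl, Finset.mem_filter, Finset.mem_univ, true_and]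
    refine ⟨fun h => ?_, fun h => D.hconj a h.1 h.2⟩
    obtain ⟨c, rfl⟩ := isConj_iff.mp h
    exact ⟨by rw [show c * D.t * c⁻¹ * (c * D.t * c⁻¹) = c * (D.t * D.t) * c⁻¹ by group, D.ht2]; group,
      fun e => D.ht1 (conj_eq_one_iff.mp e)⟩
  set N : ℂ := (Nat.card {a : X // IsConj D.t a} : ℂ)
  have hN : N ≠ 0 := by
    have : Nonempty {a : X // IsConj D.t a} := ⟨⟨D.t, IsConj.refl _⟩⟩
    exact Nat.cast_ne_zero.mpr Nat.card_pos.ne'
  have hF : ∀ g : X, (Nat.card X : ℂ) * ((cl.filter fun a => a * g⁻¹ ∈ cl).card : ℂ) =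
      N * N * ∑ χ : IrrCharacter X, (χ : X → ℂ) D.t ^ 2 * (χ : X → ℂ) g / (χ : X → ℂ) 1 := by
    intro g
    have h1 : ∑ χ : IrrCharacter X, (χ : X → ℂ) 1 * ∑ a ∈ cl, ∑ b ∈ cl, (χ : X → ℂ) (a * b * g) =
        (Nat.card X : ℂ) * ((cl.filter fun a => a * g⁻¹ ∈ cl).card : ℂ) := by
      simp only [Finset.mul_sum]
      rw [Finset.sum_comm]
      refine (Finset.sum_congr rfl fun a _ => Finset.sum_comm).trans ?_
      simp only [mul_comm ((_ : X → ℂ) 1), sum_irr_apply_mul_degree]
      have e : ∀ a ∈ cl, (∑ b ∈ cl, if a * b * g = 1 then (Nat.card X : ℂ) else 0) =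
          if a * g⁻¹ ∈ cl then (Nat.card X : ℂ) else 0 := by
        intro a ha
        have hai : a⁻¹ = a := inv_eq_of_mul_eq_one_right ((hcl a).mp ha).1
        have : ∀ b, a * b * g = 1 ↔ a * g⁻¹ = b := fun b => by
          constructor
          · intro e; rw [mul_eq_one_iff_eq_inv] at e; rw [← e, ← mul_assoc, ((hcl a).mp ha).1, one_mul]
          · rintro rfl; rw [← mul_assoc, ((hcl a).mp ha).1]; group
        simp only [this, Finset.sum_ite_eq]
      rw [Finset.sum_congr rfl e, ← Finset.sum_filter, Finset.sum_const, nsmul_eq_mul, mul_comm]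
    rw [← h1, Finset.mul_sum]
    refine Finset.sum_congr rfl fun χ _ => ?_
    rw [sum_class_class_char χ.2 D.t D.t g]
    have := irr_ne_zero χ.2
    simp only [N]
    field_simp
  refine ⟨(Nat.card X : ℂ) * (2 * Nat.card D.K) / (N * N * Nat.card D.O), fun φ => ?_⟩
  have hE : D.E φ = (Nat.card D.O : ℂ)⁻¹ * ∑ u : D.O, conj ((φ : D.O → ℂ) u) *
      ∑ χ : IrrCharacter X, (χ : X → ℂ) D.t ^ 2 * (χ : X → ℂ) (D.t * u) / (χ : X → ℂ) 1 := by
    simp only [Finset.mul_sum]
    rw [Finset.sum_comm]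
    refine Finset.sum_congr rfl fun χ _ => ?_
    rw [← D.c_spec, classInner, Finset.mul_sum, Finset.sum_mul, Finset.sum_div]
    refine Finset.sum_congr rfl fun u _ => ?_
    simp only [Four.sec]
    ring
  have hval : ∀ u : D.O, ∑ χ : IrrCharacter X, (χ : X → ℂ) D.t ^ 2 * (χ : X → ℂ) (D.t * u) / (χ : X → ℂ) 1 =
      if (u : X) ∈ D.K then (Nat.card X : ℂ) * (2 * Nat.card D.K) / (N * N) else 0 := by
    intro u
    have h := hF (D.t * u)
    have hset : (cl.filter fun a => a * (D.t * (u : X))⁻¹ ∈ cl) =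
        Finset.univ.filter fun a : X => a * a = 1 ∧ a ≠ 1 ∧ Invol (a * (D.t * ((u⁻¹ : D.O) : X))) := by
      ext a
      have : a * (D.t * (u : X))⁻¹ = a * (D.t * ((u⁻¹ : D.O) : X)) := by
        rw [mul_inv_rev, D.t_inv, D.hOt _ (D.O.inv_mem u.2)]; rfl
      rw [Finset.mem_filter, hcl, hcl, this, and_assoc]
      exact ⟨fun hh => Finset.mem_filter.mpr ⟨Finset.mem_univ _, hh⟩, fun hh => (Finset.mem_filter.mp hh).2⟩
    rw [hset, D.pair_count] at h
    simp only [Subgroup.coe_inv, inv_mem_iff] at h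
    split_ifs with hu
    · rw [if_pos hu] at h
      rw [eq_div_iff (mul_ne_zero hN hN)]
      push_cast at h ⊢
      rw [h]; ring
    · rw [if_neg hu] at h
      simp only [Nat.cast_zero, mul_zero] at h
      exact (mul_eq_zero.mp h.symm).resolve_left (mul_ne_zero hN hN)
  rw [hE, Finset.sum_congr rfl fun u _ => by rw [hval u]]
  simp only [mul_ite, mul_zero]
  rw [← Finset.sum_filter, ← Finset.sum_mul]
  have hsub : ∑ u ∈ Finset.univ.filter (fun u : D.O => (u : X) ∈ D.K), conj ((φ : D.O → ℂ) u) =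
      ∑ k : D.K.subgroupOf D.O, conj ((φ : D.O → ℂ) k) :=
    Finset.sum_subtype _ (fun u => by simp [Subgroup.mem_subgroupOf]) _
  rw [hsub]
  field_simp

/-- `E` is the same for all linear characters trivial on `K`. -/
theorem E_lam (μ ν : D.O0 →* ℂˣ) : D.E (D.lam μ) = D.E (D.lam ν) := by
  obtain ⟨κ, h⟩ := D.E_eq
  rw [h, h]
  congr 1
  refine Finset.sum_congr rfl fun k _ => ?_
  have hk : D.pr (k : D.O) = 1 := D.pr_K (Subgroup.mem_subgroupOf.mp k.2)
  simp [D.lam_apply, hk]

theorem E_moved {φ : IrrCharacter D.O} (hφ : D.sConj φ ≠ φ) : D.E φ = 0 := by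
  obtain ⟨κ, h⟩ := D.E_eq
  rw [h, ← map_sum, D.sum_K_eq_zero hφ, map_zero, mul_zero]

end Four

end CfsgLib.MinNonCA
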