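import Cfsg.Agent.Lib.MinNonCA.FourChars

/-!
The section of `t`: linear characters of `O` and parities.
-/

set_option autoImplicit false
set_option linter.style.haveILetI false
set_option linter.unusedSectionVars false

namespace CfsgLib.MinNonCA

open Cfsg CfsgLib.CharTheory CfsgLib.KleinCent
open scoped ComplexConjugate

universe u

/-- Multiplication by a central involution does not change values mod 2. -/
theorem modTwo_involution {X : Type u} [Group X] [Finite X] {χ : X → ℂ} (hχ : IsCharacter X χ) {v g : X}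
    (hv : v * v = 1) (hvg : Commute v g) : ModTwo (χ (v * g)) (χ g) := by
  classical
  obtain ⟨n, ρ, rfl⟩ := hχ
  let P : Module.End ℂ (Fin n → ℂ) := (2 : ℂ)⁻¹ • (1 - ρ v)
  let W : Submodule ℂ (Fin n → ℂ) := LinearMap.range P
  set Z := Subgroup.centralizer ({v} : Set X) with hZ
  have hcomm : ∀ k ∈ Z, ρ k * P = P * ρ k := by
    intro k hk
    show ρ k * ((2 : ℂ)⁻¹ • (1 - ρ v)) = ((2 : ℂ)⁻¹ • (1 - ρ v)) * ρ k
    rw [mul_smul_comm, smul_mul_assoc, mul_sub, sub_mul, mul_one, one_mul, ← map_mul, ← map_mul,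
      Subgroup.mem_centralizer_singleton_iff.mp hk]
  have hgZ : g ∈ Z := Subgroup.mem_centralizer_singleton_iff.mpr hvg.eq.symm
  have hW : ∀ k : Z, ∀ w ∈ W, ρ (k : X) w ∈ W := by
    rintro k _ ⟨y, rfl⟩
    exact ⟨ρ (k : X) y, (LinearMap.congr_fun (hcomm k k.2) y).symm⟩
  let τ : Representation ℂ Z W :=
    { toFun := fun k => (ρ (k : X)).restrict (hW k)
      map_one' := by ext w; simp [LinearMap.restrict_apply]
      map_mul' := fun a b => by ext w; simp [LinearMap.restrict_apply] }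
  have hint := isIntegral_character τ ⟨g, hgZ⟩
  have hPP : P * P = P := by
    have h2 : ρ v * ρ v = 1 := by rw [← map_mul, hv, map_one]
    show ((2 : ℂ)⁻¹ • (1 - ρ v)) * ((2 : ℂ)⁻¹ • (1 - ρ v)) = (2 : ℂ)⁻¹ • (1 - ρ v)
    rw [smul_mul_smul_comm, sub_mul, mul_sub, mul_sub, one_mul, mul_one, h2, one_mul,
      show (1 - ρ v - (ρ v - 1)) = (2 : ℂ) • (1 - ρ v) by rw [two_smul]; abel, smul_smul]
    norm_num
  have htr : τ.character ⟨g, hgZ⟩ = LinearMap.trace ℂ _ (ρ g * P) := by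
    let P' : (Fin n → ℂ) →ₗ[ℂ] W := P.rangeRestrict
    have h1 : ρ g * P = W.subtype ∘ₗ ((τ ⟨g, hgZ⟩) ∘ₗ P') := by ext w; rfl
    have h2 : P' ∘ₗ W.subtype = LinearMap.id := by
      refine LinearMap.ext fun w => Subtype.ext ?_
      obtain ⟨y, hy⟩ := w.2
      show P (w : Fin n → ℂ) = w
      rw [← hy]
      exact LinearMap.congr_fun hPP y
    rw [h1, LinearMap.trace_comp_comm', LinearMap.comp_assoc, h2, LinearMap.comp_id]
    rfl
  rw [htr] at hint
  have hval : LinearMap.trace ℂ _ (ρ g * P) = (ρ.character g - ρ.character (v * g)) / 2 := by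
    show LinearMap.trace ℂ _ (ρ g * ((2 : ℂ)⁻¹ • (1 - ρ v))) = _
    rw [mul_smul_comm, map_smul, mul_sub, mul_one, map_sub, smul_eq_mul, ← map_mul, ← hvg.eq]
    show (2 : ℂ)⁻¹ * (ρ.character g - ρ.character (v * g)) = _
    ring
  rw [hval] at hint
  exact ModTwo.symm hint

/-- Pairing by an involution. -/
theorem modTwo_sum_involution {ι : Type*} [Fintype ι] (f : ι → ι) (hf : ∀ i, f (f i) = i) (r : ι → ℂ)
    (hint : ∀ i, IsIntegral ℤ (r i)) (hr : ∀ i, r (f i) = r i) [DecidablePred fun i => ¬ f i = i] :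
    ModTwo (∑ i ∈ Finset.univ.filter (fun i => ¬ f i = i), r i) 0 := by
  classical
  let e : ι ≃ Fin (Fintype.card ι) := Fintype.equivFin _
  set T := Finset.univ.filter (fun i => ¬ f i = i)
  have hsp : ∑ i ∈ T.filter (fun i => ¬ e i < e (f i)), r i = ∑ i ∈ T.filter (fun i => e i < e (f i)), r i := by
    refine Finset.sum_bij (fun i _ => f i) ?_ ?_ ?_ ?_
    · intro i hi
      simp only [T, Finset.mem_filter, Finset.mem_univ, true_and] at hi ⊢
      refine ⟨fun hh => hi.1 (by rw [hf] at hh; exact hh.symm), ?_⟩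
      rw [hf]
      exact lt_of_le_of_ne (not_lt.mp hi.2) fun hh => hi.1 (e.injective hh)
    · intro a _ b _ hab
      rw [← hf a, hab, hf]
    · intro i hi
      simp only [T, Finset.mem_filter, Finset.mem_univ, true_and] at hi
      refine ⟨f i, ?_, hf i⟩
      simp only [T, Finset.mem_filter, Finset.mem_univ, true_and, hf]
      exact ⟨fun hh => hi.1 hh.symm, not_lt.mpr hi.2.le⟩
    · intro i _
      exact (hr i).symm
  unfold ModTwo
  rw [sub_zero, ← Finset.sum_filter_add_sum_filter_not T (fun i => e i < e (f i)), hsp, ← two_mul,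
    mul_div_cancel_left₀ _ two_ne_zero]
  exact IsIntegral.sum _ fun i _ => hint i

/-- The sum of a character of a finite abelian group. -/
theorem sum_hom_eq {A : Type u} [Group A] [Fintype A] (μ : A →* ℂˣ) [Decidable (μ = 1)] :
    ∑ a : A, (μ a : ℂ) = if μ = 1 then (Nat.card A : ℂ) else 0 := by
  split
  · rename_i h; subst h; simp [Nat.card_eq_fintype_card]
  · rename_i h
    obtain ⟨b, hb⟩ : ∃ b, μ b ≠ 1 := by
      by_contra hc
      push Not at hc
      exact h (MonoidHom.ext hc)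
    have e : (μ b : ℂ) * ∑ a : A, (μ a : ℂ) = ∑ a : A, (μ a : ℂ) := by
      rw [Finset.mul_sum]
      exact Fintype.sum_equiv (Equiv.mulLeft b) _ _ fun a => by simp
    rcases eq_or_ne (∑ a : A, (μ a : ℂ)) 0 with h0 | h0
    · exact h0
    · exact absurd (Units.ext (mul_eq_right₀ h0 |>.mp e)) hb

theorem conj_hom {A : Type u} [Group A] [Finite A] (μ : A →* ℂˣ) (a : A) : conj (μ a : ℂ) = (μ a⁻¹ : ℂ) :=
  (char_apply_inv (isCharacter_of_irr (isIrrCharacter_linear μ)) a).symm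

theorem orth_hom {A : Type u} [Group A] [Fintype A] (μ ν : A →* ℂˣ) [Decidable (μ = ν)] :
    ∑ a : A, (μ a : ℂ) * conj (ν a : ℂ) = if μ = ν then (Nat.card A : ℂ) else 0 := by
  classical
  have e : ∀ a : A, (μ a : ℂ) * conj (ν a : ℂ) = ((μ * ν⁻¹) a : ℂ) := fun a => by
    rw [conj_hom, map_inv]; simp
  rw [Finset.sum_congr rfl fun a _ => e a, sum_hom_eq]
  exact if_congr ⟨fun h => MonoidHom.ext fun a => mul_inv_eq_one.mp (DFunLike.congr_fun h a),
    fun h => MonoidHom.ext fun a => by simp [h]⟩ rfl rfl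

namespace Four

variable {X : Type u} [Group X] [Fintype X] (D : Four X)

/-- The projection of `O` on `O₀`. -/
noncomputable def pr : D.O →* D.O0 where
  toFun u := ⟨(D.hOK u u.2).choose_spec.2.choose, (D.hOK u u.2).choose_spec.2.choose_spec.1⟩
  map_one' := Subtype.ext (by
    obtain ⟨hk, hw⟩ := (D.hOK ((1 : D.O) : X) (1 : D.O).2).choose_spec
    exact (D.unique_KO hk D.K.one_mem hw.choose_spec.1 D.O0.one_mem
      (hw.choose_spec.2.symm.trans (by simp))).2)
  map_mul' a b := Subtype.ext (by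
    obtain ⟨hk, hw⟩ := (D.hOK ((a * b : D.O) : X) (a * b).2).choose_spec
    obtain ⟨hka, hwa⟩ := (D.hOK (a : X) a.2).choose_spec
    obtain ⟨hkb, hwb⟩ := (D.hOK (b : X) b.2).choose_spec
    obtain ⟨hwa1, hea⟩ := hwa.choose_spec
    obtain ⟨hwb1, heb⟩ := hwb.choose_spec
    obtain ⟨hw1, hew⟩ := hw.choose_spec
    refine (D.unique_KO hk (D.K.mul_mem hka (D.hKnorm _ (D.O0_le hwa1) _ hkb)) hw1
      (D.O0.mul_mem hwa1 hwb1) ?_).2
    rw [← hew, Subgroup.coe_mul]
    nth_rewrite 1 [hea, heb]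
    group)

theorem pr_KO {k w : X} (hk : k ∈ D.K) (hw : w ∈ D.O0) :
    D.pr ⟨k * w, D.O.mul_mem (D.hK hk) (D.O0_le hw)⟩ = ⟨w, hw⟩ := by
  obtain ⟨hk', hw'⟩ := (D.hOK (k * w) (D.O.mul_mem (D.hK hk) (D.O0_le hw))).choose_spec
  exact Subtype.ext (D.unique_KO hk' hk hw'.choose_spec.1 hw hw'.choose_spec.2.symm).2

theorem pr_O0 (w : D.O0) : D.pr ⟨w, D.O0_le w.2⟩ = w := by
  have h := D.pr_KO D.K.one_mem w.2
  simp only [one_mul] at h
  exact h

theorem pr_K {k : X} (hk : k ∈ D.K) : D.pr ⟨k, D.hK hk⟩ = 1 := by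
  have h := D.pr_KO hk D.O0.one_mem
  simp only [mul_one] at h
  exact h

/-- The linear characters of `O` trivial on `K`. -/
noncomputable def lam (μ : D.O0 →* ℂˣ) : IrrCharacter D.O :=
  ⟨fun u => (μ (D.pr u) : ℂ), isIrrCharacter_linear (μ.comp D.pr)⟩

theorem lam_apply (μ : D.O0 →* ℂˣ) (u : D.O) : (D.lam μ : D.O → ℂ) u = (μ (D.pr u) : ℂ) := rfl

theorem lam_injective : Function.Injective D.lam := fun μ ν h => MonoidHom.ext fun w => by
  have := congrFun (congrArg Subtype.val h) ⟨w, D.O0_le w.2⟩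
  rw [D.lam_apply, D.lam_apply, D.pr_O0] at this
  exact Units.ext this

theorem sConj_lam (μ : D.O0 →* ℂˣ) : D.sConj (D.lam μ) = D.lam μ := by
  refine Subtype.ext (funext fun u => ?_)
  show (μ (D.pr (D.sigma u)) : ℂ) = (μ (D.pr u) : ℂ)
  obtain ⟨u, hu⟩ := u
  obtain ⟨k, hk, w, hw, rfl⟩ := D.hOK u hu
  rw [show D.sigma ⟨k * w, hu⟩ = ⟨k⁻¹ * w, D.O.mul_mem (D.O.inv_mem (D.hK hk)) (D.O0_le hw)⟩ from
    Subtype.ext (by show D.s * (k * w) * D.s = _; rw [D.s_conj_mul, D.hKinv k hk, D.s_fix hw]),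
    D.pr_KO (D.K.inv_mem hk) hw, D.pr_KO hk hw]

instance normal_KO : (D.K.subgroupOf D.O).Normal :=
  ⟨fun k hk u => by
    rw [Subgroup.mem_subgroupOf] at hk ⊢
    exact D.hKnorm _ u.2 _ hk⟩

noncomputable instance instFintypeKO : Fintype (D.K.subgroupOf D.O) := Fintype.ofFinite _

/-- A character of `O` trivial on `K` is one of the `lam`. -/
theorem eq_lam_of_kernel (φ : IrrCharacter D.O)
    (hk : ∀ n ∈ D.K.subgroupOf D.O, (φ : D.O → ℂ) n = (φ : D.O → ℂ) 1) : ∃ μ, φ = D.lam μ := by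
  obtain ⟨ψ, hψ, hφψ⟩ := exists_quotient_irr (D.K.subgroupOf D.O) φ.2 hk
  have hcomm : ∀ a b : D.O ⧸ D.K.subgroupOf D.O, a * b = b * a := by
    intro a b
    induction a using QuotientGroup.induction_on with
    | H a =>
      induction b using QuotientGroup.induction_on with
      | H b =>
        rw [← QuotientGroup.mk_mul, ← QuotientGroup.mk_mul, QuotientGroup.eq, Subgroup.mem_subgroupOf]
        obtain ⟨k, hk', w, hw, ea⟩ := D.hOK a a.2
        obtain ⟨k', hk'', w', hw', eb⟩ := D.hOK b b.2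
        have hpr : D.pr ((a * b)⁻¹ * (b * a)) = 1 := by
          simp only [map_mul, map_inv]
          rw [Subtype.ext_iff]
          push_cast
          rw [D.hab _ (D.pr a).2 _ (D.pr b).2]
          group
        obtain ⟨k2, hk2, w2, hw2, e2⟩ := D.hOK _ ((a * b)⁻¹ * (b * a)).2
        have : w2 = 1 := by
          have h := D.pr_KO hk2 hw2
          rw [show (⟨k2 * w2, D.O.mul_mem (D.hK hk2) (D.O0_le hw2)⟩ : D.O) = (a * b)⁻¹ * (b * a) from
            Subtype.ext e2.symm, hpr] at h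
          exact (congrArg Subtype.val h).symm
        rw [this, mul_one] at e2
        rw [e2]; exact hk2
  obtain ⟨f, hf⟩ := exists_hom_of_degree_one (isCharacter_of_irr hψ) (degree_one_of_commutative hcomm hψ)
  refine ⟨(f.comp (QuotientGroup.mk' _)).comp (Subgroup.inclusion D.O0_le), Subtype.ext (funext fun u => ?_)⟩
  rw [hφψ, hf, D.lam_apply]
  show (f (u : D.O ⧸ D.K.subgroupOf D.O) : ℂ) = (f ((Subgroup.inclusion D.O0_le (D.pr u) : D.O) : D.O ⧸ D.K.subgroupOf D.O) : ℂ)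
  congr 2
  rw [QuotientGroup.eq, Subgroup.mem_subgroupOf]
  obtain ⟨u, hu⟩ := u
  obtain ⟨k, hk', w, hw, rfl⟩ := D.hOK u hu
  rw [D.pr_KO hk' hw]
  show (k * w)⁻¹ * w ∈ D.K
  have := D.hKnorm w⁻¹ (D.O.inv_mem (D.O0_le hw)) k⁻¹ (D.K.inv_mem hk')
  rw [inv_inv] at this
  rw [mul_inv_rev]
  exact this

theorem kernel_of_sum (φ : IrrCharacter D.O) (h : ∑ k : D.K.subgroupOf D.O, (φ : D.O → ℂ) k ≠ 0) :
    ∀ n ∈ D.K.subgroupOf D.O, (φ : D.O → ℂ) n = (φ : D.O → ℂ) 1 := by
  classical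
  intro n hn
  have hθ : IsIrrCharacter (D.K.subgroupOf D.O) (fun _ => 1) := isIrrCharacter_one
  have hne : classInner (fun m : D.K.subgroupOf D.O => (φ : D.O → ℂ) m) (fun _ => 1) ≠ 0 := by
    simp only [classInner, map_one, mul_one, ne_eq, mul_eq_zero, inv_eq_zero, Nat.cast_eq_zero]
    rintro (e | e)
    · exact Nat.card_pos.ne' e
    · exact h (by convert e)
  have h1 := clifford_invariant (D.K.subgroupOf D.O) φ.2 hθ hne fun _ => rfl
  have a := congrFun h1 ⟨n, hn⟩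
  have b := congrFun h1 1
  simp only [Pi.smul_apply, smul_eq_mul, mul_one] at a b
  rw [a, ← b]
  rfl

/-- A character of `O` fixed by `s` is one of the `lam`. -/
theorem fixed_eq_lam {φ : IrrCharacter D.O} (h : D.sConj φ = φ) : ∃ μ, φ = D.lam μ := by
  classical
  refine D.eq_lam_of_kernel φ ?_
  let N : Subgroup D.O := D.K.subgroupOf D.O
  letI : Fintype N := D.instFintypeKO
  haveI : N.Normal := D.normal_KO
  obtain ⟨κ, hκ, hκ0⟩ := exists_constituent (isCharacter_restrict (isCharacter_of_irr φ.2) N)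
    (fun e => irr_ne_zero φ.2 (by simpa using congrFun e 1))
  let κ' : N → ℂ := fun m => κ ⟨D.sigma m, by
    have hm := Subgroup.mem_subgroupOf.mp m.2
    rw [Subgroup.mem_subgroupOf]
    show D.s * ((m : D.O) : X) * D.s ∈ D.K
    rw [D.hKinv _ hm]; exact D.K.inv_mem hm⟩
  have hNcomm : ∀ a b : N, a * b = b * a := fun a b =>
    Subtype.ext (Subtype.ext (D.hKcomm _ (Subgroup.mem_subgroupOf.mp a.2) _ (Subgroup.mem_subgroupOf.mp b.2)))
  obtain ⟨f, hf⟩ := exists_hom_of_degree_one (isCharacter_of_irr hκ) (degree_one_of_commutative hNcomm hκ)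
  have hsig : ∀ m : N, κ' m = (f m⁻¹ : ℂ) := by
    intro m
    show κ _ = _
    rw [hf]
    refine congrArg (fun z : N => (f z : ℂ)) (Subtype.ext (Subtype.ext ?_))
    show D.s * ((m : D.O) : X) * D.s = (((m : D.O) : X))⁻¹
    exact D.hKinv _ (Subgroup.mem_subgroupOf.mp m.2)
  have hκ' : IsIrrCharacter N κ' := by
    have : κ' = fun m => ((invMonoidHom.comp f) m : ℂ) := funext fun m => by rw [hsig, map_inv]; rfl
    rw [this]; exact isIrrCharacter_linear _
  have hin : classInner (fun m : N => (φ : D.O → ℂ) m) κ' ≠ 0 := by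
    refine ne_of_eq_of_ne ?_ hκ0
    simp only [classInner]
    congr 1
    let σN : N → N := fun m => ⟨D.sigma m, by
      have hm := Subgroup.mem_subgroupOf.mp m.2
      rw [Subgroup.mem_subgroupOf]
      show D.s * ((m : D.O) : X) * D.s ∈ D.K
      rw [D.hKinv _ hm]; exact D.K.inv_mem hm⟩
    have hinv : ∀ m, σN (σN m) = m := fun m => Subtype.ext (D.sigma_sigma m)
    refine Fintype.sum_equiv ⟨σN, σN, hinv, hinv⟩ _ _ fun m => ?_
    show (φ : D.O → ℂ) m * conj (κ (σN m)) = (φ : D.O → ℂ) (D.sigma m) * conj (κ (σN m))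
    congr 1
    exact (congrFun (congrArg Subtype.val h) (m : D.O)).symm
  obtain ⟨g, hg⟩ := exists_conj_of_constituents N φ.2 hκ hκ' hκ0 hin
  have hconjinv : conjNormFun N g κ' = κ := by
    funext m
    have h1 := congrFun hg ⟨g * (m : D.O)⁻¹ * g⁻¹, (inferInstance : N.Normal).conj_mem _ (N.inv_mem m.2) g⟩
    have h2 := congrFun hg
    show κ' ⟨g * (m : D.O) * g⁻¹, _⟩ = κ m
    rw [hsig]
    have h3 : conjNormFun N g κ m⁻¹ = κ' m⁻¹ := congrFun hg _
    rw [hsig, inv_inv] at h3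
    rw [hf] at h3 ⊢
    show _ = (f m : ℂ)
    rw [← h3]
    show (f _ : ℂ) = (f _ : ℂ)
    refine congrArg (fun z : N => (f z : ℂ)) (Subtype.ext ?_)
    show (g * (m : D.O) * g⁻¹)⁻¹ = g * ((m⁻¹ : N) : D.O) * g⁻¹
    push_cast; group
  have hg2 : g * g ∈ inertia N κ := by
    rw [mem_inertia, conjNormFun_mul, hg, hconjinv]
  have hgI : g ∈ inertia N κ := by
    obtain ⟨m, hm⟩ := D.hodd
    have : g = (g * g) ^ (m + 1) := by
      have h1 : g ^ Nat.card D.O = 1 := pow_card_eq_one'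
      rw [← sq, ← pow_mul, show 2 * (m + 1) = Nat.card D.O + 1 by omega, pow_succ, h1, one_mul]
    rw [this]; exact pow_mem hg2 _
  have heq : κ' = κ := by rw [← hg]; exact (mem_inertia N).mp hgI
  have hone : ∀ m : N, f m = 1 := by
    intro m
    have h1 := congrFun heq m
    rw [hsig, hf] at h1
    have h2 : f m⁻¹ = f m := Units.ext h1
    rw [map_inv] at h2
    have h3 : f m ^ 2 = 1 := by rw [sq]; nth_rewrite 1 [← h2]; rw [inv_mul_cancel]
    have h4 : f m ^ Nat.card N = 1 := by rw [← map_pow, pow_card_eq_one', map_one]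
    have hcop : Nat.Coprime 2 (Nat.card N) := by
      refine Nat.coprime_two_left.mpr (D.hodd.of_dvd_nat ?_)
      exact Subgroup.card_subgroup_dvd_card N
    have h5 := pow_gcd_eq_one.mpr ⟨h3, h4⟩
    rwa [hcop.gcd_eq_one, pow_one] at h5
  refine D.kernel_of_sum φ ?_
  intro e
  apply hκ0
  simp only [classInner]
  have : ∀ m : N, κ m = 1 := fun m => by rw [hf]; simp [hone m]
  simp only [this, map_one, mul_one]
  rw [show ∑ m : N, (φ : D.O → ℂ) m = 0 from by convert e, mul_zero]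

theorem sum_K_eq_zero {φ : IrrCharacter D.O} (h : D.sConj φ ≠ φ) :
    ∑ k : D.K.subgroupOf D.O, (φ : D.O → ℂ) k = 0 := by
  by_contra hc
  obtain ⟨μ, rfl⟩ := D.eq_lam_of_kernel φ (D.kernel_of_sum φ hc)
  exact h (D.sConj_lam μ)

theorem orth_lam (μ ν : D.O0 →* ℂˣ) [Decidable (μ = ν)] :
    ∑ χ : IrrCharacter X, D.c χ (D.lam μ) * D.c χ (D.lam ν) = if μ = ν then 4 else 0 := by
  classical
  rw [D.orth, D.sConj_lam]
  by_cases h : μ = ν
  · subst h; simp
  · have : D.lam ν ≠ D.lam μ := fun e => h (D.lam_injective e).symm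
    simp [h, this]

/-- Conjugation by `y` on `O₀`. -/
def cY : D.O0 →* D.O0 where
  toFun w := ⟨D.y * w * D.y⁻¹, D.y_O0 w.2⟩
  map_one' := Subtype.ext (by simp)
  map_mul' a b := Subtype.ext (by push_cast; group)

theorem cY_three (w : D.O0) : D.cY (D.cY (D.cY w)) = w := Subtype.ext (by
  show D.y * (D.y * (D.y * (w : X) * D.y⁻¹) * D.y⁻¹) * D.y⁻¹ = w
  rw [show D.y * (D.y * (D.y * (w : X) * D.y⁻¹) * D.y⁻¹) * D.y⁻¹ = D.y ^ 3 * w * (D.y ^ 3)⁻¹ by
    rw [pow_succ, pow_two]; group, D.y3 w.2])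

/-- The sums `Σ χ(v w) conj μ(w)` over `O₀`. -/
noncomputable def Q (χ : X → ℂ) (v : X) (μ : D.O0 →* ℂˣ) : ℂ := ∑ w : D.O0, χ (v * w) * conj (μ w : ℂ)

theorem sum_restrict_int (φ : IrrCharacter D.O) (μ : D.O0 →* ℂˣ) :
    IsIntegral ℤ (∑ w : D.O0, (φ : D.O → ℂ) (Subgroup.inclusion D.O0_le w) * conj (μ w : ℂ)) := by
  refine IsIntegral.sum _ fun w _ => (isIntegral_of_char (isCharacter_of_irr φ.2) _).mul ?_
  rw [conj_hom]
  exact isIntegral_of_char (isCharacter_of_irr (isIrrCharacter_linear μ)) w⁻¹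

/-- The parity of the section coefficient is seen on `O₀`. -/
theorem Q_parity (χ : IrrCharacter X) (μ : D.O0 →* ℂˣ) :
    ModTwo (D.Q (χ : X → ℂ) D.t μ) ((Nat.card D.O0 : ℂ) * (D.c χ (D.lam μ) : ℂ)) := by
  classical
  let r : IrrCharacter D.O → ℂ := fun φ =>
    (D.c χ φ : ℂ) * ∑ w : D.O0, (φ : D.O → ℂ) (Subgroup.inclusion D.O0_le w) * conj (μ w : ℂ)
  have hQ : D.Q (χ : X → ℂ) D.t μ = ∑ φ : IrrCharacter D.O, r φ := by
    simp only [r, Finset.mul_sum]
    rw [Finset.sum_comm]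
    refine Finset.sum_congr rfl fun w _ => ?_
    rw [show D.t * (w : X) = D.t * ((Subgroup.inclusion D.O0_le w : D.O) : X) from rfl, D.value,
      Finset.sum_mul]
    exact Finset.sum_congr rfl fun φ _ => by ring
  have hfix : ∑ φ ∈ Finset.univ.filter (fun φ => D.sConj φ = φ), r φ =
      (Nat.card D.O0 : ℂ) * (D.c χ (D.lam μ) : ℂ) := by
    rw [Finset.sum_eq_single (D.lam μ)]
    · simp only [r]
      rw [Finset.sum_congr rfl fun w _ => by
        rw [D.lam_apply, show D.pr (Subgroup.inclusion D.O0_le w) = w from D.pr_O0 w],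
        orth_hom, if_pos rfl]
      ring
    · intro φ hφ hne
      simp only [Finset.mem_filter, Finset.mem_univ, true_and] at hφ
      obtain ⟨ν, rfl⟩ := D.fixed_eq_lam hφ
      simp only [r]
      rw [Finset.sum_congr rfl fun w _ => by
        rw [D.lam_apply, show D.pr (Subgroup.inclusion D.O0_le w) = w from D.pr_O0 w],
        orth_hom, if_neg fun e => hne (by rw [e]), mul_zero]
    · intro h
      simp only [Finset.mem_filter, Finset.mem_univ, true_and] at h
      exact absurd (D.sConj_lam μ) h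
  have hint : ∀ φ, IsIntegral ℤ (r φ) := fun φ => by
    simp only [r]
    exact IsIntegral.mul (_root_.isIntegral_intCast (D.c χ φ)) (D.sum_restrict_int φ μ)
  have hsym : ∀ φ, r (D.sConj φ) = r φ := fun φ => by
      simp only [r, D.c_sConj]
      congr 1
      refine Finset.sum_congr rfl fun w _ => ?_
      show (φ : D.O → ℂ) (D.sigma _) * _ = _
      rw [show D.sigma (Subgroup.inclusion D.O0_le w) = Subgroup.inclusion D.O0_le w from
        Subtype.ext (D.s_fix w.2)]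
  have hmov := modTwo_sum_involution D.sConj D.sConj_sConj r hint hsym
  rw [hQ, ← Finset.sum_filter_add_sum_filter_not Finset.univ (fun φ => D.sConj φ = φ), hfix]
  unfold ModTwo at hmov ⊢
  rw [sub_zero] at hmov
  rw [add_sub_cancel_left]
  exact hmov

theorem Q_s {χ : X → ℂ} (hχ : IsClassFunction X χ) (μ : D.O0 →* ℂˣ) :
    D.Q χ D.s μ = D.Q χ D.t (μ.comp D.cY) := by
  let e : D.O0 ≃ D.O0 := ⟨D.cY, fun w => D.cY (D.cY w), fun w => D.cY_three w, fun w => D.cY_three w⟩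
  refine (Fintype.sum_equiv e _ _ fun w => ?_).symm
  show χ (D.t * w) * conj ((μ (D.cY w) : ℂˣ) : ℂ) = χ (D.s * (D.y * w * D.y⁻¹)) * conj ((μ (D.cY w) : ℂˣ) : ℂ)
  congr 1
  rw [← D.hyt, show D.y * D.t * D.y⁻¹ * (D.y * (w : X) * D.y⁻¹) = D.y * (D.t * w) * D.y⁻¹ by group, hχ]

theorem odd_cancel {n a b : ℤ} (hn : Odd n) (h : (2 : ℤ) ∣ n * a - n * b) : (2 : ℤ) ∣ a - b := by
  rw [← mul_sub] at h
  rcases (Int.prime_two.dvd_mul).mp h with h | h
  · exact absurd (even_iff_two_dvd.mpr h) (Int.not_even_iff_odd.mpr hn)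
  · exact h

theorem odd_O0 : Odd (Nat.card D.O0) :=
  D.hodd.of_dvd_nat (Subgroup.card_dvd_of_le D.O0_le)

/-- The coefficient vectors of `μ` and `μ ∘ y` have the same parity. -/
theorem c_parity (χ : IrrCharacter X) (μ : D.O0 →* ℂˣ) :
    (2 : ℤ) ∣ D.c χ (D.lam (μ.comp D.cY)) - D.c χ (D.lam μ) := by
  have hχ := isCharacter_of_irr χ.2
  have hv : ∀ v : X, v * v = 1 → (∀ w : D.O0, Commute v (w : X)) →
      ModTwo (D.Q (χ : X → ℂ) v μ) (D.Q (χ : X → ℂ) 1 μ) := by
    intro v hv hc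
    refine ModTwo.sum _ _ _ fun w _ => ?_
    rw [one_mul, mul_comm ((χ : X → ℂ) (v * w)), mul_comm ((χ : X → ℂ) (w : X))]
    refine ModTwo.mul_left _ ?_ (modTwo_involution hχ hv (hc w))
    rw [conj_hom]
    exact isIntegral_of_char (isCharacter_of_irr (isIrrCharacter_linear μ)) w⁻¹
  have h1 := hv D.t D.ht2 fun w => (D.O0_t w.2).symm
  have h2 := hv D.s D.hs2 fun w => (D.O0_s w.2).symm
  rw [D.Q_s (isClassFunction_irr χ.2)] at h2
  have h3 := ((D.Q_parity χ (μ.comp D.cY)).symm.trans (h2.trans h1.symm)).trans (D.Q_parity χ μ)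
  rw [show ((Nat.card D.O0 : ℕ) : ℂ) = (((Nat.card D.O0 : ℕ) : ℤ) : ℂ) from (Int.cast_natCast _).symm,
    ← Int.cast_mul, ← Int.cast_mul, modTwo_int] at h3
  exact odd_cancel (by exact_mod_cast D.odd_O0) h3

end Four

end CfsgLib.MinNonCA
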