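import Cfsg.Agent.Lib.MinNonCA.SmallCA
import Cfsg.Agent.Lib.PSL2Subfield
import Cfsg.Agent.Lib.DicksonFull.Main
import Mathlib.FieldTheory.Finite.GaloisField

/-!
The non-solvable groups which are not CA but all of whose proper subgroups are CA.
-/

set_option autoImplicit false
set_option linter.style.haveILetI false
set_option linter.unusedSectionVars false

namespace CfsgLib.MinNonCA

open Matrix

universe u

/-- Recognition of the group. -/
theorem Hyp.exists_psl {G : Type u} [Group G] [Finite G] (h : Hyp G) (hnca : ¬ IsCA G) :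
    ∃ (F : Type) (_ : Field F) (_ : Fintype F), Odd (Fintype.card F) ∧ 5 ≤ Fintype.card F ∧
      ¬ 16 ∣ Fintype.card F ^ 2 - 1 ∧ Nonempty (G ≃* Matrix.ProjectiveSpecialLinearGroup (Fin 2) F) := by
  obtain ⟨L, hLn, q, hC⟩ := h.exists_quasi
  haveI := hLn
  rcases q.cover_or_psl with ⟨F, iF, iF', ⟨C⟩⟩ | ⟨F, iF, iF', ho, h5, h16, ⟨e⟩, hca⟩
  · exact absurd (Cover.isCA_group h q.perfect hC C) hnca
  · have htop : L = ⊤ := by
      by_contra hne
      exact hca (h.sub L hne)
    subst htop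
    exact ⟨F, iF, iF', ho, h5, h16, ⟨Subgroup.topEquiv.symm.trans e⟩⟩

theorem sixteen_dvd_of_square {m : ℕ} (hm : Odd m) : 16 ∣ (m * m) ^ 2 - 1 := by
  obtain ⟨j, rfl⟩ := hm
  obtain ⟨k, hk⟩ := (Nat.even_mul_succ_self j).two_dvd
  have e : (2 * j + 1) * (2 * j + 1) = 8 * k + 1 := by linarith
  rw [e]
  exact ⟨4 * k * k + k, by
    have : (8 * k + 1) ^ 2 = 16 * (4 * k * k + k) + 1 := by ring
    omega⟩

theorem not_sixteen_dvd_pow {c p : ℕ} (hc : c = 3 ∨ c = 5) (hp : Odd p) : ¬ 16 ∣ (c ^ p) ^ 2 - 1 := by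
  obtain ⟨j, rfl⟩ := hp
  intro h
  have e : (c ^ (2 * j + 1)) ^ 2 = c ^ 2 * (c ^ 4) ^ j := by rw [← pow_mul, ← pow_mul, ← pow_add]; ring_nf
  have h1 : (c ^ (2 * j + 1)) ^ 2 % 16 = 9 := by
    rw [e, Nat.mul_mod, Nat.pow_mod (a := c ^ 4)]
    rcases hc with rfl | rfl <;> norm_num
  have h2 : 0 < (c ^ (2 * j + 1)) ^ 2 := by
    rcases hc with rfl | rfl <;> positivity
  omega

theorem not_eight_dvd {F : Type} [Field F] [Fintype F] (hodd : Odd (Fintype.card F))
    (h16 : ¬ 16 ∣ Fintype.card F ^ 2 - 1) :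
    ¬ 8 ∣ Nat.card (Matrix.ProjectiveSpecialLinearGroup (Fin 2) F) := by
  intro h
  apply h16
  have h1 : 16 ∣ Fintype.card F * (Fintype.card F ^ 2 - 1) := by
    rw [← card_PSL_two hodd]
    exact Nat.mul_dvd_mul_left 2 h
  exact (Nat.Coprime.dvd_of_dvd_mul_left (Nat.Coprime.pow_left 4 (Nat.coprime_two_left.mpr hodd)) h1 :)

/-- The arithmetic condition. -/
theorem field_cond {G : Type u} [Group G] [Finite G] (h : Hyp G) (hnca : ¬ IsCA G) {F : Type} [Field F]
    [Fintype F] (hodd : Odd (Fintype.card F)) (h5 : 5 ≤ Fintype.card F) (h16 : ¬ 16 ∣ Fintype.card F ^ 2 - 1)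
    (e : G ≃* Matrix.ProjectiveSpecialLinearGroup (Fin 2) F) :
    ((Fintype.card F).Prime ∧ 5 < Fintype.card F ∧ ¬ 16 ∣ Fintype.card F ^ 2 - 1) ∨
      (∃ p : ℕ, p.Prime ∧ p ≠ 2 ∧ (Fintype.card F = 3 ^ p ∨ Fintype.card F = 5 ^ p)) := by
  classical
  have hnp : ¬ IsCA (Matrix.ProjectiveSpecialLinearGroup (Fin 2) F) :=
    fun hc => hnca (isCA_of_hom e.toMonoidHom e.injective hc)
  have hsub : ∀ H : Subgroup (Matrix.ProjectiveSpecialLinearGroup (Fin 2) F), H ≠ ⊤ → IsCA H := by
    intro H hH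
    have hne : H.map e.symm.toMonoidHom ≠ ⊤ := by
      intro eK
      apply hH
      rw [eq_top_iff]
      intro a _
      obtain ⟨b, hb, hba⟩ := (eK ▸ Subgroup.mem_top (e.symm a) : e.symm a ∈ H.map e.symm.toMonoidHom)
      rwa [← e.symm.injective hba]
    exact isCA_of_hom (H.equivMapOfInjective e.symm.toMonoidHom e.symm.injective).toMonoidHom
      (H.equivMapOfInjective e.symm.toMonoidHom e.symm.injective).injective (h.sub _ hne)
  obtain ⟨p, -, ⟨a, ha0⟩, hp, hpa⟩ := FiniteField.card' F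
  change Fintype.card F = p ^ a at hpa
  have hp2 : p ≠ 2 := by
    rintro rfl
    rw [hpa, Nat.odd_pow_iff (by omega)] at hodd
    exact absurd hodd (by decide)
  have haodd : Odd a := by
    rcases Nat.even_or_odd a with ⟨b, hb⟩ | ho
    · exfalso
      apply h16
      rw [hpa, hb, pow_add]
      exact sixteen_dvd_of_square ((hp.odd_of_ne_two hp2).pow)
    · exact ho
  -- proper subfields are small
  have hsmall : ∀ r, r.Prime → r ∣ a → p ^ (a / r) ≤ 5 := by
    intro r hr hra
    by_contra hgt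
    push Not at hgt
    obtain ⟨b, rfl⟩ := hra
    rw [Nat.mul_div_cancel_left _ hr.pos] at hgt
    have hb : b ≠ 0 := fun e => by rw [e, mul_zero] at ha0; omega
    haveI : Fact p.Prime := ⟨hp⟩
    letI : Fintype (GaloisField p b) := Fintype.ofFinite _
    have hK : Fintype.card (GaloisField p b) = p ^ b := by
      rw [← Nat.card_eq_fintype_card, GaloisField.card p b hb]
    obtain ⟨H, ⟨eH⟩⟩ := CfsgLib.PSL2Subfield.exists_sub (F := F) (K := GaloisField p b) r hr.one_le
      (by rw [hK, hpa, ← pow_mul, mul_comm])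
    have hKodd : Odd (Fintype.card (GaloisField p b)) := by rw [hK]; exact (hp.odd_of_ne_two hp2).pow
    have hHne : H ≠ ⊤ := by
      rintro rfl
      have h1 := card_PSL_two (F := F) hodd
      have h2 := card_PSL_two (F := GaloisField p b) hKodd
      rw [← Nat.card_congr eH.toEquiv, Subgroup.card_top, h1] at h2
      have hlt : p ^ b < Fintype.card F := by
        rw [hpa]
        exact Nat.pow_lt_pow_right hp.one_lt (lt_mul_of_one_lt_left (by omega) hr.one_lt)
      rw [hK] at h2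
      have h7 : 1 ≤ (p ^ b) ^ 2 := Nat.one_le_pow _ _ (by omega)
      have hsq : (p ^ b) ^ 2 < Fintype.card F ^ 2 := Nat.pow_lt_pow_left hlt two_ne_zero
      have hlt' : p ^ b * ((p ^ b) ^ 2 - 1) < Fintype.card F * (Fintype.card F ^ 2 - 1) :=
        Nat.mul_lt_mul_of_lt_of_lt hlt (by omega)
      omega
    refine not_isCA_psl hKodd ?_ (isCA_of_hom eH.symm.toMonoidHom eH.symm.injective (hsub H hHne))
    obtain ⟨j, hj⟩ := hKodd
    omega
  rcases eq_or_ne a 1 with rfl | ha1
  · left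
    rw [pow_one] at hpa
    refine ⟨hpa ▸ hp, ?_, h16⟩
    by_contra hle
    exact hnp (isCA_psl_small (Or.inr (by omega)))
  · right
    obtain ⟨r, hr, hra⟩ := Nat.exists_prime_and_dvd ha1
    have h5' := hsmall r hr hra
    obtain ⟨b, rfl⟩ := hra
    rw [Nat.mul_div_cancel_left _ hr.pos] at h5'
    have hb : 0 < b := pos_of_mul_pos_right ha0 (Nat.zero_le r)
    have hp3 : 3 ≤ p := by have := hp.two_le; omega
    have hb1 : b = 1 := by
      by_contra hne
      have : p ^ 2 ≤ p ^ b := Nat.pow_le_pow_right hp.pos (by omega)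
      have : 3 * 3 ≤ p ^ 2 := by rw [pow_two]; exact Nat.mul_le_mul hp3 hp3
      omega
    subst hb1
    rw [pow_one] at h5'
    rw [mul_one] at hpa haodd
    refine ⟨r, hr, fun e => absurd (e ▸ haodd) (by decide), ?_⟩
    interval_cases p
    · exact Or.inl hpa
    · exact absurd hp (by norm_num)
    · exact Or.inr hpa

theorem card_pgl {K : Type} [Field K] [Fintype K] :
    Nat.card (Matrix.ProjGenLinGroup (Fin 2) K) = Fintype.card K * (Fintype.card K ^ 2 - 1) := by
  rw [CfsgLib.SLCard.card_PGL, CfsgLib.SLCard.card_SL_two]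

/-- The converse. -/
theorem psl_converse {F : Type} [Field F] [Fintype F] (h7 : 7 ≤ Fintype.card F) (hodd : Odd (Fintype.card F))
    (h16 : ¬ 16 ∣ Fintype.card F ^ 2 - 1)
    (hsubf : ∀ k m : ℕ, 1 < k → k ^ m = Fintype.card F → m = 1 ∨ k = 3 ∨ k = 5) :
    Hyp (Matrix.ProjectiveSpecialLinearGroup (Fin 2) F) ∧ ¬ IsCA (Matrix.ProjectiveSpecialLinearGroup (Fin 2) F) := by
  classical
  haveI : Finite (Matrix.ProjectiveSpecialLinearGroup (Fin 2) F) := Quotient.finite _
  have h2 : (2 : F) ≠ 0 := by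
    intro h2
    haveI : CharP F 2 := CharTwo.of_one_ne_zero_of_two_eq_zero one_ne_zero h2
    obtain ⟨k, -, hk⟩ := FiniteField.card F 2
    exact absurd (hk ▸ hodd) (Nat.not_odd_iff_even.mpr (Nat.even_pow.mpr ⟨by decide, k.ne_zero⟩))
  have hnca := not_isCA_psl (F := F) hodd h7
  refine ⟨⟨fun hs => ?_, fun H hH => ?_⟩, hnca⟩
  · haveI : IsSimpleGroup (Matrix.ProjectiveSpecialLinearGroup (Fin 2) F) :=
      Matrix.ProjectiveSpecialLinearGroup.rank_two_simple (by rw [Nat.card_eq_fintype_card]; omega)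
    exact hnca (isCA_of_commutative (IsSimpleGroup.comm_iff_isSolvable.mpr hs))
  · obtain ⟨p, hchar⟩ := CharP.exists F
    haveI := hchar
    haveI : Fact p.Prime := ⟨CharP.char_is_prime F p⟩
    have hno : ∀ n, 8 ∣ n → Nat.card H ≠ n := fun n hn e =>
      not_eight_dvd hodd h16 (hn.trans (e ▸ H.card_subgroup_dvd_card))
    rcases CfsgLib.DicksonFull.classification p H with ⟨k, -, ⟨hc, -⟩ | ⟨⟨e⟩⟩⟩ | ⟨P, K, hK, ⟨e⟩⟩ | ⟨⟨e⟩⟩ | ⟨⟨e⟩⟩ |
      ⟨⟨e⟩⟩ | ⟨K, iK, iK', m, hm, hiso⟩
    · haveI := hc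
      exact isCA_of_commutative fun a b => mul_comm' a b
    · exact isCA_of_hom e.toMonoidHom e.injective (isCA_dihedral k)
    · exact isCA_of_hom e.toMonoidHom e.injective (isCA_sylow_normalizer h2 P K hK)
    · exact isCA_of_hom e.toMonoidHom e.injective isCA_a4
    · exfalso
      refine hno 24 (by norm_num) ?_
      rw [Nat.card_congr e.toEquiv, Nat.card_perm, Nat.card_eq_fintype_card, Fintype.card_fin]
      rfl
    · exact isCA_of_hom e.toMonoidHom e.injective isCA_a5
    · rcases hsubf (Fintype.card K) m Fintype.one_lt_card hm with rfl | h35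
      · exfalso
        rw [pow_one] at hm
        rcases hiso with ⟨⟨e⟩⟩ | ⟨⟨e⟩⟩
        · refine hH (Subgroup.eq_top_of_card_eq H ?_)
          rw [Nat.card_congr e.toEquiv]
          refine Nat.eq_of_mul_eq_mul_left two_pos ?_
          rw [card_PSL_two (by rw [hm]; exact hodd), card_PSL_two hodd, hm]
        · have hle := Subgroup.card_le_card_group H
          rw [Nat.card_congr e.toEquiv, card_pgl, hm, ← card_PSL_two hodd] at hle
          have : 0 < Nat.card (Matrix.ProjectiveSpecialLinearGroup (Fin 2) F) := Nat.card_pos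
          omega
      · rcases hiso with ⟨⟨e⟩⟩ | ⟨⟨e⟩⟩
        · exact isCA_of_hom e.toMonoidHom e.injective (isCA_psl_small h35)
        · exfalso
          refine hno _ ?_ (Nat.card_congr e.toEquiv)
          rw [card_pgl]
          rcases h35 with h | h <;> rw [h] <;> norm_num

theorem iff_psl {G : Type u} [Group G] [Finite G] :
    (¬ Group.IsSolvable G ∧ ¬ IsCA G ∧ ∀ H : Subgroup G, H ≠ ⊤ → IsCA H) ↔
      ∃ (F : Type) (_ : Field F) (_ : Fintype F), Nonempty (G ≃* Matrix.ProjectiveSpecialLinearGroup (Fin 2) F) ∧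
        (((Fintype.card F).Prime ∧ 5 < Fintype.card F ∧ ¬ 16 ∣ Fintype.card F ^ 2 - 1) ∨
         (∃ p : ℕ, p.Prime ∧ p ≠ 2 ∧ (Fintype.card F = 3 ^ p ∨ Fintype.card F = 5 ^ p))) := by
  constructor
  · rintro ⟨hns, hnca, hsub⟩
    obtain ⟨F, iF, iF', ho, h5, h16, ⟨e⟩⟩ := Hyp.exists_psl ⟨hns, hsub⟩ hnca
    exact ⟨F, iF, iF', ⟨e⟩, field_cond ⟨hns, hsub⟩ hnca ho h5 h16 e⟩
  · rintro ⟨F, iF, iF', ⟨e⟩, hq⟩
    have hfacts : 7 ≤ Fintype.card F ∧ Odd (Fintype.card F) ∧ ¬ 16 ∣ Fintype.card F ^ 2 - 1 ∧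
        ∀ k m : ℕ, 1 < k → k ^ m = Fintype.card F → m = 1 ∨ k = 3 ∨ k = 5 := by
      rcases hq with ⟨hp, h5, h16⟩ | ⟨p, hp, hp2, hcase⟩
      · have ho := hp.odd_of_ne_two (by omega)
        refine ⟨?_, ho, h16, fun k m _ hkm => Or.inl (hp.pow_eq_iff.mp hkm).2⟩
        obtain ⟨j, hj⟩ := ho
        omega
      · have hpo := hp.odd_of_ne_two hp2
        obtain ⟨c, hc, hq⟩ : ∃ c, (c = 3 ∨ c = 5) ∧ Fintype.card F = c ^ p := by
          rcases hcase with h | h
          exacts [⟨3, Or.inl rfl, h⟩, ⟨5, Or.inr rfl, h⟩]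
        have hcp : c.Prime := by rcases hc with rfl | rfl <;> norm_num
        rw [hq]
        refine ⟨?_, Odd.pow (by rcases hc with rfl | rfl <;> decide), not_sixteen_dvd_pow hc hpo, ?_⟩
        · have h3 : 3 ≤ p := by have := hp.two_le; omega
          calc 7 ≤ 3 ^ 3 := by norm_num
            _ ≤ c ^ 3 := Nat.pow_le_pow_left (by omega) 3
            _ ≤ c ^ p := Nat.pow_le_pow_right (by omega) h3
        · intro k m hk hkm
          rcases eq_or_ne m 1 with hm1 | hm1
          · exact Or.inl hm1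
          right
          have hm0 : m ≠ 0 := by
            rintro rfl
            have : 1 < c ^ p := Nat.one_lt_pow hp.ne_zero hcp.one_lt
            rw [pow_zero] at hkm
            omega
          obtain ⟨i, -, rfl⟩ := (Nat.dvd_prime_pow hcp).mp (hkm ▸ dvd_pow_self k hm0)
          rw [← pow_mul] at hkm
          have him : i * m = p := Nat.pow_right_injective hcp.two_le hkm
          have hmp : m = p := ((Nat.dvd_prime hp).mp ⟨i, by rw [← him, mul_comm]⟩).resolve_left hm1
          rw [hmp, Nat.mul_eq_right hp.ne_zero] at him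
          rw [him, pow_one]
          exact hc
    obtain ⟨h7, ho, h16, hsubf⟩ := hfacts
    obtain ⟨hy, hn⟩ := psl_converse h7 ho h16 hsubf
    refine ⟨fun hs => hy.nonsolv ?_, fun hc => hn (isCA_of_hom e.symm.toMonoidHom e.symm.injective hc), ?_⟩
    · haveI := hs
      exact Group.isSolvable_of_isSolvable_injective (f := e.symm.toMonoidHom) e.symm.injective
    · intro H hH
      have hne : H.map e.toMonoidHom ≠ ⊤ := by
        intro eK
        apply hH
        rw [eq_top_iff]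
        intro a _
        obtain ⟨b, hb, hba⟩ := (eK ▸ Subgroup.mem_top (e a) : e a ∈ H.map e.toMonoidHom)
        rwa [← e.injective hba]
      exact isCA_of_hom (H.equivMapOfInjective e.toMonoidHom e.injective).toMonoidHom
        (H.equivMapOfInjective e.toMonoidHom e.injective).injective (hy.sub _ hne)

end CfsgLib.MinNonCA
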