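import Cfsg.Agent.Lib.MinNonCA.Radical
import Cfsg.Agent.Lib.ZStar.Powers

/-!
Perfect groups with all proper subgroups CA: centralisers.
-/

set_option autoImplicit false
set_option linter.style.haveILetI false
set_option linter.unusedSectionVars false

namespace CfsgLib.MinNonCA

open Subgroup

universe u

variable {G : Type u} [Group G] [Finite G]

/-- A quotient by a non-solvable normal subgroup is solvable. -/
theorem Hyp.quotient_solvable (h : Hyp G) {K : Subgroup G} [hKn : K.Normal] (hK : ¬ Group.IsSolvable K) :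
    Group.IsSolvable (G ⧸ K) := by
  haveI : Fact (Nat.Prime 2) := ⟨Nat.prime_two⟩
  obtain ⟨S⟩ : Nonempty (Sylow 2 K) := inferInstance
  set S0 := (S : Subgroup K).map K.subtype with hS0
  set N := Subgroup.normalizer (S0 : Set G)
  have htop : N ⊔ K = ⊤ := S.normalizer_sup_eq_top
  by_cases hN : Group.IsSolvable N
  · haveI := hN
    refine Group.isSolvable_of_surjective (f := (QuotientGroup.mk' K).comp N.subtype) fun x => ?_
    obtain ⟨g, rfl⟩ := QuotientGroup.mk'_surjective K x
    obtain ⟨n, hn, k, hk, rfl⟩ := Subgroup.mem_sup_of_normal_right.mp (htop ▸ Subgroup.mem_top g : g ∈ N ⊔ K)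
    refine ⟨⟨n, hn⟩, ?_⟩
    show QuotientGroup.mk' K n = _
    rw [map_mul, show QuotientGroup.mk' K k = 1 from (QuotientGroup.eq_one_iff k).mpr hk, mul_one]
  · exfalso
    have hS0le : S0 ≤ N := Subgroup.le_normalizer
    haveI hn' : (S0.subgroupOf N).Normal := Subgroup.normal_in_normalizer
    have hs' : Group.IsSolvable (S0.subgroupOf N) := by
      haveI := isSolvable_of_isPGroup (S.2.map K.subtype)
      exact Group.isSolvable_of_isSolvable_injective (f := (Subgroup.subgroupOfEquivOfLe hS0le).toMonoidHom)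
        (Subgroup.subgroupOfEquivOfLe hS0le).injective
    have hcen := (h.subgroup hN).solvable_normal_le_center _ hn' hs'
    apply hK
    have hNC : Subgroup.normalizer ((S : Subgroup K) : Set K) ≤ Subgroup.centralizer ((S : Subgroup K) : Set K) := by
      intro n hn
      rw [Subgroup.mem_centralizer_iff]
      intro s hs
      have hnN : (n : G) ∈ N := mem_normalizer_of_conj (by
        rintro _ ⟨x, hx, rfl⟩
        exact ⟨n * x * n⁻¹, (Subgroup.mem_normalizer_iff.mp hn x).mp hx, rfl⟩)
      have hsS : (s : G) ∈ S0 := ⟨s, hs, rfl⟩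
      have := congrArg Subtype.val (Subgroup.mem_center_iff.mp
        (hcen (show (⟨(s : G), hS0le hsS⟩ : N) ∈ S0.subgroupOf N from hsS)) ⟨(n : G), hnN⟩)
      exact Subtype.ext this.symm
    have hodd : Odd (Nat.card (MonoidHom.transferSylow S hNC).ker) := by
      rw [← Nat.not_even_iff_odd, even_iff_two_dvd]
      exact MonoidHom.not_dvd_card_ker_transferSylow S hNC
    haveI := CfsgLib.OddOrder.feitThompson hodd
    haveI := isSolvable_of_isPGroup S.2
    exact Group.isSolvable_of_ker_le_range (Subgroup.subtype (MonoidHom.transferSylow S hNC).ker)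
      (MonoidHom.transferSylow S hNC) (by rw [Subgroup.range_subtype])

/-- A perfect group with all proper subgroups CA. -/
structure Quasi (L : Type u) [Group L] : Prop where
  hyp : Hyp L
  perfect : commutator L = ⊤

/-- There is a perfect normal subgroup with central centraliser. -/
theorem Hyp.exists_quasi (h : Hyp G) : ∃ L : Subgroup G, L.Normal ∧ Quasi L ∧
    Subgroup.centralizer (L : Set G) ≤ Subgroup.center G := by
  classical
  obtain ⟨L, ⟨hLn, hLns⟩, hmin⟩ := Finset.exists_min_image
    ((Finset.univ : Finset (Finset.range (Nat.card G + 1))).image fun n => n.1)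
    (fun n => if ∃ K : Subgroup G, K.Normal ∧ ¬ Group.IsSolvable K ∧ Nat.card K = n then n else Nat.card G + 1)
    ⟨0, by simp⟩ |>.elim fun n hn => by
      obtain ⟨hnmem, hnmin⟩ := hn
      have htop : ∃ K : Subgroup G, K.Normal ∧ ¬ Group.IsSolvable K ∧ Nat.card K = Nat.card G :=
        ⟨⊤, inferInstance, fun hs => ne_top_of_solvable h.nonsolv hs rfl, Subgroup.card_top⟩
      have hmemG : Nat.card G ∈ ((Finset.univ : Finset (Finset.range (Nat.card G + 1))).image fun n => n.1) :=
        Finset.mem_image.mpr ⟨⟨Nat.card G, by simp⟩, Finset.mem_univ _, rfl⟩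
      have h1 := hnmin _ hmemG
      rw [if_pos htop] at h1
      by_cases hex : ∃ K : Subgroup G, K.Normal ∧ ¬ Group.IsSolvable K ∧ Nat.card K = n
      · obtain ⟨K, hK1, hK2, hK3⟩ := hex
        refine (⟨K, ⟨hK1, hK2⟩, fun K' hK1' hK2' => ?_⟩ : ∃ L : Subgroup G, (L.Normal ∧ ¬ Group.IsSolvable L) ∧
          ∀ K' : Subgroup G, K'.Normal → ¬ Group.IsSolvable K' → Nat.card L ≤ Nat.card K')
        have hmem' : Nat.card K' ∈ ((Finset.univ : Finset (Finset.range (Nat.card G + 1))).image fun n => n.1) :=
          Finset.mem_image.mpr ⟨⟨Nat.card K', by simp; exact Subgroup.card_le_card_group K'⟩, Finset.mem_univ _, rfl⟩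
        have h2 := hnmin _ hmem'
        rw [if_pos ⟨K, hK1, hK2, hK3⟩, if_pos ⟨K', hK1', hK2', rfl⟩] at h2
        rw [hK3]; exact h2
      · rw [if_neg hex] at h1; omega
  haveI := hLn
  have hder : ⁅L, L⁆ = L := by
    by_contra hne
    have hle : ⁅L, L⁆ ≤ L := L.commutator_le_self
    by_cases hs : Group.IsSolvable (⁅L, L⁆ : Subgroup G)
    · apply hLns
      refine isSolvable_of_hom (QuotientGroup.mk' (⁅L, L⁆.subgroupOf L)) ?_ ?_
      · rw [QuotientGroup.ker_mk']
        haveI := hs
        exact Group.isSolvable_of_isSolvable_injective (f := (Subgroup.subgroupOfEquivOfLe hle).toMonoidHom)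
          (Subgroup.subgroupOfEquivOfLe hle).injective
      · refine Group.isSolvable_of_comm ?_
        rintro ⟨_, a, rfl⟩ ⟨_, b, rfl⟩
        refine Subtype.ext ?_
        show QuotientGroup.mk' _ a * QuotientGroup.mk' _ b = QuotientGroup.mk' _ b * QuotientGroup.mk' _ a
        rw [← map_mul, ← map_mul, QuotientGroup.mk'_eq_mk']
        refine ⟨(a * b)⁻¹ * (b * a), ?_, by group⟩
        rw [Subgroup.mem_subgroupOf]
        have := Subgroup.commutator_mem_commutator (L.inv_mem b.2) (L.inv_mem a.2)
        simpa [commutatorElement_def, mul_assoc] using this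
    · exact hne (Subgroup.eq_of_le_of_card_ge hle (hmin _ inferInstance hs))
  have hperf : commutator L = ⊤ := by
    apply Subgroup.map_injective L.subtype_injective
    rw [L.map_subtype_commutator, hder, ← MonoidHom.range_eq_map, Subgroup.range_subtype]
  refine ⟨L, hLn, ⟨h.subgroup hLns, hperf⟩, ?_⟩
  refine h.solvable_normal_le_center _ inferInstance ?_
  by_contra hC
  haveI := h.quotient_solvable (K := Subgroup.centralizer (L : Set G)) hC
  apply hLns
  refine Group.isSolvable_of_comm fun a b => ?_
  have hLC : L ≤ Subgroup.centralizer (L : Set G) := by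
    set f := (QuotientGroup.mk' (Subgroup.centralizer (L : Set G))).comp L.subtype
    have hrange : Group.IsSolvable f.range := inferInstance
    intro x hx
    by_contra hxC
    haveI : Nontrivial f.range := ⟨⟨f ⟨x, hx⟩, ⟨_, rfl⟩⟩, 1, fun e =>
      hxC ((QuotientGroup.eq_one_iff x).mp (congrArg Subtype.val e))⟩
    refine (Group.IsSolvable.commutator_lt_top_of_nontrivial f.range).ne ?_
    apply Subgroup.map_injective f.range.subtype_injective
    rw [f.range.map_subtype_commutator, ← MonoidHom.range_eq_map f.range.subtype, Subgroup.range_subtype,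
      MonoidHom.range_eq_map, ← Subgroup.map_commutator]
    exact congrArg (Subgroup.map f) hperf
  exact Subtype.ext (Subgroup.mem_centralizer_iff.mp (hLC b.2) a a.2)

namespace Quasi

variable {L : Type u} [Group L] [Finite L] (q : Quasi L)
include q

theorem normal_cases (N : Subgroup L) [N.Normal] : N = ⊤ ∨ N ≤ Subgroup.center L := by
  by_cases hN : Group.IsSolvable N
  · exact Or.inr (q.hyp.solvable_normal_le_center N inferInstance hN)
  · left
    haveI := q.hyp.quotient_solvable hN
    by_contra hne
    haveI : Nontrivial (L ⧸ N) := QuotientGroup.nontrivial_iff.mpr hne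
    refine (Group.IsSolvable.commutator_lt_top_of_nontrivial (L ⧸ N)).ne ?_
    rw [commutator_def, ← Subgroup.map_top_of_surjective (QuotientGroup.mk' N) (QuotientGroup.mk'_surjective N),
      ← Subgroup.map_commutator, ← commutator_def, q.perfect]

theorem center_ne_top : Subgroup.center L ≠ ⊤ := fun e => q.hyp.nonsolv (Group.isSolvable_of_comm fun a b =>
  (Subgroup.mem_center_iff.mp (e ▸ Subgroup.mem_top b : b ∈ Subgroup.center L) a))

theorem odd_normal_le (N : Subgroup L) [N.Normal] (hN : Odd (Nat.card N)) : N ≤ Subgroup.center L :=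
  q.hyp.solvable_normal_le_center N inferInstance (CfsgLib.OddOrder.feitThompson hN)

theorem simple : IsSimpleGroup (L ⧸ Subgroup.center L) := by
  haveI : Nontrivial (L ⧸ Subgroup.center L) := QuotientGroup.nontrivial_iff.mpr q.center_ne_top
  refine ⟨fun N hN => ?_⟩
  haveI := hN
  rcases q.normal_cases (N.comap (QuotientGroup.mk' (Subgroup.center L))) with e | e
  · right
    rw [← Subgroup.map_comap_eq_self_of_surjective (QuotientGroup.mk'_surjective _) N, e,
      Subgroup.map_top_of_surjective _ (QuotientGroup.mk'_surjective _)]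
  · left
    rw [← Subgroup.map_comap_eq_self_of_surjective (QuotientGroup.mk'_surjective _) N, eq_bot_iff]
    refine (Subgroup.map_mono e).trans ?_
    rw [QuotientGroup.map_mk'_self]

/-- An element central modulo the centre is central. -/
theorem mem_center_of_mod {x : L} (h : ∀ g : L, g * x * g⁻¹ * x⁻¹ ∈ Subgroup.center L) : x ∈ Subgroup.center L := by
  haveI : Group.IsPerfect L := ⟨q.perfect⟩
  have hz : ((x : L) : L ⧸ Subgroup.center L) ∈ Subgroup.center (L ⧸ Subgroup.center L) := by
    rw [Subgroup.mem_center_iff]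
    intro y
    obtain ⟨g, rfl⟩ := QuotientGroup.mk_surjective y
    have e := (QuotientGroup.eq_one_iff _).mpr (h g)
    simp only [QuotientGroup.mk_mul, QuotientGroup.mk_inv] at e
    exact mul_inv_eq_iff_eq_mul.mp (mul_inv_eq_one.mp e)
  rwa [Group.IsPerfect.center_quotient_center_eq_bot, Subgroup.mem_bot, QuotientGroup.eq_one_iff] at hz

theorem cent_ne_top {x : L} (hx : x ∉ Subgroup.center L) : Subgroup.centralizer ({x} : Set L) ≠ ⊤ := fun e =>
  hx (Subgroup.mem_center_iff.mpr fun g => Subgroup.mem_centralizer_singleton_iff.mp (e ▸ Subgroup.mem_top g))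

/-- A non-abelian centraliser is a maximal CA subgroup. -/
theorem cent_eq {x a b : L} (ha : a * x = x * a) (hb : b * x = x * b) (hab : a * b ≠ b * a) {H : Subgroup L}
    (hH : H ≠ ⊤) (hle : Subgroup.centralizer ({x} : Set L) ≤ H) : H = Subgroup.centralizer ({x} : Set L) :=
  le_antisymm (fun g hg => Subgroup.mem_centralizer_singleton_iff.mpr (q.hyp.move hH
    (hle (Subgroup.mem_centralizer_singleton_iff.mpr rfl)) (hle (Subgroup.mem_centralizer_singleton_iff.mpr ha))
    (hle (Subgroup.mem_centralizer_singleton_iff.mpr hb)) ha hb hab g hg)) hle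

/-- An element commuting with two non-commuting elements of a centraliser is central there. -/
theorem cent_le {x y a b : L} (hx : x ∉ Subgroup.center L) (ha : a * x = x * a) (hb : b * x = x * b)
    (hy : y * x = x * y) (hay : a * y = y * a) (hby : b * y = y * b) (hab : a * b ≠ b * a) :
    Subgroup.centralizer ({x} : Set L) ≤ Subgroup.centralizer ({y} : Set L) := fun g hg =>
  Subgroup.mem_centralizer_singleton_iff.mpr (q.hyp.move (q.cent_ne_top hx)
    (Subgroup.mem_centralizer_singleton_iff.mpr hy) (Subgroup.mem_centralizer_singleton_iff.mpr ha)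
    (Subgroup.mem_centralizer_singleton_iff.mpr hb) hay hby hab g hg)

/-- A non-abelian centraliser is self-normalising. -/
theorem cent_self_normalizing {x a b g : L} (hx : x ∉ Subgroup.center L) (ha : a * x = x * a) (hb : b * x = x * b)
    (hab : a * b ≠ b * a)
    (hg : ∀ c : L, c * x = x * c → (g * c * g⁻¹) * x = x * (g * c * g⁻¹)) : g * x = x * g := by
  set C := Subgroup.centralizer ({x} : Set L) with hC
  have hgN : g ∈ Subgroup.normalizer (C : Set L) := mem_normalizer_of_conj fun c hc =>
    Subgroup.mem_centralizer_singleton_iff.mpr (hg c (Subgroup.mem_centralizer_singleton_iff.mp hc))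
  by_cases htop : Subgroup.normalizer (C : Set L) = ⊤
  · exfalso
    haveI : C.Normal := Subgroup.normalizer_eq_top_iff.mp htop
    rcases q.normal_cases C with e | e
    · exact q.cent_ne_top hx e
    · exact hab (Subgroup.mem_center_iff.mp (e (Subgroup.mem_centralizer_singleton_iff.mpr ha)) b).symm
  · exact Subgroup.mem_centralizer_singleton_iff.mp (q.cent_eq ha hb hab htop Subgroup.le_normalizer ▸ hgN)

theorem cent_conj_eq {x : L} {g : L} {z : L} (hz : z ∈ Subgroup.center L) (h : g * x * g⁻¹ = x⁻¹ * z) :
    ∀ c : L, c * x = x * c → (g * c * g⁻¹) * x = x * (g * c * g⁻¹) := by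
  intro c hc
  have h1 : Commute (g * c * g⁻¹) (g * x * g⁻¹) := by
    show g * c * g⁻¹ * (g * x * g⁻¹) = g * x * g⁻¹ * (g * c * g⁻¹)
    rw [show g * c * g⁻¹ * (g * x * g⁻¹) = g * (c * x) * g⁻¹ by group, hc]; group
  rw [h] at h1
  have h2 := h1.mul_right (show Commute (g * c * g⁻¹) z from Subgroup.mem_center_iff.mp hz _).inv_right
  rw [mul_inv_cancel_right] at h2
  simpa using h2.inv_right.eq

/-- Real elements have abelian centralisers. -/
theorem abelian_of_real {x g z a b : L} (hx : x ∉ Subgroup.center L) (hz : z ∈ Subgroup.center L)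
    (h : g * x * g⁻¹ = x⁻¹ * z) (hgx : g * x ≠ x * g) (ha : a * x = x * a) (hb : b * x = x * b) :
    a * b = b * a := by
  by_contra hab
  exact hgx (q.cent_self_normalizing hx ha hb hab (q.cent_conj_eq hz h))

/-- Moved elements have abelian centralisers. -/
theorem abelian_of_moved {x g a b : L} (hmod : g * x * g⁻¹ * x⁻¹ ∈ Subgroup.center L) (hgx : g * x ≠ x * g)
    (ha : a * x = x * a) (hb : b * x = x * b) : a * b = b * a := by
  by_contra hab
  have hx : x ∉ Subgroup.center L := fun hc => hgx (Subgroup.mem_center_iff.mp hc g)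
  apply hgx
  refine q.cent_self_normalizing hx ha hb hab fun c hc => ?_
  have hz := Subgroup.mem_center_iff.mp hmod
  have h1 : Commute (g * c * g⁻¹) (g * x * g⁻¹) := by
    show g * c * g⁻¹ * (g * x * g⁻¹) = g * x * g⁻¹ * (g * c * g⁻¹)
    rw [show g * c * g⁻¹ * (g * x * g⁻¹) = g * (c * x) * g⁻¹ by group, hc]; group
  have h2 : Commute (g * c * g⁻¹) (g * x * g⁻¹ * x⁻¹) := hz _
  have h3 := h2.inv_right.mul_right h1
  rw [show (g * x * g⁻¹ * x⁻¹)⁻¹ * (g * x * g⁻¹) = x by group] at h3
  exact h3.eq

/-- Weakly closed elements of a Sylow 2-subgroup are central. -/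
theorem central_of_weaklyClosed (S : Sylow 2 L) {z : L} (hz : z ∈ S)
    (h : ∀ (i : ℕ) (g : L), g * z ^ i * g⁻¹ ∈ S → g * z ^ i * g⁻¹ = z ^ i) : z ∈ Subgroup.center L := by
  haveI : Fact (Nat.Prime 2) := ⟨Nat.prime_two⟩
  have hstar := CfsgLib.ZStar.inZStar_of_powers _ L rfl S z hz h
  refine q.mem_center_of_mod fun g => q.odd_normal_le (Cfsg.pPrimeCore 2 L) ?_ (hstar g)
  rw [← Nat.not_even_iff_odd, even_iff_two_dvd]
  exact Nat.prime_two.coprime_iff_not_dvd.mp (CfsgLib.card_pPrimeCore_coprime 2).symm

end Quasi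

end CfsgLib.MinNonCA
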