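import Cfsg.Agent.Lib.MinNonCA.Basic

/-!
In a non-solvable group with all proper subgroups CA, the solvable normal subgroups are central.
-/

set_option autoImplicit false
set_option linter.style.haveILetI false
set_option linter.unusedSectionVars false

namespace CfsgLib.MinNonCA

open Subgroup
open scoped commutatorElement

universe u

variable {G : Type u} [Group G] [Finite G]

theorem commutator_lt_self {Q : Subgroup G} (hQ : Group.IsSolvable Q) (hne : Q ≠ ⊥) : ⁅Q, Q⁆ < Q := by
  haveI := hQ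
  haveI : Nontrivial Q := Q.nontrivial_iff_ne_bot.mpr hne
  have h1 := Group.IsSolvable.commutator_lt_top_of_nontrivial Q
  refine lt_of_le_of_ne Q.commutator_le_self fun e => h1.ne ?_
  apply Subgroup.map_injective Q.subtype_injective
  rw [Q.map_subtype_commutator, e, ← MonoidHom.range_eq_map, Subgroup.range_subtype]

theorem translate_eq {H : Type*} [Group H] {p v w : H}
    (h : p * v * p⁻¹ = v * (w⁻¹ * (p * w * p⁻¹))) : p * (v * w⁻¹) * p⁻¹ = v * w⁻¹ := by
  rw [show p * (v * w⁻¹) * p⁻¹ = (p * v * p⁻¹) * (p * w * p⁻¹)⁻¹ by group, h]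
  group

/-- The inductive hypothesis. -/
def RadIH (G : Type u) [Group G] : Prop :=
  ∀ N : Subgroup G, N ≠ ⊤ → ¬ Group.IsSolvable N → ∀ R : Subgroup G, R ≤ N →
    (∀ n ∈ N, ∀ r ∈ R, n * r * n⁻¹ ∈ R) → Group.IsSolvable R → ∀ r ∈ R, ∀ n ∈ N, n * r = r * n

/-- The centraliser of a non-central solvable normal subgroup is solvable. -/
theorem centralizer_solvable (h : Hyp G) {P : Subgroup G} [P.Normal] (hP : Group.IsSolvable P) {a : G}
    (ha : a ∈ P) (hac : a ∉ Subgroup.center G) : Group.IsSolvable (Subgroup.centralizer (P : Set G)) := by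
  haveI : Fact (Nat.Prime 2) := ⟨Nat.prime_two⟩
  by_contra hE
  set E := Subgroup.centralizer (P : Set G)
  obtain ⟨S⟩ : Nonempty (Sylow 2 E) := inferInstance
  set S0 := (S : Subgroup E).map E.subtype
  set N := Subgroup.normalizer (S0 : Set G)
  have htop : N ⊔ E = ⊤ := S.normalizer_sup_eq_top
  obtain ⟨g, hgN, hga⟩ : ∃ g ∈ N, g * a ≠ a * g := by
    by_contra hc
    push Not at hc
    apply hac
    rw [Subgroup.mem_center_iff]
    intro x
    obtain ⟨n, hn, e, he, rfl⟩ := Subgroup.mem_sup_of_normal_right.mp (htop ▸ Subgroup.mem_top x : x ∈ N ⊔ E)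
    have hea : Commute e a := ((Subgroup.mem_centralizer_iff.mp he) a ha).symm
    have hna : Commute n a := hc n hn
    exact (hna.mul_left hea).eq
  set NE := (Subgroup.normalizer ((S : Subgroup E) : Set E)).map E.subtype with hNE
  have hNEsolv : Group.IsSolvable NE :=
    haveI := isSolvable_sylow_normalizer S
    Group.isSolvable_of_surjective (f := E.subtype.subgroupMap (Subgroup.normalizer ((S : Subgroup E) : Set E)))
      (MonoidHom.subgroupMap_surjective _ _)
  have hNEiff : ∀ x : G, x ∈ NE ↔ x ∈ E ∧ x ∈ N := by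
    intro x
    constructor
    · rintro ⟨y, hy, rfl⟩
      refine ⟨y.2, mem_normalizer_of_conj ?_⟩
      rintro _ ⟨s, hs, rfl⟩
      exact ⟨y * s * y⁻¹, (Subgroup.mem_normalizer_iff.mp hy s).mp hs, rfl⟩
    · rintro ⟨hxE, hxN⟩
      refine ⟨⟨x, hxE⟩, mem_normalizer_of_conj fun s hs => ?_, rfl⟩
      obtain ⟨s', hs', e⟩ := (Subgroup.mem_normalizer_iff.mp hxN (s : G)).mp ⟨s, hs, rfl⟩
      have : s' = ⟨x, hxE⟩ * s * (⟨x, hxE⟩ : E)⁻¹ := Subtype.ext e
      rwa [← this]
  obtain ⟨n1, hn1, n2, hn2, hne⟩ : ∃ n1 ∈ NE, ∃ n2 ∈ NE, n1 * n2 ≠ n2 * n1 := by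
    by_contra hc
    push Not at hc
    apply hE
    have hcompl : Subgroup.normalizer ((S : Subgroup E) : Set E) ≤ Subgroup.centralizer ((S : Subgroup E) : Set E) :=
      fun n hn => Subgroup.mem_centralizer_iff.mpr fun s hs => E.subtype_injective (by
        rw [map_mul, map_mul]
        exact hc _ ⟨s, Subgroup.le_normalizer hs, rfl⟩ _ ⟨n, hn, rfl⟩)
    have hodd : Odd (Nat.card (MonoidHom.transferSylow S hcompl).ker) := by
      rw [← Nat.not_even_iff_odd, even_iff_two_dvd]
      exact MonoidHom.not_dvd_card_ker_transferSylow S hcompl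
    haveI := CfsgLib.OddOrder.feitThompson hodd
    haveI := isSolvable_of_isPGroup S.2
    exact Group.isSolvable_of_ker_le_range (Subgroup.subtype (MonoidHom.transferSylow S hcompl).ker)
      (MonoidHom.transferSylow S hcompl) (by rw [Subgroup.range_subtype])
  have hg : g ∈ Subgroup.normalizer (NE : Set G) := mem_normalizer_of_conj fun x hx => by
    obtain ⟨hxE, hxN⟩ := (hNEiff x).mp hx
    exact (hNEiff _).mpr ⟨(inferInstance : E.Normal).conj_mem x hxE g, N.mul_mem (N.mul_mem hgN hxN) (N.inv_mem hgN)⟩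
  have hH0 : Group.IsSolvable ↥(P ⊔ NE) := CfsgLib.Signalizer.isSolvable_sup' hP hNEsolv
    (fun x _ => normal_le_normalizer P x)
  have hH := ne_top_of_solvable h.nonsolv
    (isSolvable_sup_zpowers hH0 (mem_normalizer_sup (normal_le_normalizer P g) hg))
  exact hga (h.move hH (Subgroup.mem_sup_left (Subgroup.mem_sup_left ha))
    (Subgroup.mem_sup_left (Subgroup.mem_sup_right hn1)) (Subgroup.mem_sup_left (Subgroup.mem_sup_right hn2))
    (((hNEiff n1).mp hn1).1 a ha).symm (((hNEiff n2).mp hn2).1 a ha).symm hne g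
    (Subgroup.mem_sup_right (Subgroup.mem_zpowers g)))

/-- No solvable normal subgroup has a 2-element acting on an odd normal `p`-subgroup. -/
theorem no_two_element (h : Hyp G) (hIH : RadIH G) {p : ℕ} [Fact p.Prime] (hp : p ≠ 2) {P : Subgroup G} [P.Normal]
    (hP : IsPGroup p P) {J : Subgroup G} [J.Normal] (hJ : Group.IsSolvable J) {g : G} (hg : g ∈ J)
    (hg2 : ∃ k, g ^ 2 ^ k = 1) : g ∈ Subgroup.centralizer (P : Set G) := by
  haveI : Fact (Nat.Prime 2) := ⟨Nat.prime_two⟩
  obtain ⟨k, hk⟩ := hg2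
  have hgp : IsPGroup 2 (Subgroup.zpowers (⟨g, hg⟩ : J)) := by
    have : (⟨g, hg⟩ : J) ^ 2 ^ k = 1 := Subtype.ext (by simpa using hk)
    obtain ⟨b, -, hb⟩ := (Nat.dvd_prime_pow Nat.prime_two).mp (orderOf_dvd_of_pow_eq_one this)
    exact IsPGroup.of_card (n := b) (by rw [Nat.card_zpowers, hb])
  obtain ⟨R, hR⟩ := hgp.exists_le_sylow
  set R0 := (R : Subgroup J).map J.subtype with hR0
  have hgR : g ∈ R0 := ⟨⟨g, hg⟩, hR (Subgroup.mem_zpowers _), rfl⟩
  have hR2 : IsPGroup 2 R0 := R.2.map _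
  set N := Subgroup.normalizer (R0 : Set G)
  have htop : N ⊔ J = ⊤ := R.normalizer_sup_eq_top
  rw [Subgroup.mem_centralizer_iff]
  intro a ha
  by_cases hN : N = ⊤
  · have hmem : g * a * g⁻¹ * a⁻¹ ∈ P ⊓ R0 := by
      refine Subgroup.mem_inf.mpr ⟨P.mul_mem ((inferInstance : P.Normal).conj_mem a ha g) (P.inv_mem ha), ?_⟩
      have : a * g⁻¹ * a⁻¹ ∈ R0 :=
        (Subgroup.mem_normalizer_iff.mp (show a ∈ N by rw [hN]; exact Subgroup.mem_top a) _).mp (R0.inv_mem hgR)
      have h2 := R0.mul_mem hgR this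
      rwa [show g * (a * g⁻¹ * a⁻¹) = g * a * g⁻¹ * a⁻¹ by group] at h2
    rw [(IsPGroup.disjoint_of_ne p 2 hp P R0 hP hR2).eq_bot, Subgroup.mem_bot, mul_inv_eq_one,
      mul_inv_eq_iff_eq_mul] at hmem
    exact hmem.symm
  · have hNns : ¬ Group.IsSolvable N := by
      intro hs
      have := CfsgLib.Signalizer.isSolvable_sup' hJ hs (fun x _ => normal_le_normalizer J x)
      rw [sup_comm, htop] at this
      exact ne_top_of_solvable h.nonsolv this rfl
    have hcen := hIH N hN hNns R0 Subgroup.le_normalizer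
      (fun n hn r hr => (Subgroup.mem_normalizer_iff.mp hn r).mp hr) (isSolvable_of_isPGroup hR2) g hgR
    obtain ⟨Y, hY, y1, hy1, y2, hy2, hne⟩ := exists_solvable_nonabelian hNns
    set Y0 := Y.map N.subtype
    have hY0 : Group.IsSolvable Y0 :=
      haveI := hY
      Group.isSolvable_of_surjective (f := N.subtype.subgroupMap Y) (MonoidHom.subgroupMap_surjective _ _)
    have hH0 : Group.IsSolvable ↥(P ⊔ Y0) := CfsgLib.Signalizer.isSolvable_sup' (isSolvable_of_isPGroup hP) hY0
      (fun x _ => normal_le_normalizer P x)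
    have hgY : g ∈ Subgroup.normalizer (Y0 : Set G) := mem_normalizer_of_conj fun x hx => by
      have hxN : x ∈ N := by obtain ⟨y, _, rfl⟩ := hx; exact y.2
      rwa [← hcen x hxN, mul_inv_cancel_right]
    have hH := ne_top_of_solvable h.nonsolv
      (isSolvable_sup_zpowers hH0 (mem_normalizer_sup (normal_le_normalizer P g) hgY))
    exact h.move hH (Subgroup.mem_sup_right (Subgroup.mem_zpowers g))
      (Subgroup.mem_sup_left (Subgroup.mem_sup_right ⟨y1, hy1, rfl⟩))
      (Subgroup.mem_sup_left (Subgroup.mem_sup_right ⟨y2, hy2, rfl⟩))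
      (hcen _ y1.2) (hcen _ y2.2) (fun e => hne (N.subtype_injective (by rw [map_mul, map_mul]; exact e)))
      a (Subgroup.mem_sup_left (Subgroup.mem_sup_left ha))

theorem eq_one_of_coprime {p : ℕ} [Fact p.Prime] {P : Subgroup G} (hP : IsPGroup p P) {d : G} (hd : d ∈ P) {q : ℕ}
    (hq : Nat.Coprime q p) (h : d ^ q = 1) : d = 1 := by
  obtain ⟨n, hn⟩ := IsPGroup.iff_card.mp hP
  have h1 : d ^ p ^ n = 1 := by
    rw [← hn]
    exact orderOf_dvd_iff_pow_eq_one.mp (Subgroup.orderOf_dvd_natCard P hd)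
  have h2 := pow_gcd_eq_one.mpr ⟨h, h1⟩
  rwa [(hq.pow_right n).gcd_eq_one, pow_one] at h2

/-- Iterating an automorphism moving `a` by a fixed element. -/
theorem pow_orbit {y a d : G} (hd : y * d * y⁻¹ = d) (h : y * a * y⁻¹ = a * d) (i : ℕ) :
    y ^ i * a * (y ^ i)⁻¹ = a * d ^ i := by
  induction i with
  | zero => simp
  | succ i ih =>
    have e : ∀ x w : G, x * w * a * (x * w)⁻¹ = x * (w * a * w⁻¹) * x⁻¹ := fun x w => by group
    rw [pow_succ' y, e, ih, show y * (a * d ^ i) * y⁻¹ = (y * a * y⁻¹) * (y * d ^ i * y⁻¹) by group, h,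
      ← conj_pow, hd, pow_succ', mul_assoc]

/-- Coprime action: no translation by fixed elements. -/
theorem fixed_of_translate {p : ℕ} [Fact p.Prime] {P : Subgroup G} (hP : IsPGroup p P) {y a d : G} (hdP : d ∈ P)
    (hy : Nat.Coprime (orderOf y) p) (hd : y * d * y⁻¹ = d) (h : y * a * y⁻¹ = a * d) : y * a = a * y := by
  have h1 := pow_orbit hd h (orderOf y)
  rw [pow_orderOf_eq_one, one_mul, inv_one, mul_one, left_eq_mul] at h1
  rw [eq_one_of_coprime hP hdP hy h1, mul_one] at h
  exact mul_inv_eq_iff_eq_mul.mp h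

theorem isSolvable_of_hom {A : Type u} [Group A] {B : Type*} [Group B] (f : A →* B) (hk : Group.IsSolvable f.ker)
    (hr : Group.IsSolvable f.range) : Group.IsSolvable A := by
  haveI := hk
  haveI := hr
  exact Group.isSolvable_of_ker_le_range f.ker.subtype f.rangeRestrict
    (by rw [Subgroup.range_subtype, MonoidHom.ker_rangeRestrict])

/-- The stabiliser of the series `P ≥ W ≥ 1`. -/
def stab (P W : Subgroup G) [P.Normal] [W.Normal] : Subgroup G :=
  Subgroup.centralizer (W : Set G) ⊓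
    (Subgroup.centralizer ((P.map (QuotientGroup.mk' W) : Subgroup (G ⧸ W)) : Set (G ⧸ W))).comap (QuotientGroup.mk' W)

theorem mem_stab {P W : Subgroup G} [P.Normal] [W.Normal] {x : G} :
    x ∈ stab P W ↔ (∀ w ∈ W, w * x = x * w) ∧ ∀ a ∈ P, x * a * x⁻¹ * a⁻¹ ∈ W := by
  unfold stab
  rw [Subgroup.mem_inf, Subgroup.mem_centralizer_iff, Subgroup.mem_comap, Subgroup.mem_centralizer_iff]
  refine and_congr Iff.rfl ⟨fun h a ha => ?_, fun h v hv => ?_⟩
  · have e := h _ ⟨a, ha, rfl⟩
    rw [← QuotientGroup.eq_one_iff]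
    simp only [QuotientGroup.mk'_apply, QuotientGroup.mk_mul, QuotientGroup.mk_inv] at e ⊢
    rw [← e]; group
  · obtain ⟨a, ha, rfl⟩ := hv
    have e := (QuotientGroup.eq_one_iff _).mpr (h a ha)
    simp only [QuotientGroup.mk'_apply, QuotientGroup.mk_mul, QuotientGroup.mk_inv] at e ⊢
    rw [mul_inv_eq_one, mul_inv_eq_iff_eq_mul] at e
    exact e.symm

theorem isSolvable_stab {P W : Subgroup G} [P.Normal] [W.Normal] (_hW : W ≤ P) (hWc : ∀ a ∈ W, ∀ b ∈ W, a * b = b * a)
    (hE : Group.IsSolvable (Subgroup.centralizer (P : Set G))) : Group.IsSolvable (stab P W) := by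
  set E := Subgroup.centralizer (P : Set G)
  refine isSolvable_of_hom ((QuotientGroup.mk' E).comp (stab P W).subtype) ?_ ?_
  · let f : ((QuotientGroup.mk' E).comp (stab P W).subtype).ker →* E :=
      { toFun := fun x => ⟨(x.1 : G), (QuotientGroup.eq_one_iff _).mp x.2⟩
        map_one' := rfl
        map_mul' := fun _ _ => rfl }
    haveI := hE
    exact Group.isSolvable_of_isSolvable_injective (f := f) fun x y e => Subtype.ext (Subtype.ext (by
      have := congrArg Subtype.val e
      exact this))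
  · refine Group.isSolvable_of_comm ?_
    rintro ⟨_, x, rfl⟩ ⟨_, y, rfl⟩
    refine Subtype.ext ?_
    show ((x : G) : G ⧸ E) * ((y : G) : G ⧸ E) = ((y : G) : G ⧸ E) * ((x : G) : G ⧸ E)
    rw [← QuotientGroup.mk_mul, ← QuotientGroup.mk_mul, QuotientGroup.eq, Subgroup.mem_centralizer_iff]
    intro a ha
    obtain ⟨hxW, hxP⟩ := mem_stab.mp x.2
    obtain ⟨hyW, hyP⟩ := mem_stab.mp y.2
    have key : ∀ p q w : G, w ∈ W → (∀ w ∈ W, w * p = p * w) → q * a * q⁻¹ = w * a →
        p * q * a * (p * q)⁻¹ = w * (p * a * p⁻¹) := by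
      intro p q w hw hp hq
      rw [show p * q * a * (p * q)⁻¹ = p * (q * a * q⁻¹) * p⁻¹ by group, hq,
        show p * (w * a) * p⁻¹ = p * w * a * p⁻¹ by group, ← hp w hw]
      group
    have h1 : (x : G) * a * (x : G)⁻¹ = ((x : G) * a * (x : G)⁻¹ * a⁻¹) * a := by group
    have h2 : (y : G) * a * (y : G)⁻¹ = ((y : G) * a * (y : G)⁻¹ * a⁻¹) * a := by group
    have exy := key x y _ (hyP a ha) hxW h2
    have eyx := key y x _ (hxP a ha) hyW h1
    have heq : (x : G) * y * a * ((x : G) * y)⁻¹ = (y : G) * x * a * ((y : G) * x)⁻¹ := by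
      rw [exy, eyx]
      calc (y : G) * a * (y : G)⁻¹ * a⁻¹ * ((x : G) * a * (x : G)⁻¹)
          = ((y : G) * a * (y : G)⁻¹ * a⁻¹) * ((x : G) * a * (x : G)⁻¹ * a⁻¹) * a := by group
        _ = ((x : G) * a * (x : G)⁻¹ * a⁻¹) * ((y : G) * a * (y : G)⁻¹ * a⁻¹) * a := by
          rw [hWc _ (hyP a ha) _ (hxP a ha)]
        _ = _ := by group
    calc a * (((x : G) * y)⁻¹ * ((y : G) * x)) =
        ((x : G) * y)⁻¹ * ((x : G) * y * a * ((x : G) * y)⁻¹) * ((y : G) * x) := by group
      _ = ((x : G) * y)⁻¹ * ((y : G) * x * a * ((y : G) * x)⁻¹) * ((y : G) * x) := by rw [heq]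
      _ = _ := by group

/-- No element inverts a section `P / W` while centralising `W`, for `p` odd. -/
theorem no_inverting (h : Hyp G) (hIH : RadIH G) {p : ℕ} [Fact p.Prime] (hp : p ≠ 2) {P W : Subgroup G} [P.Normal]
    [W.Normal] (hP : IsPGroup p P) (hW : W ≤ P) (hWc : ∀ a ∈ W, ∀ b ∈ W, a * b = b * a)
    (hE : Group.IsSolvable (Subgroup.centralizer (P : Set G))) {g : G} (hg2 : ∃ k, g ^ 2 ^ k = 1)
    (hgW : ∀ w ∈ W, g * w = w * g) (hginv : ∀ a ∈ P, g * a * g⁻¹ * a ∈ W) : g ∈ Subgroup.centralizer (P : Set G) := by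
  set J := stab P W ⊔ Subgroup.zpowers g
  have hstabn : (stab P W).Normal := by
    refine ⟨fun x hx c => ?_⟩
    obtain ⟨h1, h2⟩ := mem_stab.mp hx
    refine mem_stab.mpr ⟨fun w hw => ?_, fun a ha => ?_⟩
    · calc w * (c * x * c⁻¹) = c * ((c⁻¹ * w * c) * x) * c⁻¹ := by group
        _ = c * (x * (c⁻¹ * w * c)) * c⁻¹ := by
          rw [h1 _ ((inferInstance : W.Normal).conj_mem' w hw c)]
        _ = _ := by group
    · rw [show c * x * c⁻¹ * a * (c * x * c⁻¹)⁻¹ * a⁻¹ = c * (x * (c⁻¹ * a * c) * x⁻¹ * (c⁻¹ * a * c)⁻¹) * c⁻¹ by group]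
      exact (inferInstance : W.Normal).conj_mem _ (h2 _ ((inferInstance : P.Normal).conj_mem' a ha c)) c
  haveI := hstabn
  have hconjg : ∀ c : G, c * g * c⁻¹ * g⁻¹ ∈ stab P W := by
    intro c
    have hgW' : ∀ w ∈ W, w * (c * g * c⁻¹) = c * g * c⁻¹ * w := fun w hw => by
      calc w * (c * g * c⁻¹) = c * ((c⁻¹ * w * c) * g) * c⁻¹ := by group
        _ = c * (g * (c⁻¹ * w * c)) * c⁻¹ := by
          rw [hgW _ ((inferInstance : W.Normal).conj_mem' w hw c)]
        _ = _ := by group
    refine mem_stab.mpr ⟨fun w hw => ?_, fun a ha => ?_⟩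
    · have h1 : Commute w (c * g * c⁻¹) := hgW' w hw
      exact (h1.mul_right (show Commute w g from (hgW w hw).symm).inv_right).eq
    · -- modulo `W` both elements invert
      set π := QuotientGroup.mk' W
      have hi : ∀ b ∈ P, π g * π b * (π g)⁻¹ = (π b)⁻¹ := by
        intro b hb
        have e := (QuotientGroup.eq_one_iff _).mpr (hginv b hb)
        simp only [QuotientGroup.mk_mul, QuotientGroup.mk_inv] at e
        simpa [π] using eq_inv_of_mul_eq_one_left e
      have e1 : (π g)⁻¹ * π a * π g = (π a)⁻¹ := by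
        have := hi _ (P.inv_mem ha)
        rw [map_inv, inv_inv] at this
        nth_rewrite 1 [← this]
        group
      have e2 := hi _ ((inferInstance : P.Normal).conj_mem' _ (P.inv_mem ha) c)
      rw [← QuotientGroup.eq_one_iff]
      show π _ = 1
      simp only [map_mul, map_inv] at e2 ⊢
      calc π c * π g * (π c)⁻¹ * (π g)⁻¹ * π a * (π c * π g * (π c)⁻¹ * (π g)⁻¹)⁻¹ * (π a)⁻¹
          = π c * π g * (π c)⁻¹ * ((π g)⁻¹ * π a * π g) * π c * (π g)⁻¹ * (π c)⁻¹ * (π a)⁻¹ := by group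
        _ = π c * (π g * ((π c)⁻¹ * (π a)⁻¹ * π c) * (π g)⁻¹) * (π c)⁻¹ * (π a)⁻¹ := by rw [e1]; group
        _ = 1 := by rw [e2]; group
  haveI : J.Normal := by
    refine ⟨fun x hx c => ?_⟩
    have hle : J.map (MulAut.conj c).toMonoidHom ≤ J := by
      rw [Subgroup.map_sup]
      refine sup_le ?_ ?_
      · rintro _ ⟨y, hy, rfl⟩
        exact Subgroup.mem_sup_left (hstabn.conj_mem y hy c)
      · rw [Subgroup.map_le_iff_le_comap, Subgroup.zpowers_le]
        show c * g * c⁻¹ ∈ J
        have := J.mul_mem (Subgroup.mem_sup_left (hconjg c)) (Subgroup.mem_sup_right (Subgroup.mem_zpowers g))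
        rwa [inv_mul_cancel_right] at this
    exact hle ⟨x, hx, rfl⟩
  exact no_two_element h hIH hp hP (J := J) (isSolvable_sup_zpowers (isSolvable_stab hW hWc hE) (normal_le_normalizer _ g))
    (Subgroup.mem_sup_right (Subgroup.mem_zpowers g)) hg2

/-- A lift of an involution of a non-solvable quotient. -/
theorem exists_lift_involution (h : Hyp G) {E : Subgroup G} [E.Normal] (hE : Group.IsSolvable E) :
    ∃ g : G, g ∉ E ∧ g * g ∈ E ∧ ∃ k, g ^ 2 ^ k = 1 := by
  haveI : Fact (Nat.Prime 2) := ⟨Nat.prime_two⟩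
  have h2 : 2 ∣ Nat.card (G ⧸ E) := by
    rw [← even_iff_two_dvd, ← Nat.not_odd_iff_even]
    exact fun ho => h.nonsolv ((Group.isSolvable_iff_subgroup_quotient E).mpr ⟨hE, CfsgLib.OddOrder.feitThompson ho⟩)
  obtain ⟨tb, htb⟩ := exists_prime_orderOf_dvd_card' 2 h2
  obtain ⟨t, rfl⟩ := QuotientGroup.mk_surjective tb
  obtain ⟨a, m, hm, htm⟩ := Nat.exists_eq_pow_mul_and_not_dvd (orderOf_pos t).ne' 2 (by norm_num)
  have hmem : ((t ^ m : G) : G ⧸ E) = ((t : G) : G ⧸ E) := by
    rw [QuotientGroup.mk_pow, ← pow_mod_orderOf, htb, show m % 2 = 1 by omega, pow_one]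
  refine ⟨t ^ m, fun hin => ?_, ?_, a, by rw [← pow_mul, mul_comm, ← htm, pow_orderOf_eq_one]⟩
  · rw [← QuotientGroup.eq_one_iff, hmem] at hin
    rw [hin, orderOf_one] at htb
    omega
  · rw [← QuotientGroup.eq_one_iff, QuotientGroup.mk_mul, hmem, ← sq, ← htb, pow_orderOf_eq_one]

/-- Abelian normal `p`-subgroups are central. -/
theorem abelian_central (h : Hyp G) (hIH : RadIH G) {p : ℕ} [Fact p.Prime] {A : Subgroup G} [A.Normal]
    (hA : IsPGroup p A) (hAc : ∀ a ∈ A, ∀ b ∈ A, a * b = b * a) : A ≤ Subgroup.center G := by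
  haveI : Fact (Nat.Prime 2) := ⟨Nat.prime_two⟩
  by_contra hle
  obtain ⟨a0, ha0, hac⟩ := SetLike.not_le_iff_exists.mp hle
  set E := Subgroup.centralizer (A : Set G) with hEdef
  have hE : Group.IsSolvable E := centralizer_solvable h (isSolvable_of_isPGroup hA) ha0 hac
  have hAE : A ≤ E := fun a ha => Subgroup.mem_centralizer_iff.mpr fun b hb => hAc b hb a ha
  have hEA : ∀ {e a : G}, e ∈ E → a ∈ A → e * a = a * e := fun he ha => ((Subgroup.mem_centralizer_iff.mp he) _ ha).symm
  have hnotE : ∀ g : G, g ∉ E → ∃ a ∈ A, g * a ≠ a * g := by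
    intro g hg
    by_contra hc
    push Not at hc
    exact hg (Subgroup.mem_centralizer_iff.mpr fun a ha => (hc a ha).symm)
  by_cases hp : p = 2
  · subst hp
    obtain ⟨y, u, hyE, hyo, ⟨k, huk⟩, hinv⟩ := exists_real_mod (E := E) h.nonsolv hE
    let cj : G → A → A := fun g a => ⟨g * a * g⁻¹, (inferInstance : A.Normal).conj_mem _ a.2 g⟩
    let δ : A →* A :=
      { toFun := fun a => a⁻¹ * cj y a
        map_one' := Subtype.ext (by simp [cj])
        map_mul' := fun a b => Subtype.ext (by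
          show ((a : G) * b)⁻¹ * (y * ((a : G) * b) * y⁻¹) = (a : G)⁻¹ * (y * a * y⁻¹) * ((b : G)⁻¹ * (y * b * y⁻¹))
          have e : (b : G)⁻¹ * ((a : G)⁻¹ * (y * a * y⁻¹)) = (a : G)⁻¹ * (y * a * y⁻¹) * (b : G)⁻¹ :=
            hAc _ (A.inv_mem b.2) _ (A.mul_mem (A.inv_mem a.2) (cj y a).2)
          calc ((a : G) * b)⁻¹ * (y * ((a : G) * b) * y⁻¹)
              = (b : G)⁻¹ * ((a : G)⁻¹ * (y * a * y⁻¹)) * (y * b * y⁻¹) := by group
            _ = _ := by rw [e]; group) }
    -- no fixed points on the image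
    have hfix : ∀ v ∈ δ.range, y * (v : G) = (v : G) * y → v = 1 := by
      rintro _ ⟨a, rfl⟩ hv
      refine Subtype.ext ?_
      have h1 : y * (a : G) * y⁻¹ = (a : G) * (δ a : A) := by
        show y * (a : G) * y⁻¹ = (a : G) * ((a : G)⁻¹ * (y * a * y⁻¹)); group
      have h2 := fixed_of_translate hA (δ a).2 (Nat.coprime_two_right.mpr hyo) (mul_inv_eq_iff_eq_mul.mpr hv) h1
      show (a : G)⁻¹ * (y * a * y⁻¹) = 1
      rw [h2]; group
    have hne : δ.range ≠ ⊥ := by
      intro e
      obtain ⟨a, ha, hya⟩ := hnotE y hyE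
      apply hya
      have : δ ⟨a, ha⟩ = 1 := Subgroup.mem_bot.mp (e ▸ ⟨_, rfl⟩)
      have := congrArg Subtype.val this
      change a⁻¹ * (y * a * y⁻¹) = 1 at this
      rw [inv_mul_eq_one] at this
      exact (mul_inv_eq_iff_eq_mul.mp this.symm)
    -- `u` normalises the image
    have huy : ∀ b ∈ A, u * (y * b * y⁻¹) * u⁻¹ = y⁻¹ * (u * b * u⁻¹) * y := by
      intro b hb
      set e := u * y * u⁻¹ * y
      have hb' : u * b * u⁻¹ ∈ A := (inferInstance : A.Normal).conj_mem b hb u
      have hb2 : y⁻¹ * (u * b * u⁻¹) * y ∈ A := (inferInstance : A.Normal).conj_mem' _ hb' y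
      calc u * (y * b * y⁻¹) * u⁻¹ = e * (y⁻¹ * (u * b * u⁻¹) * y) * e⁻¹ := by simp only [e]; group
        _ = _ := by rw [hEA hinv hb2, mul_inv_cancel_right]
    have hnorm : ∀ v ∈ δ.range, cj u v ∈ δ.range := by
      rintro _ ⟨a, rfl⟩
      have ha' : u * (a : G) * u⁻¹ ∈ A := (inferInstance : A.Normal).conj_mem _ a.2 u
      have hm : y⁻¹ * (u * (a : G) * u⁻¹)⁻¹ * y ∈ A := (inferInstance : A.Normal).conj_mem' _ (A.inv_mem ha') y
      refine ⟨⟨_, hm⟩, Subtype.ext ?_⟩
      show (y⁻¹ * (u * (a : G) * u⁻¹)⁻¹ * y)⁻¹ * (y * (y⁻¹ * (u * (a : G) * u⁻¹)⁻¹ * y) * y⁻¹) =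
        u * ((a : G)⁻¹ * (y * a * y⁻¹)) * u⁻¹
      rw [show u * ((a : G)⁻¹ * (y * a * y⁻¹)) * u⁻¹ = (u * (a : G) * u⁻¹)⁻¹ * (u * (y * a * y⁻¹) * u⁻¹) by group,
        huy a a.2, hAc _ (A.inv_mem ha') _ ((inferInstance : A.Normal).conj_mem' _ ha' y)]
      group
    -- `u` fixes a nontrivial element of the image
    set U := Subgroup.zpowers u
    have hU : IsPGroup 2 U := by
      obtain ⟨b, -, hb⟩ := (Nat.dvd_prime_pow Nat.prime_two).mp (orderOf_dvd_of_pow_eq_one huk)
      exact IsPGroup.of_card (n := b) (by rw [Nat.card_zpowers, hb])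
    have hVnorm : ∀ g ∈ U, ∀ v ∈ δ.range, cj g v ∈ δ.range := by
      have hu' : u ∈ Subgroup.normalizer ((δ.range.map A.subtype : Subgroup G) : Set G) := mem_normalizer_of_conj (by
        rintro _ ⟨v, hv, rfl⟩
        exact ⟨cj u v, hnorm v hv, rfl⟩)
      intro g hg v hv
      obtain ⟨w, hw, e⟩ := (Subgroup.mem_normalizer_iff.mp
        ((Subgroup.zpowers_le.mpr hu' : U ≤ _) hg) _).mp (⟨v, hv, rfl⟩ : (v : G) ∈ δ.range.map A.subtype)
      rwa [show cj g v = w from Subtype.ext e.symm]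
    letI act : MulAction U δ.range :=
      { smul := fun g v => ⟨cj g v.1, hVnorm g g.2 v v.2⟩
        one_smul := fun v => Subtype.ext (Subtype.ext (by
          show ((1 : U) : G) * (v.1 : G) * ((1 : U) : G)⁻¹ = v.1
          simp))
        mul_smul := fun g g' v => Subtype.ext (Subtype.ext (by
          show ((g * g' : U) : G) * (v.1 : G) * ((g * g' : U) : G)⁻¹ =
            (g : G) * ((g' : G) * (v.1 : G) * (g' : G)⁻¹) * (g : G)⁻¹
          push_cast; group)) }
    have hdvd : 2 ∣ Nat.card δ.range := by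
      have hVp : IsPGroup 2 δ.range := hA.to_subgroup _
      obtain ⟨n, hn⟩ := IsPGroup.iff_card.mp hVp
      have : n ≠ 0 := fun e => hne (Subgroup.card_eq_one.mp (by rw [hn, e, pow_zero]))
      rw [hn]; exact dvd_pow_self 2 this
    obtain ⟨v, hv, hv1⟩ := hU.exists_fixed_point_of_prime_dvd_card_of_fixed_point δ.range hdvd
      (a := 1) (fun g => Subtype.ext (Subtype.ext (by show (g : G) * ((1 : A) : G) * (g : G)⁻¹ = 1; simp)))
    have huv : u * (v.1 : G) * u⁻¹ = (v.1 : G) :=
      congrArg (fun w : δ.range => ((w.1 : A) : G)) (hv ⟨u, Subgroup.mem_zpowers u⟩)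
    -- the solvable group `E ⟨y, u⟩`
    have hH1 := isSolvable_sup_zpowers hE (normal_le_normalizer E y)
    have hu2 : u ∈ Subgroup.normalizer ((E ⊔ Subgroup.zpowers y : Subgroup G) : Set G) := by
      refine mem_normalizer_of_conj fun x hx => ?_
      have hle : (E ⊔ Subgroup.zpowers y).map (MulAut.conj u).toMonoidHom ≤ E ⊔ Subgroup.zpowers y := by
        rw [Subgroup.map_sup]
        refine sup_le ?_ ?_
        · rintro _ ⟨e, he, rfl⟩
          exact Subgroup.mem_sup_left ((inferInstance : E.Normal).conj_mem e he u)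
        · rw [Subgroup.map_le_iff_le_comap, Subgroup.zpowers_le]
          show u * y * u⁻¹ ∈ E ⊔ Subgroup.zpowers y
          have := (E ⊔ Subgroup.zpowers y).mul_mem (Subgroup.mem_sup_left hinv)
            (Subgroup.inv_mem _ (Subgroup.mem_sup_right (Subgroup.mem_zpowers y)))
          rwa [mul_inv_cancel_right] at this
      exact hle ⟨x, hx, rfl⟩
    have hH := ne_top_of_solvable h.nonsolv (isSolvable_sup_zpowers hH1 hu2)
    have huE : u ∈ E := Subgroup.mem_centralizer_iff.mpr fun a ha =>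
      h.comm hH (x := (v.1 : G)) (c := y) (Subgroup.mem_sup_left (Subgroup.mem_sup_left (hAE v.1.2)))
        (Subgroup.mem_sup_left (Subgroup.mem_sup_left (hAE ha)))
        (Subgroup.mem_sup_right (Subgroup.mem_zpowers u))
        (Subgroup.mem_sup_left (Subgroup.mem_sup_right (Subgroup.mem_zpowers y)))
        (hAc a ha _ v.1.2) (mul_inv_eq_iff_eq_mul.mp huv)
        (fun e => hv1 (Subtype.ext (hfix _ v.2 e)).symm)
    apply hyE
    have hy2 : y * y ∈ E := by
      have h1 := E.mul_mem (E.mul_mem (E.inv_mem huE) hinv) ((inferInstance : E.Normal).conj_mem' _ huE y)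
      rwa [show u⁻¹ * (u * y * u⁻¹ * y) * (y⁻¹ * u * y) = y * y by group] at h1
    obtain ⟨m, hm⟩ := hyo
    have := E.pow_mem hy2 (m + 1)
    rwa [← sq, ← pow_mul, show 2 * (m + 1) = orderOf y + 1 by omega, pow_succ, pow_orderOf_eq_one, one_mul] at this
  · obtain ⟨g, hgE, hg2, hgk⟩ := exists_lift_involution h hE
    have hsame : ∀ g' k : G, g' ∉ E → g' * g' ∈ E → k * k ∈ E → ∀ a ∈ A, g' * a = a * g' → k * a = a * k := by
      intro g' k hg' hg'2 hk2 a ha hga
      set π := QuotientGroup.mk' E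
      set P0 := (E ⊔ Subgroup.zpowers (g' * k))
      have hgg : π g' * π g' = 1 := by rw [← map_mul]; exact (QuotientGroup.eq_one_iff _).mpr hg'2
      have hkk : π k * π k = 1 := by rw [← map_mul]; exact (QuotientGroup.eq_one_iff _).mpr hk2
      have hn : g' ∈ Subgroup.normalizer (P0 : Set G) := by
        refine mem_normalizer_of_conj fun x hx => ?_
        have hle : P0.map (MulAut.conj g').toMonoidHom ≤ P0 := by
          rw [Subgroup.map_sup]
          refine sup_le ?_ ?_
          · rintro _ ⟨e, he, rfl⟩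
            exact Subgroup.mem_sup_left ((inferInstance : E.Normal).conj_mem e he g')
          · rw [Subgroup.map_le_iff_le_comap, Subgroup.zpowers_le]
            show g' * (g' * k) * g'⁻¹ ∈ P0
            have he : g' * (g' * k) * g'⁻¹ * (g' * k) ∈ E := by
              rw [← QuotientGroup.eq_one_iff]
              show π _ = 1
              simp only [map_mul, map_inv]
              calc π g' * (π g' * π k) * (π g')⁻¹ * (π g' * π k) = (π g' * π g') * (π k * π k) := by group
                _ = 1 := by rw [hgg, hkk, mul_one]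
            have := P0.mul_mem (Subgroup.mem_sup_left he)
              (P0.inv_mem (Subgroup.mem_sup_right (Subgroup.mem_zpowers (g' * k))))
            rwa [mul_inv_cancel_right] at this
        exact hle ⟨x, hx, rfl⟩
      have hH := ne_top_of_solvable h.nonsolv
        (isSolvable_sup_zpowers (isSolvable_sup_zpowers hE (normal_le_normalizer E (g' * k))) hn)
      by_contra hka
      obtain ⟨b, hb, hgb⟩ := hnotE g' hg'
      have hkmem : k ∈ P0 ⊔ Subgroup.zpowers g' := by
        have := (P0 ⊔ Subgroup.zpowers g').mul_mem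
          (Subgroup.inv_mem _ (Subgroup.mem_sup_right (Subgroup.mem_zpowers g')))
          (Subgroup.mem_sup_left (Subgroup.mem_sup_right (Subgroup.mem_zpowers (g' * k))) :
            g' * k ∈ P0 ⊔ Subgroup.zpowers g')
        rwa [inv_mul_cancel_left] at this
      exact hgb (h.comm hH (x := a) (c := k) (Subgroup.mem_sup_left (Subgroup.mem_sup_left (hAE ha)))
        (Subgroup.mem_sup_right (Subgroup.mem_zpowers g')) (Subgroup.mem_sup_left (Subgroup.mem_sup_left (hAE hb)))
        hkmem hga (hAc b hb a ha) hka)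
    set W := A ⊓ Subgroup.centralizer ({g} : Set G)
    have hmemW : ∀ {w}, w ∈ W ↔ w ∈ A ∧ w * g = g * w := fun {w} => by
      rw [Subgroup.mem_inf, Subgroup.mem_centralizer_singleton_iff]
    haveI : W.Normal := by
      refine ⟨fun w hw c => ?_⟩
      obtain ⟨hwA, hwg⟩ := hmemW.mp hw
      refine hmemW.mpr ⟨(inferInstance : A.Normal).conj_mem w hwA c, ?_⟩
      have h1 : c⁻¹ * g * c ∉ E := fun hin => hgE (by
        have := (inferInstance : E.Normal).conj_mem _ hin c
        rwa [show c * (c⁻¹ * g * c) * c⁻¹ = g by group] at this)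
      have h2 : c⁻¹ * g * c * (c⁻¹ * g * c) ∈ E := by
        rw [show c⁻¹ * g * c * (c⁻¹ * g * c) = c⁻¹ * (g * g) * c by group]
        exact (inferInstance : E.Normal).conj_mem' _ hg2 c
      have h3 := hsame g (c⁻¹ * g * c) hgE hg2 h2 w hwA hwg.symm
      calc c * w * c⁻¹ * g = c * (w * (c⁻¹ * g * c)) * c⁻¹ := by group
        _ = c * ((c⁻¹ * g * c) * w) * c⁻¹ := by rw [h3]
        _ = _ := by group
    have hginv : ∀ a ∈ A, g * a * g⁻¹ * a ∈ W := by
      intro a ha
      have ha' := (inferInstance : A.Normal).conj_mem a ha g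
      refine hmemW.mpr ⟨A.mul_mem ha' ha, ?_⟩
      have h4 : g * (g * a * g⁻¹ * a) * g⁻¹ = g * a * g⁻¹ * a := by
        calc g * (g * a * g⁻¹ * a) * g⁻¹ = (g * g) * a * (g * g)⁻¹ * (g * a * g⁻¹) := by group
          _ = a * (g * a * g⁻¹) := by rw [hEA hg2 ha, mul_inv_cancel_right]
          _ = _ := hAc a ha _ ha'
      exact (mul_inv_eq_iff_eq_mul.mp h4).symm
    exact hgE (no_inverting h hIH hp hA (W := W) inf_le_left
      (fun a ha b hb => hAc a (hmemW.mp ha).1 b (hmemW.mp hb).1) hE hgk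
      (fun w hw => ((hmemW.mp hw).2).symm) hginv)

/-- A minimal non-central normal `p`-subgroup does not exist. -/
theorem minimal_central (h : Hyp G) (hIH : RadIH G) {p : ℕ} [Fact p.Prime] {P : Subgroup G} [hPn : P.Normal]
    (hP : IsPGroup p P) (hmin : ∀ Q : Subgroup G, Q.Normal → Q < P → Q ≤ Subgroup.center G) :
    P ≤ Subgroup.center G := by
  classical
  haveI : Fact (Nat.Prime 2) := ⟨Nat.prime_two⟩
  by_contra hle
  obtain ⟨a0, ha0, hac0⟩ := SetLike.not_le_iff_exists.mp hle
  have hPsolv : Group.IsSolvable P := isSolvable_of_isPGroup hP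
  have hnab : ¬ ∀ a ∈ P, ∀ b ∈ P, a * b = b * a := fun hc => hle (abelian_central h hIH hP hc)
  set Z := Subgroup.center G
  have hfix : ∀ {z : G}, z ∈ Z → ∀ g, g * z * g⁻¹ = z := fun hz g => by
    rw [Subgroup.mem_center_iff.mp hz g, mul_inv_cancel_right]
  -- centre of `P`
  have hcP : ∀ a ∈ P, (∀ b ∈ P, b * a = a * b) → a ∈ Z := by
    intro a ha hcomm
    have hle : P ⊓ Subgroup.centralizer (P : Set G) ≤ Z := hmin _ inferInstance (lt_of_le_of_ne inf_le_left fun e =>
      hnab fun x hx y hy => (Subgroup.mem_centralizer_iff.mp ((inf_eq_left.mp e) hy)) x hx)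
    exact hle (Subgroup.mem_inf.mpr ⟨ha, Subgroup.mem_centralizer_iff.mpr hcomm⟩)
  -- commutators are central
  have hder : ⁅P, P⁆ ≤ Z := by
    refine hmin _ inferInstance (lt_of_le_of_ne (Subgroup.commutator_le_left P P) fun e => ?_)
    exact (commutator_lt_self hPsolv fun hb => hac0 (by
      rw [hb, Subgroup.mem_bot] at ha0; rw [ha0]; exact Z.one_mem)).ne e
  set π := QuotientGroup.mk' Z
  have hπ : ∀ {x : G}, π x = 1 ↔ x ∈ Z := QuotientGroup.eq_one_iff _
  have hπc : ∀ a ∈ P, ∀ b ∈ P, Commute (π a) (π b) := by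
    intro a ha b hb
    have e : π ⁅a, b⁆ = 1 := hπ.mpr (hder (Subgroup.commutator_mem_commutator ha hb))
    rw [commutatorElement_def] at e
    simp only [map_mul, map_inv] at e
    exact commutatorElement_eq_one_iff_mul_comm.mp (by rw [commutatorElement_def]; exact e)
  -- exponent `p` modulo the centre
  have hpow : ∀ a ∈ P, a ^ p ∈ Z := by
    let P1 : Subgroup G :=
      { carrier := {a | a ∈ P ∧ π (a ^ p) = 1}
        one_mem' := ⟨P.one_mem, by simp⟩
        mul_mem' := fun {a b} ha hb => ⟨P.mul_mem ha.1 hb.1, by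
          rw [map_pow, map_mul, (hπc a ha.1 b hb.1).mul_pow, ← map_pow, ← map_pow, ha.2, hb.2, one_mul]⟩
        inv_mem' := fun {a} ha => ⟨P.inv_mem ha.1, by rw [inv_pow, map_inv, ha.2, inv_one]⟩ }
    haveI : P1.Normal := ⟨fun a ha c => ⟨hPn.conj_mem a ha.1 c, by
      rw [conj_pow, map_mul, map_mul, ha.2, mul_one, map_inv, mul_inv_cancel]⟩⟩
    obtain ⟨n, hn⟩ := IsPGroup.iff_card.mp hP
    have hex : ∃ k, a0 ^ p ^ k ∈ Z := ⟨n, by
      rw [← hn, orderOf_dvd_iff_pow_eq_one.mp (Subgroup.orderOf_dvd_natCard P ha0)]; exact Z.one_mem⟩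
    have hk0 : Nat.find hex ≠ 0 := fun e => hac0 (by have := Nat.find_spec hex; rwa [e, pow_zero, pow_one] at this)
    have hb : a0 ^ p ^ (Nat.find hex - 1) ∉ Z := Nat.find_min hex (by omega)
    have hbP1 : a0 ^ p ^ (Nat.find hex - 1) ∈ P1 := ⟨P.pow_mem ha0 _, hπ.mpr (by
      rw [← pow_mul, ← pow_succ, show Nat.find hex - 1 + 1 = Nat.find hex by omega]
      exact Nat.find_spec hex)⟩
    have htop : P1 = P := by
      by_contra hne
      exact hb (hmin P1 inferInstance (lt_of_le_of_ne (fun x hx => hx.1) hne) hbP1)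
    intro a ha
    rw [← htop] at ha
    exact hπ.mp ha.2
  set E := Subgroup.centralizer (P : Set G) with hEdef
  have hE : Group.IsSolvable E := centralizer_solvable h hPsolv ha0 hac0
  have hEA : ∀ {e a : G}, e ∈ E → a ∈ P → e * a = a * e := fun he ha => ((Subgroup.mem_centralizer_iff.mp he) _ ha).symm
  have hnotE : ∀ g : G, g ∉ E → ∃ a ∈ P, g * a ≠ a * g := by
    intro g hg
    by_contra hc
    push Not at hc
    exact hg (Subgroup.mem_centralizer_iff.mpr fun a ha => (hc a ha).symm)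
  have hncP : ∀ b ∈ P, b ∉ Z → ∃ c ∈ P, c * b ≠ b * c := by
    intro b hb hbZ
    by_contra hc
    push Not at hc
    exact hbZ (hcP b hb hc)
  -- fixed points of `p'`-elements
  have fpf : ∀ y : G, y ∉ E → Nat.Coprime (orderOf y) p → ∀ b ∈ P, y * b = b * y → b ∈ Z := by
    intro y hy hyp b hb hyb
    by_contra hbZ
    have hH := ne_top_of_solvable h.nonsolv (isSolvable_sup_zpowers hPsolv (normal_le_normalizer P y))
    obtain ⟨c, hc, hcb⟩ := hncP b hb hbZ
    have hcomm : ∀ d ∈ P, d * b = b * d → y * d = d * y := fun d hd hdb =>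
      h.comm hH (x := b) (c := c) (Subgroup.mem_sup_left hb) (Subgroup.mem_sup_right (Subgroup.mem_zpowers y))
        (Subgroup.mem_sup_left hd) (Subgroup.mem_sup_left hc) hyb hdb hcb
    obtain ⟨a, ha, hya⟩ := hnotE y hy
    apply hya
    have hya' := hPn.conj_mem a ha y
    have hd : a⁻¹ * (y * a * y⁻¹) ∈ P := P.mul_mem (P.inv_mem ha) hya'
    have hk : a * b * a⁻¹ * b⁻¹ ∈ Z := by
      have := hder (Subgroup.commutator_mem_commutator ha hb)
      rwa [commutatorElement_def] at this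
    have hdb : a⁻¹ * (y * a * y⁻¹) * b = b * (a⁻¹ * (y * a * y⁻¹)) := by
      have hyb' : y * b * y⁻¹ = b := mul_inv_eq_iff_eq_mul.mpr hyb
      have hb' : y⁻¹ * b * y = b := by nth_rewrite 1 [← hyb']; group
      have e : (y * a * y⁻¹) * b * (y * a * y⁻¹)⁻¹ = a * b * a⁻¹ :=
        calc (y * a * y⁻¹) * b * (y * a * y⁻¹)⁻¹
            = (y * (a * (y⁻¹ * b * y) * a⁻¹ * b⁻¹) * y⁻¹) * (y * b * y⁻¹) := by group
          _ = _ := by rw [hb', hfix hk, hyb', inv_mul_cancel_right]
      calc a⁻¹ * (y * a * y⁻¹) * b = a⁻¹ * ((y * a * y⁻¹) * b * (y * a * y⁻¹)⁻¹) * (y * a * y⁻¹) := by group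
        _ = a⁻¹ * (a * b * a⁻¹) * (y * a * y⁻¹) := by rw [e]
        _ = _ := by group
    exact fixed_of_translate hP hd hyp (mul_inv_eq_iff_eq_mul.mpr (hcomm _ hd hdb)) (by group)
  by_cases hp : p = 2
  · subst hp
    have hsq : ∀ a ∈ P, a * a ∈ Z := fun a ha => sq a ▸ hpow a ha
    obtain ⟨y, u, hyE, hyo, ⟨k, huk⟩, hinv⟩ := exists_real_mod (E := E) h.nonsolv hE
    have hy2 : Nat.Coprime (orderOf y) 2 := Nat.coprime_two_right.mpr hyo
    have htriv : ∀ w : G, Nat.Coprime (orderOf w) 2 → ∀ a ∈ P, π (w * a * w⁻¹) = π a → w * a = a * w := by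
      intro w hw a ha hz
      have hd : a⁻¹ * (w * a * w⁻¹) ∈ P := P.mul_mem (P.inv_mem ha) (hPn.conj_mem a ha w)
      have hdZ : a⁻¹ * (w * a * w⁻¹) ∈ Z := hπ.mp (by rw [map_mul, hz, map_inv, inv_mul_cancel])
      exact fixed_of_translate hP hd hw (hfix hdZ w) (by group)
    set mov : ℕ → Prop := fun j => ∀ a ∈ P, π (u ^ 2 ^ j * a * (u ^ 2 ^ j)⁻¹) = π a with hmov
    have hex : ∃ j, mov j := ⟨k, fun a _ => by rw [huk]; simp⟩
    have hj0 : Nat.find hex ≠ 0 := by
      intro e0
      have h0 : ∀ a ∈ P, π (u * a * u⁻¹) = π a := by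
        have := Nat.find_spec hex
        rw [e0] at this
        simpa [hmov] using this
      apply hyE
      have hyy : y * y ∈ E := by
        refine Subgroup.mem_centralizer_iff.mpr fun a ha => (htriv (y * y) ?_ a ha ?_).symm
        · exact Nat.Coprime.coprime_dvd_left (by rw [← sq]; exact orderOf_pow_dvd 2) hy2
        · set b := y * a * y⁻¹
          have hb : b ∈ P := hPn.conj_mem a ha y
          have hu1 : π u * π (u⁻¹ * b * u) * (π u)⁻¹ = π b := by
            simp only [map_mul, map_inv]; group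
          have hu2 : π (u⁻¹ * b * u) = π b := by
            have := h0 _ (hPn.conj_mem' b hb u)
            rw [show u * (u⁻¹ * b * u) * u⁻¹ = b by group] at this
            exact this.symm
          -- `y` and `y⁻¹` agree modulo the centre
          have hb' : π (y * (u⁻¹ * b * u) * y⁻¹) = π (y * b * y⁻¹) := by
            simp only [map_mul, map_inv] at hu2 ⊢
            rw [hu2]
          have hb'' := h0 _ (hPn.conj_mem _ (hPn.conj_mem' b hb u) y)
          have hkey : u * (y * (u⁻¹ * b * u) * y⁻¹) * u⁻¹ = y⁻¹ * b * y := by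
            calc u * (y * (u⁻¹ * b * u) * y⁻¹) * u⁻¹
                = (u * y * u⁻¹ * y) * (y⁻¹ * b * y) * (u * y * u⁻¹ * y)⁻¹ := by group
              _ = y⁻¹ * b * y := by rw [hEA hinv (hPn.conj_mem' b hb y), mul_inv_cancel_right]
          rw [hkey, hb'] at hb''
          rw [show y * y * a * (y * y)⁻¹ = y * b * y⁻¹ by simp only [b]; group, ← hb'']
          simp only [b]
          congr 1; group
      obtain ⟨m, hm⟩ := hyo
      have := E.pow_mem hyy (m + 1)
      rwa [← sq, ← pow_mul, show 2 * (m + 1) = orderOf y + 1 by omega, pow_succ, pow_orderOf_eq_one, one_mul] at this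
    set t := u ^ 2 ^ (Nat.find hex - 1) with ht
    have htt : t * t = u ^ 2 ^ Nat.find hex := by
      rw [ht, ← pow_add, ← two_mul, ← pow_succ', show Nat.find hex - 1 + 1 = Nat.find hex by omega]
    obtain ⟨b0, hb0, hb0t⟩ : ∃ b0 ∈ P, π (t * b0 * t⁻¹) ≠ π b0 := by
      have := Nat.find_min hex (show Nat.find hex - 1 < Nat.find hex by omega)
      simp only [hmov] at this
      push Not at this
      exact this
    -- `t * t` centralises `P`
    have hcomm_E : Commute ((t * t : G) : G ⧸ E) ((y : G) : G ⧸ E) := by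
      have e1 : ((u : G) : G ⧸ E) * y * ((u : G) : G ⧸ E)⁻¹ = ((y : G) : G ⧸ E)⁻¹ := by
        refine eq_inv_of_mul_eq_one_left ?_
        have := (QuotientGroup.eq_one_iff _).mpr hinv
        simpa only [QuotientGroup.mk_mul, QuotientGroup.mk_inv] using this
      have e2 : Commute (((u : G) : G ⧸ E) ^ 2) ((y : G) : G ⧸ E) := by
        refine mul_inv_eq_iff_eq_mul.mp ?_
        calc ((u : G) : G ⧸ E) ^ 2 * y * (((u : G) : G ⧸ E) ^ 2)⁻¹
            = (u : G ⧸ E) * ((u : G ⧸ E) * y * (u : G ⧸ E)⁻¹) * (u : G ⧸ E)⁻¹ := by rw [sq]; group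
          _ = (u : G ⧸ E) * ((y : G) : G ⧸ E)⁻¹ * (u : G ⧸ E)⁻¹ := by rw [e1]
          _ = ((u : G ⧸ E) * y * (u : G ⧸ E)⁻¹)⁻¹ := by group
          _ = _ := by rw [e1, inv_inv]
      rw [htt, QuotientGroup.mk_pow, show Nat.find hex = Nat.find hex - 1 + 1 by omega, pow_succ', pow_mul]
      exact e2.pow_left _
    have hT : ∀ a ∈ P, t * t * a * (t * t)⁻¹ * a⁻¹ ∈ Z := fun a ha => hπ.mp (by
      rw [map_mul, htt, Nat.find_spec hex a ha, map_inv, mul_inv_cancel])
    have hTy : ∀ a ∈ P, (t * t) * (a⁻¹ * (y * a * y⁻¹)) * (t * t)⁻¹ = a⁻¹ * (y * a * y⁻¹) := by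
      intro a ha
      set z := t * t * a * (t * t)⁻¹ * a⁻¹
      have hz : z ∈ Z := hT a ha
      have h1 : (t * t) * (y * a * y⁻¹) * (t * t)⁻¹ = z * (y * a * y⁻¹) := by
        have hmem : (y * (t * t))⁻¹ * ((t * t) * y) ∈ E := by
          rw [← QuotientGroup.eq, QuotientGroup.mk_mul, QuotientGroup.mk_mul]
          exact hcomm_E.eq.symm
        calc (t * t) * (y * a * y⁻¹) * (t * t)⁻¹
            = (y * (t * t)) * ((y * (t * t))⁻¹ * ((t * t) * y) * a * ((y * (t * t))⁻¹ * ((t * t) * y))⁻¹) *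
              (y * (t * t))⁻¹ := by group
          _ = (y * (t * t)) * a * (y * (t * t))⁻¹ := by rw [hEA hmem ha, mul_inv_cancel_right]
          _ = (y * z * y⁻¹) * (y * a * y⁻¹) := by simp only [z]; group
          _ = _ := by rw [hfix hz]
      calc (t * t) * (a⁻¹ * (y * a * y⁻¹)) * (t * t)⁻¹ = (z * a)⁻¹ * ((t * t) * (y * a * y⁻¹) * (t * t)⁻¹) := by
            simp only [z]
            generalize t * t = T
            group
        _ = _ := by rw [h1]; group
    set V := P.map π
    have hV : ∀ v ∈ V, v⁻¹ * (π y * v * (π y)⁻¹) ∈ V := by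
      rintro _ ⟨a, ha, rfl⟩
      exact ⟨a⁻¹ * (y * a * y⁻¹), P.mul_mem (P.inv_mem ha) (hPn.conj_mem a ha y), by simp⟩
    have hVc : ∀ v ∈ V, ∀ w ∈ V, v * w = w * v := by
      rintro _ ⟨a, ha, rfl⟩ _ ⟨b, hb, rfl⟩
      exact hπc a ha b hb
    let δ : V → V := fun v => ⟨_, hV v v.2⟩
    have hδ : Function.Surjective δ := by
      refine Finite.injective_iff_surjective.mp fun v w e => ?_
      have e' : (v : G ⧸ Z)⁻¹ * (π y * v * (π y)⁻¹) = (w : G ⧸ Z)⁻¹ * (π y * w * (π y)⁻¹) := congrArg Subtype.val e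
      obtain ⟨a, ha, hav⟩ := V.mul_mem v.2 (V.inv_mem w.2)
      have hvw : π y * ((v : G ⧸ Z) * (w : G ⧸ Z)⁻¹) * (π y)⁻¹ = (v : G ⧸ Z) * (w : G ⧸ Z)⁻¹ := by
        have e1 : π y * v * (π y)⁻¹ = v * ((w : G ⧸ Z)⁻¹ * (π y * w * (π y)⁻¹)) := by rw [← e']; group
        exact translate_eq e1
      rw [← hav] at hvw
      have hya := htriv y hy2 a ha (by rw [map_mul, map_mul, map_inv]; exact hvw)
      rw [hπ.mpr (fpf y hyE hy2 a ha hya)] at hav
      exact Subtype.ext (mul_inv_eq_one.mp hav.symm)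
    have hTE : ∀ a ∈ P, t * t * a * (t * t)⁻¹ = a := by
      intro a ha
      obtain ⟨⟨_, b, hb, rfl⟩, e⟩ := hδ ⟨π a, a, ha, rfl⟩
      have e' : π (b⁻¹ * (y * b * y⁻¹)) = π a := by
        have := congrArg Subtype.val e
        simpa only [δ, map_mul, map_inv] using this
      have hz : a * (b⁻¹ * (y * b * y⁻¹))⁻¹ ∈ Z := hπ.mp (by rw [map_mul, map_inv, e', mul_inv_cancel])
      calc t * t * a * (t * t)⁻¹
          = (t * t * (a * (b⁻¹ * (y * b * y⁻¹))⁻¹) * (t * t)⁻¹) * (t * t * (b⁻¹ * (y * b * y⁻¹)) * (t * t)⁻¹) := by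
            group
        _ = _ := by rw [hfix hz, hTy b hb, inv_mul_cancel_right]
    -- the elements `a⁻¹ tat⁻¹`
    set c : G → G := fun a => a⁻¹ * (t * a * t⁻¹) with hc
    have hcmem : ∀ a ∈ P, c a ∈ P := fun a ha => P.mul_mem (P.inv_mem ha) (hPn.conj_mem a ha t)
    have hta : ∀ a ∈ P, t * (t * a * t⁻¹) * t⁻¹ = a := by
      intro a ha
      nth_rewrite 2 [← hTE a ha]
      group
    have hct : ∀ a ∈ P, t * c a * t⁻¹ = (c a)⁻¹ := by
      intro a ha
      calc t * c a * t⁻¹ = (t * a * t⁻¹)⁻¹ * (t * (t * a * t⁻¹) * t⁻¹) := by simp only [hc]; group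
        _ = _ := by rw [hta a ha]; simp only [hc]; group
    have hca : ∀ a ∈ P, c a * a = a * (c a)⁻¹ := by
      intro a ha
      have h1 : a * c a * (a * c a) = a * a :=
        calc a * c a * (a * c a) = t * (a * a) * t⁻¹ := by simp only [hc]; group
          _ = _ := hfix (hsq a ha) t
      have h2 : c a * a * c a = a := mul_left_cancel (a := a) (by rw [← h1]; group)
      rw [eq_mul_inv_iff_mul_eq]
      exact h2
    have hat : ∀ a ∈ P, a * t * c a = c a * (a * t) := by
      intro a ha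
      calc a * t * c a = a * (t * c a * t⁻¹) * t := by group
        _ = a * (c a)⁻¹ * t := by rw [hct a ha]
        _ = _ := by rw [← hca a ha, mul_assoc]
    have hcc : ∀ a ∈ P, ∀ b ∈ P, c a * c b = c b * c a := by
      intro a ha b hb
      set x := c b
      have hx := hcmem b hb
      set kk := a * x * a⁻¹ * x⁻¹
      have hk : kk ∈ Z := by
        have := hder (Subgroup.commutator_mem_commutator ha hx)
        rwa [commutatorElement_def] at this
      have hkc : ∀ g, g * kk * g⁻¹ = kk := hfix hk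
      have hkk : kk * kk = 1 := by
        have h1 : a * a * x * (a * a)⁻¹ = x := by
          rw [← Subgroup.mem_center_iff.mp (hsq a ha) x, mul_inv_cancel_right]
        have h2 : a * a * x * (a * a)⁻¹ = kk * kk * x :=
          calc a * a * x * (a * a)⁻¹ = (a * kk * a⁻¹) * (a * x * a⁻¹) := by simp only [kk]; group
            _ = _ := by rw [hkc]; simp only [kk]; group
        exact mul_eq_right.mp (h2.symm.trans h1)
      have hx' : t⁻¹ * x * t = x⁻¹ := by
        have := hct b hb
        change t * x * t⁻¹ = x⁻¹ at this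
        rw [eq_inv_iff_mul_eq_one] at this
        rw [eq_inv_iff_mul_eq_one]
        calc t⁻¹ * x * t * x = t⁻¹ * (x * (t * x * t⁻¹)) * t := by group
          _ = 1 := by
            rw [show x * (t * x * t⁻¹) = x * ((t * x * t⁻¹) * x) * x⁻¹ by group, this]; group
      have hta' : (t * a * t⁻¹) * x * (t * a * t⁻¹)⁻¹ = kk⁻¹ * x := by
        have e : a * x⁻¹ * a⁻¹ = x⁻¹ * kk⁻¹ := by simp only [kk]; group
        calc (t * a * t⁻¹) * x * (t * a * t⁻¹)⁻¹ = t * (a * (t⁻¹ * x * t) * a⁻¹) * t⁻¹ := by group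
          _ = t * (x⁻¹ * kk⁻¹) * t⁻¹ := by rw [hx', e]
          _ = (t * x * t⁻¹)⁻¹ * (t * kk * t⁻¹)⁻¹ := by group
          _ = x * kk⁻¹ := by rw [hct b hb, inv_inv, hkc]
          _ = _ := by rw [Subgroup.mem_center_iff.mp (Z.inv_mem hk) x]
      have hainv : a⁻¹ * x * a = kk⁻¹ * x := by
        calc a⁻¹ * x * a = (a⁻¹ * kk⁻¹ * a⁻¹⁻¹) * x := by simp only [kk]; group
          _ = _ := by rw [hfix (Z.inv_mem hk)]
      refine mul_inv_eq_iff_eq_mul.mp ?_
      calc c a * x * (c a)⁻¹ = a⁻¹ * ((t * a * t⁻¹) * x * (t * a * t⁻¹)⁻¹) * a := by simp only [hc]; group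
        _ = (a⁻¹ * kk⁻¹ * a⁻¹⁻¹) * (a⁻¹ * x * a) := by rw [hta']; group
        _ = x := by
          rw [hfix (Z.inv_mem hk), hainv, ← mul_assoc, ← mul_inv_rev, hkk, inv_one, one_mul]
    have hH := ne_top_of_solvable h.nonsolv (isSolvable_sup_zpowers hPsolv (normal_le_normalizer P t))
    have hMc : ∀ a ∈ P, c a ∉ Z → ∀ m ∈ P, m * c a = c a * m →
        (a * t * m = m * (a * t)) ∧ ∀ m' ∈ P, m' * c a = c a * m' → m * m' = m' * m := by
      intro a ha hca0 m hm hmc
      obtain ⟨w, hw, hwc⟩ := hncP _ (hcmem a ha) hca0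
      have hatH : a * t ∈ P ⊔ Subgroup.zpowers t :=
        Subgroup.mul_mem _ (Subgroup.mem_sup_left ha) (Subgroup.mem_sup_right (Subgroup.mem_zpowers t))
      exact ⟨h.comm hH (Subgroup.mem_sup_left (hcmem a ha)) hatH (Subgroup.mem_sup_left hm) (Subgroup.mem_sup_left hw)
          (hat a ha) hmc hwc,
        fun m' hm' hm'c => h.comm hH (Subgroup.mem_sup_left (hcmem a ha)) (Subgroup.mem_sup_left hm)
          (Subgroup.mem_sup_left hm') (Subgroup.mem_sup_left hw) hmc hm'c hwc⟩
    have hZiff : ∀ a, c a ∈ Z ↔ π (t * a * t⁻¹) = π a := by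
      intro a
      rw [← hπ]
      simp only [hc, map_mul, map_inv, inv_mul_eq_one]
      exact eq_comm
    have hc0 : c b0 ∉ Z := fun e => hb0t ((hZiff b0).mp e)
    set M := P ⊓ Subgroup.centralizer ({c b0} : Set G)
    have hmemM : ∀ {m}, m ∈ M ↔ m ∈ P ∧ m * c b0 = c b0 * m := fun {m} => by
      rw [Subgroup.mem_inf, Subgroup.mem_centralizer_singleton_iff]
    have hMeq : ∀ a ∈ P, c a ∉ Z → ∀ m ∈ M, m * c a = c a * m := fun a ha _ m hm =>
      (hMc b0 hb0 hc0 m (hmemM.mp hm).1 (hmemM.mp hm).2).2 _ (hcmem a ha) (hcc a ha b0 hb0)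
    have hMab : ∀ m ∈ M, ∀ m' ∈ M, m * m' = m' * m := fun m hm m' hm' =>
      (hMc b0 hb0 hc0 m (hmemM.mp hm).1 (hmemM.mp hm).2).2 m' (hmemM.mp hm').1 (hmemM.mp hm').2
    have hcoset : ∀ x ∈ P, c x ∉ Z → x * b0⁻¹ ∈ M := by
      intro x hx hcx
      refine hmemM.mpr ⟨P.mul_mem hx (P.inv_mem hb0), ?_⟩
      have hm : c b0 ∈ M := hmemM.mpr ⟨hcmem b0 hb0, rfl⟩
      have h1 : Commute (x * t) (c b0) := (hMc x hx hcx _ (hcmem b0 hb0) (hMeq x hx hcx _ hm)).1
      have h2 : Commute (b0 * t) (c b0) := (hMc b0 hb0 hc0 _ (hcmem b0 hb0) rfl).1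
      have := h1.mul_left h2.inv_left
      rw [show x * t * (b0 * t)⁻¹ = x * b0⁻¹ by group] at this
      exact this.eq
    have hK : ∀ x ∈ P, c x ∈ Z → x ∈ M := by
      intro x hx hcx
      have := hcoset (x * b0) (P.mul_mem hx hb0) fun e => hb0t (by
        have e1 := (hZiff x).mp hcx
        have e2 := (hZiff _).mp e
        simp only [map_mul, map_inv] at e1 e2 ⊢
        rw [show π t * (π x * π b0) * (π t)⁻¹ = (π t * π x * (π t)⁻¹) * (π t * π b0 * (π t)⁻¹) by group, e1] at e2
        exact mul_left_cancel e2)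
      rwa [mul_inv_cancel_right] at this
    have htwo : ∀ x ∈ P, x ∈ M ∨ x * b0⁻¹ ∈ M := fun x hx => by
      by_cases e : c x ∈ Z
      · exact Or.inl (hK x hx e)
      · exact Or.inr (hcoset x hx e)
    have hMlt : M < P := lt_of_le_of_ne inf_le_left fun e => hc0 (hcP _ (hcmem b0 hb0) fun b hb =>
      (hmemM.mp (e.symm ▸ hb : b ∈ M)).2)
    by_cases hMn : M.Normal
    · apply hnab
      have hMZ := hmin M hMn hMlt
      intro x hx x' hx'
      have key : ∀ x ∈ P, ∃ z ∈ Z, x = z ∨ x = z * b0 := fun x hx => (htwo x hx).elim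
        (fun e => ⟨x, hMZ e, Or.inl rfl⟩) (fun e => ⟨x * b0⁻¹, hMZ e, Or.inr (by group)⟩)
      obtain ⟨z, hz, hxz⟩ := key x hx
      obtain ⟨z', hz', hxz'⟩ := key x' hx'
      have c1 : ∀ g, Commute z g := fun g => (Subgroup.mem_center_iff.mp hz g).symm
      have c2 : ∀ g, Commute z' g := fun g => (Subgroup.mem_center_iff.mp hz' g).symm
      rcases hxz with rfl | rfl <;> rcases hxz' with rfl | rfl
      · exact (c1 _).eq
      · exact (c1 _).eq
      · exact (c2 _).symm.eq
      · exact ((((c2 z).symm.mul_right (c1 b0)).mul_left ((c2 b0).symm.mul_right (Commute.refl b0)))).eq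
    · obtain ⟨m, hm, g, hgm⟩ : ∃ m ∈ M, ∃ g, g * m * g⁻¹ ∉ M := by
        by_contra hall
        push Not at hall
        exact hMn ⟨hall⟩
      set M' := M.map (MulAut.conj g).toMonoidHom
      have hM'ab : ∀ a ∈ M', ∀ b ∈ M', a * b = b * a := by
        rintro _ ⟨a, ha, rfl⟩ _ ⟨b, hb, rfl⟩
        rw [← map_mul, ← map_mul, hMab a ha b hb]
      have hm' : g * m * g⁻¹ ∈ M' := ⟨m, hm, rfl⟩
      have hm'P : g * m * g⁻¹ ∈ P := hPn.conj_mem m (hmemM.mp hm).1 g
      have hinter : ∀ x ∈ M, x ∈ M' → x ∈ Z := by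
        intro x hxM hxM'
        refine hcP x (hmemM.mp hxM).1 fun b hb => ?_
        have hm'b0 : g * m * g⁻¹ * b0⁻¹ ∈ M := (htwo _ hm'P).resolve_left hgm
        have h1 : Commute x (g * m * g⁻¹) := hM'ab x hxM' _ hm'
        rcases htwo b hb with e | e
        · exact hMab b e x hxM
        · have h2 : Commute x (b * (g * m * g⁻¹)⁻¹) := hMab x hxM _ (by
            have := M.mul_mem e (M.inv_mem hm'b0)
            rwa [show b * b0⁻¹ * (g * m * g⁻¹ * b0⁻¹)⁻¹ = b * (g * m * g⁻¹)⁻¹ by group] at this)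
          have := h2.mul_right h1
          rw [inv_mul_cancel_right] at this
          exact this.eq.symm
      have hin2 : ∀ x ∈ P, ∀ x' ∈ P, (x ∈ M ↔ x' ∈ M) → x * x'⁻¹ ∈ M := by
        intro x hx x' hx' hiff
        by_cases e : x ∈ M
        · exact M.mul_mem e (M.inv_mem (hiff.mp e))
        · have := M.mul_mem ((htwo x hx).resolve_left e) (M.inv_mem ((htwo x' hx').resolve_left (fun e' => e (hiff.mpr e'))))
          rwa [show x * b0⁻¹ * (x' * b0⁻¹)⁻¹ = x * x'⁻¹ by group] at this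
      have hmemM' : ∀ x, x ∈ M' ↔ g⁻¹ * x * g ∈ M := by
        intro x
        constructor
        · rintro ⟨a, ha, rfl⟩
          show g⁻¹ * (g * a * g⁻¹) * g ∈ M
          rwa [show g⁻¹ * (g * a * g⁻¹) * g = a by group]
        · intro hh
          exact ⟨_, hh, by show g * (g⁻¹ * x * g) * g⁻¹ = x; group⟩
      have hsame : ∀ x ∈ P, ∀ x' ∈ P, (x ∈ M ↔ x' ∈ M) → (x ∈ M' ↔ x' ∈ M') → π x = π x' := by
        intro x hx x' hx' i1 i2
        rw [← mul_inv_eq_one, ← map_inv, ← map_mul, hπ]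
        refine hinter _ (hin2 x hx x' hx' i1) ((hmemM' _).mpr ?_)
        have := hin2 _ (hPn.conj_mem' x hx g) _ (hPn.conj_mem' x' hx' g) (by rw [← hmemM', ← hmemM']; exact i2)
        rwa [show g⁻¹ * x * g * (g⁻¹ * x' * g)⁻¹ = g⁻¹ * (x * x'⁻¹) * g by group] at this
      let ψ : V → Bool × Bool := fun v =>
        (decide (v.2.choose ∈ M), decide (v.2.choose ∈ M'))
      have hψ : Function.Injective ψ := by
        intro v w e
        simp only [ψ, Prod.mk.injEq, decide_eq_decide] at e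
        have := hsame _ v.2.choose_spec.1 _ w.2.choose_spec.1 e.1 e.2
        rw [v.2.choose_spec.2, w.2.choose_spec.2] at this
        exact Subtype.ext this
      apply h.nonsolv
      haveI : V.Normal := (inferInstance : P.Normal).map π (QuotientGroup.mk'_surjective Z)
      let act : G →* Equiv.Perm V :=
        { toFun := fun g => (MulAut.conjNormal (π g)).toEquiv
          map_one' := by ext v; simp
          map_mul' := fun a b => by ext v; simp [MulAut.mul_apply] }
      have hker : act.ker ≤ stab P (P ⊓ Z) := by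
        intro x hx
        refine mem_stab.mpr ⟨fun w hw => (Subgroup.mem_center_iff.mp hw.2 x).symm, fun a ha => Subgroup.mem_inf.mpr
          ⟨P.mul_mem (hPn.conj_mem a ha x) (P.inv_mem ha), hπ.mp ?_⟩⟩
        have e := DFunLike.congr_fun (MonoidHom.mem_ker.mp hx) ⟨π a, a, ha, rfl⟩
        have e' : π x * π a * (π x)⁻¹ = π a := congrArg Subtype.val e
        simp only [map_mul, map_inv, e', mul_inv_cancel]
      refine isSolvable_of_hom act (isSolvable_of_le hker (isSolvable_stab inf_le_left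
        (fun a ha b _ => (Subgroup.mem_center_iff.mp ha.2 b).symm) hE)) ?_
      haveI : Group.IsSolvable (Equiv.Perm (Bool × Bool)) :=
        CfsgLib.CharTheory.isSolvable_of_card_two_primes Nat.prime_two Nat.prime_three
          (a := 3) (b := 1) (by rw [Nat.card_perm]; simp [Nat.card_eq_fintype_card, Nat.factorial])
      haveI : Group.IsSolvable (Equiv.Perm V) := Group.isSolvable_of_isSolvable_injective
        (f := Equiv.Perm.viaEmbeddingHom ⟨ψ, hψ⟩) (Equiv.Perm.viaEmbeddingHom_injective _)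
      infer_instance
  · obtain ⟨g, hgE, hg2, k, hgk⟩ := exists_lift_involution h hE
    have hgp : Nat.Coprime (orderOf g) p := Nat.Coprime.coprime_dvd_left (orderOf_dvd_of_pow_eq_one hgk)
      (Nat.Coprime.pow_left k ((Nat.coprime_primes Nat.prime_two Fact.out).mpr (Ne.symm hp)))
    apply hgE
    refine no_inverting h hIH hp hP (W := P ⊓ Z) inf_le_left
      (fun a ha b _ => (Subgroup.mem_center_iff.mp ha.2 b).symm) hE ⟨k, hgk⟩
      (fun w hw => Subgroup.mem_center_iff.mp hw.2 g) fun a ha => ?_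
    have ha' := hPn.conj_mem a ha g
    refine Subgroup.mem_inf.mpr ⟨P.mul_mem ha' ha, fpf g hgE hgp _ (P.mul_mem ha' ha) ?_⟩
    set z := a * (g * a * g⁻¹) * a⁻¹ * (g * a * g⁻¹)⁻¹
    have hz : z ∈ Z := by
      have := hder (Subgroup.commutator_mem_commutator ha ha')
      rwa [commutatorElement_def] at this
    have hzP : z ∈ P := P.mul_mem (P.mul_mem (P.mul_mem ha ha') (P.inv_mem ha)) (P.inv_mem ha')
    have h1 : g * (g * a * g⁻¹ * a) * g⁻¹ = (g * a * g⁻¹ * a) * z := by
      calc g * (g * a * g⁻¹ * a) * g⁻¹ = (g * g) * a * (g * g)⁻¹ * (g * a * g⁻¹) := by group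
        _ = a * (g * a * g⁻¹) := by rw [hEA hg2 ha, mul_inv_cancel_right]
        _ = z * (g * a * g⁻¹ * a) := by simp only [z]; group
        _ = _ := (Subgroup.mem_center_iff.mp hz _).symm
    exact fixed_of_translate hP hzP hgp (hfix hz g) h1

/-- A non-central solvable normal subgroup contains a minimal one of prime power order. -/
theorem radical_step (h : Hyp G) (hIH : RadIH G) {N : Subgroup G} (hNn : N.Normal) (hN : Group.IsSolvable N) :
    N ≤ Subgroup.center G := by
  classical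
  set Z := Subgroup.center G
  by_contra hle
  have key : ∀ n (Q : Subgroup G), Nat.card Q ≤ n → Q.Normal → Group.IsSolvable Q → Q ≤ Z := by
    intro n
    induction n with
    | zero => intro Q hQ; have : 0 < Nat.card Q := Nat.card_pos; omega
    | succ n ih =>
      intro Q hQn hQnorm hQs
      haveI := hQnorm
      haveI := hQs
      have hsmall : ∀ R : Subgroup G, R.Normal → R < Q → R ≤ Z := fun R hR hRQ => ih R (by
          have hlt : Nat.card R < Nat.card Q := by
            by_contra hge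
            exact hRQ.ne (Subgroup.eq_of_le_of_card_ge hRQ.le (Nat.le_of_not_lt hge))
          omega) hR (isSolvable_of_le hRQ.le hQs)
      by_contra hQZ
      have hQne : Q ≠ ⊥ := fun e => hQZ (e ▸ bot_le)
      have hder : ⁅Q, Q⁆ ≤ Z := hsmall _ inferInstance (commutator_lt_self hQs hQne)
      haveI : Group.IsNilpotent Q := by
        refine Group.of_quotient_center_nilpotent ?_
        letI : CommGroup (Q ⧸ Subgroup.center Q) := { (inferInstance : Group (Q ⧸ Subgroup.center Q)) with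
          mul_comm := fun a b => by
            induction a using QuotientGroup.induction_on with
            | H a =>
              induction b using QuotientGroup.induction_on with
              | H b =>
                rw [← QuotientGroup.mk_mul, ← QuotientGroup.mk_mul, QuotientGroup.eq, Subgroup.mem_center_iff]
                intro q
                refine Subtype.ext (Subgroup.mem_center_iff.mp ?_ (q : G))
                have hm := hder (Subgroup.commutator_mem_commutator (Q.inv_mem b.2) (Q.inv_mem a.2))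
                rw [commutatorElement_def, inv_inv, inv_inv] at hm
                show ((a : G) * b)⁻¹ * ((b : G) * a) ∈ Z
                rwa [mul_inv_rev, ← mul_assoc] }
        exact CommGroup.isNilpotent
      have hall : ∀ p : ℕ, p.Prime → ∀ S : Sylow p Q, (S : Subgroup Q).map Q.subtype ≤ Z := by
        intro p hp S
        haveI : Fact p.Prime := ⟨hp⟩
        haveI : (S : Subgroup Q).Normal := S.normal_of_normalizerCondition Group.normalizerCondition_of_isNilpotent
        haveI : (S : Subgroup Q).Characteristic := Sylow.characteristic_of_normal S inferInstance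
        haveI hSn : ((S : Subgroup Q).map Q.subtype).Normal := ConjAct.normal_of_characteristic_of_normal
        by_cases hSQ : (S : Subgroup Q).map Q.subtype = Q
        · rw [hSQ]
          have hPQ : IsPGroup p Q := by
            have h1 := S.2.map Q.subtype
            rwa [hSQ] at h1
          exact minimal_central h hIH hPQ hsmall
        · exact hsmall _ hSn (lt_of_le_of_ne (by rintro _ ⟨x, _, rfl⟩; exact x.2) hSQ)
      apply hQZ
      have hdvd : Nat.card Q ∣ Nat.card (Q ⊓ Z : Subgroup G) := by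
        rw [Nat.dvd_iff_prime_pow_dvd_dvd]
        intro p k hp hpk
        haveI : Fact p.Prime := ⟨hp⟩
        obtain ⟨S⟩ : Nonempty (Sylow p Q) := inferInstance
        refine dvd_trans ?_ (Subgroup.card_dvd_of_le (le_inf (by rintro _ ⟨x, _, rfl⟩; exact x.2) (hall p hp S) :
          (S : Subgroup Q).map Q.subtype ≤ Q ⊓ Z))
        rw [Subgroup.card_map_of_injective Q.subtype_injective]
        exact S.pow_dvd_card_of_pow_dvd_card hpk
      have heq := Subgroup.eq_of_le_of_card_ge (inf_le_left : Q ⊓ Z ≤ Q) (Nat.le_of_dvd Nat.card_pos hdvd)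
      exact inf_eq_left.mp heq
  exact hle (key _ N le_rfl hNn hN)

/-- Solvable normal subgroups are central. -/
theorem Hyp.solvable_normal_le_center : ∀ {G : Type u} [Group G] [Finite G], Hyp G →
    ∀ N : Subgroup G, N.Normal → Group.IsSolvable N → N ≤ Subgroup.center G := by
  suffices main : ∀ n, ∀ (G : Type u) [Group G] [Finite G], Nat.card G = n → Hyp G →
      ∀ N : Subgroup G, N.Normal → Group.IsSolvable N → N ≤ Subgroup.center G from
    fun {G} _ _ h => main _ G rfl h
  intro n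
  induction n using Nat.strong_induction_on with
  | _ n ih =>
    intro G _ _ hn h N hNn hN
    refine radical_step h ?_ hNn hN
    intro M hM hMns R hRM hRn hRs r hr m hm
    have hlt : Nat.card M < n := by
      rw [← hn]
      exact lt_of_le_of_ne (Subgroup.card_le_card_group M) fun e => hM (Subgroup.eq_top_of_card_eq M e)
    haveI hR' : (R.subgroupOf M).Normal := ⟨fun x hx y => hRn y y.2 x hx⟩
    have hRs' : Group.IsSolvable (R.subgroupOf M) :=
      haveI := hRs
      Group.isSolvable_of_isSolvable_injective (f := (Subgroup.subgroupOfEquivOfLe hRM).toMonoidHom)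
        (Subgroup.subgroupOfEquivOfLe hRM).injective
    have := ih _ hlt M rfl (h.subgroup hMns) _ hR' hRs' (show (⟨r, hRM hr⟩ : M) ∈ R.subgroupOf M from hr)
    exact congrArg Subtype.val (Subgroup.mem_center_iff.mp this ⟨m, hm⟩)

end CfsgLib.MinNonCA
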