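import Cfsg.Agent.Lib.MinNonCA.TwoSylowData
import Cfsg.Agent.Lib.MinNonCA.AbelianFinal
import Cfsg.Agent.Lib.Fusion.RankTwoSimple

/-!
A non-abelian Sylow 2-subgroup is dihedral modulo the centre.
-/

set_option autoImplicit false
set_option linter.style.haveILetI false
set_option linter.unusedSectionVars false

namespace CfsgLib.MinNonCA

open Subgroup

universe u

variable {L : Type u} [Group L] [Finite L]

namespace TwoData

variable (D : TwoData L)

/-- The image of the Sylow subgroup. -/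
noncomputable def Sbar : Sylow 2 (L ⧸ Subgroup.center L) :=
  haveI : Fact (Nat.Prime 2) := ⟨Nat.prime_two⟩
  D.S.mapSurjective (QuotientGroup.mk'_surjective _)

theorem mem_Sbar {x : L ⧸ Subgroup.center L} :
    x ∈ (D.Sbar : Subgroup (L ⧸ Subgroup.center L)) ↔ ∃ s ∈ (D.S : Subgroup L), π s = x := Iff.rfl

/-- A moving element is not congruent to a fixing one. -/
theorem π_ne {x u : L} (hx : x * D.a ≠ D.a * x) (hu : u * D.a = D.a * u) : π x ≠ π u := fun e => hx (by
  obtain ⟨w, hw, rfl⟩ := π_eq e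
  exact ((show Commute u D.a from hu).mul_left (Subgroup.mem_center_iff.mp hw D.a).symm).eq)

include D in
theorem four_le_card : 4 ≤ Nat.card (L ⧸ Subgroup.center L) := by
  haveI : Fact (Nat.Prime 2) := ⟨Nat.prime_two⟩
  obtain ⟨x, hx, hxa⟩ := D.exists_moving
  obtain ⟨k, hk⟩ := D.Sbar.2.exists_card_eq
  refine le_trans ?_ (Nat.le_of_dvd Nat.card_pos (D.Sbar : Subgroup _).card_subgroup_dvd_card)
  rw [hk]
  have h3 : 3 ≤ Nat.card (D.Sbar : Subgroup (L ⧸ Subgroup.center L)) := by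
    classical
    haveI := Fintype.ofFinite (D.Sbar : Subgroup (L ⧸ Subgroup.center L))
    let f : Fin 3 → (D.Sbar : Subgroup (L ⧸ Subgroup.center L)) :=
      ![1, ⟨π D.a, D.mem_Sbar.mpr ⟨D.a, D.ha, rfl⟩⟩, ⟨π x, D.mem_Sbar.mpr ⟨x, hx, rfl⟩⟩]
    have h1 : π D.a ≠ (1 : L ⧸ Subgroup.center L) := fun e => D.haZ (π_eq_one.mp e)
    have h2 : π x ≠ π D.a := D.π_ne hxa rfl
    have h3 : π x ≠ (1 : L ⧸ Subgroup.center L) := fun e =>
      D.π_ne hxa (show (1 : L) * D.a = D.a * 1 by group) (e.trans (map_one π).symm)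
    have hf : Function.Injective f := by
      intro i j e
      have e' := congrArg Subtype.val e
      fin_cases i <;> fin_cases j <;>
        first
        | rfl
        | exact absurd e' h1
        | exact absurd e'.symm h1
        | exact absurd e' h2
        | exact absurd e'.symm h2
        | exact absurd e' h3
        | exact absurd e'.symm h3
    simpa using Nat.card_le_card_of_injective f hf
  rw [hk] at h3
  rcases k with _ | _ | k
  · norm_num at h3
  · norm_num at h3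
  · exact le_trans (by norm_num : 4 ≤ 2 ^ 2) (Nat.pow_le_pow_right two_pos (by omega))

/-- With index two, `C_S(a)` has a single involution modulo the centre. -/
theorem no_second (h2 : ∀ x ∈ (D.S : Subgroup L), ∀ y ∈ (D.S : Subgroup L), x * D.a ≠ D.a * x →
      y * D.a ≠ D.a * y → (x⁻¹ * y) * D.a = D.a * (x⁻¹ * y))
    {b : L} (hb : b ∈ (D.S : Subgroup L)) (hba : b * D.a = D.a * b) (hb2 : b * b ∈ Subgroup.center L) :
    b ∈ Subgroup.center L ∨ D.a * b ∈ Subgroup.center L := by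
  by_contra hne
  simp only [not_or] at hne
  obtain ⟨hbZ, habZ⟩ := hne
  haveI : Fact (Nat.Prime 2) := ⟨Nat.prime_two⟩
  haveI := D.q.simple
  set T := (D.Sbar : Subgroup (L ⧸ Subgroup.center L)) with hT
  set A := (D.S : Subgroup L) ⊓ Subgroup.centralizer ({D.a} : Set L) with hA
  have hmemA : ∀ {x}, x ∈ A ↔ x ∈ (D.S : Subgroup L) ∧ x * D.a = D.a * x := fun {x} => by
    rw [hA, Subgroup.mem_inf, Subgroup.mem_centralizer_singleton_iff]
  obtain ⟨x, hx, hxa⟩ := D.exists_moving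
  set M := A.map π with hM
  have hMT : M ≤ T := by
    rintro _ ⟨s, hs, rfl⟩
    exact D.mem_Sbar.mpr ⟨s, (hmemA.mp hs).1, rfl⟩
  have hxM : π x ∉ M := by
    rintro ⟨u, hu, e⟩
    exact D.π_ne hxa (hmemA.mp hu).2 e.symm
  have hxT : π x ∈ T := D.mem_Sbar.mpr ⟨x, hx, rfl⟩
  -- index
  have hrel : M.relIndex T = 2 := by
    refine Subgroup.index_eq_two_iff.mpr ⟨⟨π x, hxT⟩, ?_⟩
    rintro ⟨c, hc⟩
    obtain ⟨s, hs, rfl⟩ := D.mem_Sbar.mp hc
    rw [Subgroup.mem_subgroupOf, Subgroup.mem_subgroupOf]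
    show Xor (π s * π x ∈ M) (π s ∈ M)
    by_cases hsa : s * D.a = D.a * s
    · have hsM : π s ∈ M := ⟨s, hmemA.mpr ⟨hs, hsa⟩, rfl⟩
      exact Or.inr ⟨hsM, fun h => hxM (by simpa using mul_mem (inv_mem hsM) h)⟩
    · refine Or.inl ⟨⟨s * x, hmemA.mpr ⟨mul_mem hs hx, ?_⟩, map_mul π s x⟩, fun h => ?_⟩
      · have hs' : s⁻¹ * D.a ≠ D.a * s⁻¹ := fun e => hsa (by
          have := (show Commute s⁻¹ D.a from e).inv_left
          rw [inv_inv] at this
          exact this.eq)
        have := h2 s⁻¹ (inv_mem hs) x hx hs' hxa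
        rwa [inv_inv] at this
      · obtain ⟨u, hu, e⟩ := h
        exact D.π_ne hsa (hmemA.mp hu).2 e.symm
  have hidx : M.index = 2 * T.index := by rw [← Subgroup.relIndex_mul_index hMT, hrel]
  have hodd : Odd T.index := Nat.not_even_iff_odd.mp fun h => D.Sbar.not_dvd_index (even_iff_two_dvd.mp h)
  have hxx : π x * π x = 1 := by rw [← map_mul, π_eq_one.mpr (D.sq_center hx hxa)]
  by_cases hex : ∀ g, g⁻¹ * π x * g ∉ M
  · obtain ⟨K, hK, hK2⟩ := CfsgLib.RankTwoSimple.exists_index_two M hidx hodd hxx hex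
    exact CfsgLib.RankTwoSimple.not_index_two D.four_le_card hK hK2
  push Not at hex
  obtain ⟨g₀, u, hu, hgu⟩ := hex
  obtain ⟨huS, hua⟩ := hmemA.mp hu
  -- `π u` is central in `T`
  have hu2 : (π u)⁻¹ = π u := inv_eq_of_mul_eq_one_right (by
    rw [hgu, show g₀⁻¹ * π x * g₀ * (g₀⁻¹ * π x * g₀) = g₀⁻¹ * (π x * π x) * g₀ by group, hxx]; group)
  have hucen : ∀ c ∈ T, c * π u = π u * c := by
    intro c hc
    obtain ⟨s, hs, rfl⟩ := D.mem_Sbar.mp hc
    by_cases hsa : s * D.a = D.a * s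
    · rw [← map_mul, ← map_mul, D.cent_comm hsa hua]
    · have h := D.inverts huS hua hs hsa
      rw [map_mul, map_mul, map_inv, hu2] at h
      exact mul_inv_eq_iff_eq_mul.mp h
  -- the four-group with `x`
  let E : Subgroup (L ⧸ Subgroup.center L) :=
    T ⊓ Subgroup.centralizer ({π x} : Set (L ⧸ Subgroup.center L))
  have hEmem : ∀ s ∈ (D.S : Subgroup L), s * D.a = D.a * s → (π s)⁻¹ = π s → π s ∈ E := fun s hs hsa hs2 => by
    refine Subgroup.mem_inf.mpr ⟨D.mem_Sbar.mpr ⟨s, hs, rfl⟩, Subgroup.mem_centralizer_singleton_iff.mpr ?_⟩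
    have h := D.inverts hs hsa hx hxa
    rw [map_mul, map_mul, map_inv, hs2] at h
    exact (mul_inv_eq_iff_eq_mul.mp h).symm
  let Cu := Subgroup.centralizer ({π u} : Set (L ⧸ Subgroup.center L))
  have hE' : E.map (MulAut.conj g₀⁻¹).toMonoidHom ≤ Cu := by
    rintro _ ⟨e, he, rfl⟩
    rw [Subgroup.mem_centralizer_singleton_iff]
    have hec := Subgroup.mem_centralizer_singleton_iff.mp (Subgroup.mem_inf.mp he).2
    show g₀⁻¹ * e * g₀⁻¹⁻¹ * π u = π u * (g₀⁻¹ * e * g₀⁻¹⁻¹)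
    rw [hgu, inv_inv, show g₀⁻¹ * e * g₀ * (g₀⁻¹ * π x * g₀) = g₀⁻¹ * (e * π x) * g₀ by group, hec]
    group
  have hTC : ∀ c ∈ T, (1 : L ⧸ Subgroup.center L) * c * 1⁻¹ ∈ Cu := fun c hc => by
    rw [one_mul, inv_one, mul_one, Subgroup.mem_centralizer_singleton_iff]
    exact hucen c hc
  obtain ⟨c, hc, hcE⟩ := exists_conj_mem D.Sbar hTC ((D.Sbar.2.to_le inf_le_left).map _) hE'
  simp only [mul_one] at hcE
  set k := c⁻¹ * g₀⁻¹ with hk
  have hkx : k * π x * k⁻¹ = π u := by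
    rw [hk, show c⁻¹ * g₀⁻¹ * π x * (c⁻¹ * g₀⁻¹)⁻¹ = c⁻¹ * (g₀⁻¹ * π x * g₀) * c by group, ← hgu, mul_assoc,
      ← Subgroup.mem_centralizer_singleton_iff.mp hc, inv_mul_cancel_left]
  have hkE : ∀ e ∈ E, k * e * k⁻¹ ∈ T := fun e he => by
    have := hcE _ ⟨e, he, rfl⟩
    rw [hk, show c⁻¹ * g₀⁻¹ * e * (c⁻¹ * g₀⁻¹)⁻¹ = c⁻¹ * (g₀⁻¹ * e * g₀⁻¹⁻¹) * c by group]
    exact this
  obtain ⟨k', hk'⟩ := QuotientGroup.mk'_surjective (Subgroup.center L) k
  have hk'' : π k' = k := hk'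
  have hout : ∀ w ∈ (D.S : Subgroup L), w * D.a = D.a * w → w ∉ Subgroup.center L →
      ∀ s ∈ (D.S : Subgroup L), π s = k * π w * k⁻¹ → ¬ s * D.a = D.a * s := by
    intro w hw hwa hwZ s hs hsw hsa
    apply hwZ
    refine D.fix_center hw hwa hx hxa ?_
    have e1 : π (k' * x * k'⁻¹) = π u := by simp only [map_mul, map_inv, hk'']; exact hkx
    have e2 : π (k' * w * k'⁻¹) = π s := by simp only [map_mul, map_inv, hk'']; exact hsw.symm
    have h1 := π_comm_of_eq e1 (π_comm_of_eq e2 (D.cent_comm hua hsa)).symm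
    rw [show k' * w * k'⁻¹ * (k' * x * k'⁻¹) = k' * (w * x) * k'⁻¹ by group,
      show k' * x * k'⁻¹ * (k' * w * k'⁻¹) = k' * (x * w) * k'⁻¹ by group] at h1
    exact (mul_left_cancel (mul_right_cancel h1)).symm
  have hainv : (π D.a)⁻¹ = π D.a := inv_eq_of_mul_eq_one_right D.π_a
  have hbinv : (π b)⁻¹ = π b := inv_eq_of_mul_eq_one_right (by rw [← map_mul, π_eq_one.mpr hb2])
  obtain ⟨s₁, hs₁, e₁⟩ := D.mem_Sbar.mp (hkE _ (hEmem D.a D.ha rfl hainv))
  obtain ⟨s₂, hs₂, e₂⟩ := D.mem_Sbar.mp (hkE _ (hEmem b hb hba hbinv))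
  have o₁ := hout D.a D.ha rfl D.haZ s₁ hs₁ e₁
  have o₂ := hout b hb hba hbZ s₂ hs₂ e₂
  have hab : (D.a * b) * D.a = D.a * (D.a * b) := by rw [mul_assoc, hba]
  refine hout (D.a * b) (mul_mem D.ha hb) hab habZ (s₁ * s₂) (mul_mem hs₁ hs₂) ?_ ?_
  · rw [map_mul, e₁, e₂, map_mul]; group
  · have hs₁' : s₁⁻¹ * D.a ≠ D.a * s₁⁻¹ := fun e => o₁ (by
      have := (show Commute s₁⁻¹ D.a from e).inv_left
      rw [inv_inv] at this
      exact this.eq)
    have := h2 s₁⁻¹ (inv_mem hs₁) s₂ hs₂ hs₁' o₂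
    rwa [inv_inv] at this

/-- In the elementary case every element has index at least four. -/
theorem elementary_all (hel : ∀ s ∈ (D.S : Subgroup L), s * s ∈ Subgroup.center L)
    (hw : ∃ x ∈ (D.S : Subgroup L), ∃ y ∈ (D.S : Subgroup L), x * D.a ≠ D.a * x ∧ y * D.a ≠ D.a * y ∧
      (x⁻¹ * y) * D.a ≠ D.a * (x⁻¹ * y))
    {t : L} (ht : t ∈ (D.S : Subgroup L)) (htZ : t ∉ Subgroup.center L) :
    ∃ x ∈ (D.S : Subgroup L), ∃ y ∈ (D.S : Subgroup L), x * t ≠ t * x ∧ y * t ≠ t * y ∧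
      (x⁻¹ * y) * t ≠ t * (x⁻¹ * y) := by
  classical
  set D' := D.change hel ht htZ with hD'
  rcases D'.index_or_elementary with h | ⟨-, h⟩
  swap
  · exact h
  exfalso
  obtain ⟨x, hx, y, hy, hxa, hya, hxya⟩ := hw
  obtain ⟨z, hz, hzt⟩ := D'.exists_moving
  change z * t ≠ t * z at hzt
  let four : Finset (L ⧸ Subgroup.center L) := {1, π t, π z, π z * π t}
  have hcover : ∀ s ∈ (D.S : Subgroup L), π s ∈ four := by
    intro s hs
    simp only [four, Finset.mem_insert, Finset.mem_singleton]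
    have key : ∀ b ∈ (D.S : Subgroup L), b * t = t * b → π b = 1 ∨ π b = π t := by
      intro b hb hbt
      rcases D'.no_second h hb hbt (hel b hb) with e | e
      · exact Or.inl (π_eq_one.mpr e)
      · refine Or.inr ?_
        have e' : π t * π b = 1 := by rw [← map_mul]; exact π_eq_one.mpr e
        have e'' : π t * π t = 1 := by rw [← map_mul, π_eq_one.mpr (hel t ht)]
        exact mul_left_cancel (e'.trans e''.symm)
    by_cases hst : s * t = t * s
    · rcases key s hs hst with e | e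
      · exact Or.inl e
      · exact Or.inr (Or.inl e)
    · rcases key _ (mul_mem (inv_mem hz) hs) (h z hz s hs hzt hst) with e | e <;>
        rw [map_mul, map_inv, inv_mul_eq_iff_eq_mul] at e
      · exact Or.inr (Or.inr (Or.inl (e.trans (mul_one _))))
      · exact Or.inr (Or.inr (Or.inr e))
  -- five classes
  have hne : ∀ {p w : L}, p * D.a ≠ D.a * p → w * D.a = D.a * w → π p ≠ π w := fun hp hw => D.π_ne hp hw
  have hx1 : π x ≠ (1 : L ⧸ Subgroup.center L) := fun e =>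
    D.π_ne hxa (show (1 : L) * D.a = D.a * 1 by group) (e.trans (map_one π).symm)
  have hy1 : π y ≠ (1 : L ⧸ Subgroup.center L) := fun e =>
    D.π_ne hya (show (1 : L) * D.a = D.a * 1 by group) (e.trans (map_one π).symm)
  have hz1 : π (x⁻¹ * y) ≠ (1 : L ⧸ Subgroup.center L) := fun e =>
    D.π_ne hxya (show (1 : L) * D.a = D.a * 1 by group) (e.trans (map_one π).symm)
  have hxy : π x ≠ π y := fun e => hz1 (by rw [map_mul, map_inv, e, inv_mul_cancel])
  have hxz : π x ≠ π (x⁻¹ * y) := fun e => hy1 (by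
    rw [map_mul, map_inv, eq_inv_mul_iff_mul_eq, ← map_mul, π_eq_one.mpr (hel x hx)] at e
    exact e.symm)
  have hyz : π y ≠ π (x⁻¹ * y) := fun e => hx1 (by
    rw [map_mul, map_inv] at e
    exact inv_eq_one.mp (right_eq_mul.mp e))
  let five : Finset (L ⧸ Subgroup.center L) := {1, π D.a, π x, π y, π (x⁻¹ * y)}
  have hsub : five ⊆ four := by
    intro e he
    simp only [five, Finset.mem_insert, Finset.mem_singleton] at he
    rcases he with rfl | rfl | rfl | rfl | rfl
    · simp [four]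
    · exact hcover _ D.ha
    · exact hcover _ hx
    · exact hcover _ hy
    · exact hcover _ (mul_mem (inv_mem hx) hy)
  have h5 : five.card = 5 := by
    have e1 : π D.a ≠ (1 : L ⧸ Subgroup.center L) := fun e => D.haZ (π_eq_one.mp e)
    have n1 := hne hxa (rfl : D.a * D.a = D.a * D.a)
    have n2 := hne hya (rfl : D.a * D.a = D.a * D.a)
    have n3 := hne hxya (rfl : D.a * D.a = D.a * D.a)
    simp only [five]
    rw [Finset.card_insert_of_notMem, Finset.card_insert_of_notMem, Finset.card_insert_of_notMem, Finset.card_pair hyz]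
    · simp only [Finset.mem_insert, Finset.mem_singleton, not_or]; exact ⟨hxy, hxz⟩
    · simp only [Finset.mem_insert, Finset.mem_singleton, not_or]; exact ⟨n1.symm, n2.symm, n3.symm⟩
    · simp only [Finset.mem_insert, Finset.mem_singleton, not_or]
      exact ⟨e1.symm, hx1.symm, hy1.symm, hz1.symm⟩
  have h4 : four.card ≤ 4 := Finset.card_le_four
  have := Finset.card_le_card hsub
  omega

/-- Elements of `O` are central in `Dg` in the elementary case. -/
theorem O_central (hw : ∃ x ∈ (D.S : Subgroup L), ∃ y ∈ (D.S : Subgroup L), x * D.a ≠ D.a * x ∧ y * D.a ≠ D.a * y ∧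
      (x⁻¹ * y) * D.a ≠ D.a * (x⁻¹ * y)) {u g : L} (hu : u ∈ D.O) (hg : g ∈ D.Dg) : g * u = u * g := by
  obtain ⟨x, hx, y, hy, hxa, hya, hxya⟩ := hw
  have hfix : ∀ p ∈ (D.S : Subgroup L), p * D.a ≠ D.a * p → ∀ d ∈ D.Dg,
      d * (p * u * p⁻¹ * u) = p * u * p⁻¹ * u * d := by
    intro p hp hpa d hd
    have hpu := D.conj_O (D.S_le_Dg hp) hu
    refine D.fixed_central (mul_mem hpu hu) hp hpa ?_ hd
    have hpp := Subgroup.mem_center_iff.mp (D.sq_center hp hpa) u
    calc p * (p * u * p⁻¹ * u) = (p * p * u) * p⁻¹ * u := by group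
      _ = (u * (p * p)) * p⁻¹ * u := by rw [hpp]
      _ = u * (p * u * p⁻¹) * p := by group
      _ = (p * u * p⁻¹) * u * p := by rw [D.cent_comm (D.mem_O.mp hu).1 (D.mem_O.mp hpu).1]
  set p := x⁻¹ * y with hp
  have hw' := hfix p (mul_mem (inv_mem hx) hy) hxya x (D.S_le_Dg hx)
  have e : y * u * y⁻¹ * (x * u * x⁻¹) = p * u * p⁻¹ * u := by
    calc y * u * y⁻¹ * (x * u * x⁻¹) = x * (p * u * p⁻¹ * u) * x⁻¹ := by rw [hp]; group
      _ = p * u * p⁻¹ * u := by rw [hw', mul_inv_cancel_right]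
  set v₁ := x * u * x⁻¹ * u with hv₁
  set v₂ := y * u * y⁻¹ * u with hv₂
  have c1 := hfix x hx hxa
  have c2 := hfix y hy hya
  have c3 := hfix p (mul_mem (inv_mem hx) hy) hxya
  have hxu := (D.mem_O.mp (D.conj_O (D.S_le_Dg hx) hu)).1
  have hyu := (D.mem_O.mp (D.conj_O (D.S_le_Dg hy) hu)).1
  have huu := (D.mem_O.mp hu).1
  have hsq : u * u = (p * u * p⁻¹ * u)⁻¹ * (v₂ * v₁) := by
    rw [← e, hv₁, hv₂]
    have h1 : Commute u (x * u * x⁻¹) := D.cent_comm huu hxu
    calc u * u = (y * u * y⁻¹ * (x * u * x⁻¹))⁻¹ * ((y * u * y⁻¹) * ((x * u * x⁻¹) * u) * u) := by group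
      _ = (y * u * y⁻¹ * (x * u * x⁻¹))⁻¹ * ((y * u * y⁻¹) * (u * (x * u * x⁻¹)) * u) := by rw [h1.eq]
      _ = _ := by group
  have hgc : Commute g (u * u) := by
    rw [hsq]
    exact ((show Commute g _ from c3 g hg).inv_right).mul_right
      ((show Commute g v₂ from c2 g hg).mul_right (c1 g hg))
  obtain ⟨j, hj⟩ := (D.mem_O.mp hu).2
  have hpow : (u * u) ^ (j + 1) = u := by
    rw [← pow_two, ← pow_mul, show 2 * (j + 1) = orderOf u + 1 by omega, pow_succ, pow_orderOf_eq_one, one_mul]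
  have := hgc.pow_right (j + 1)
  rw [hpow] at this
  exact this.eq

theorem Dg_π_comm (hel : ∀ s ∈ (D.S : Subgroup L), s * s ∈ Subgroup.center L)
    (hw : ∃ x ∈ (D.S : Subgroup L), ∃ y ∈ (D.S : Subgroup L), x * D.a ≠ D.a * x ∧ y * D.a ≠ D.a * y ∧
      (x⁻¹ * y) * D.a ≠ D.a * (x⁻¹ * y)) {g h : L} (hg : g ∈ D.Dg) (hh : h ∈ D.Dg) : π g * π h = π h * π g := by
  obtain ⟨u, hu, s, hs, rfl⟩ := D.Dg_decomp hg
  obtain ⟨v, hv, t, ht, rfl⟩ := D.Dg_decomp hh
  have h1 : Commute (π s) (π t) := D.π_comm_S hel hs ht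
  have h2 : Commute (π s) (π v) := (show Commute s v from D.O_central hw hv (D.S_le_Dg hs)).map π
  have h3 : Commute (π u) (π t) := ((show Commute t u from D.O_central hw hu (D.S_le_Dg ht)).map π).symm
  have h4 : Commute (π u) (π v) := (show Commute u v from D.O_central hw hv (D.O_le_Dg hu)).map π
  rw [map_mul, map_mul]
  exact ((h4.mul_right h3).mul_left (h2.mul_right h1)).eq

/-- The elementary case is impossible. -/
theorem not_elementary (hel : ∀ s ∈ (D.S : Subgroup L), s * s ∈ Subgroup.center L)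
    (hw : ∃ x ∈ (D.S : Subgroup L), ∃ y ∈ (D.S : Subgroup L), x * D.a ≠ D.a * x ∧ y * D.a ≠ D.a * y ∧
      (x⁻¹ * y) * D.a ≠ D.a * (x⁻¹ * y)) : False := by
  classical
  haveI : Fact (Nat.Prime 2) := ⟨Nat.prime_two⟩
  haveI := D.q.simple
  set T := (D.Sbar : Subgroup (L ⧸ Subgroup.center L)) with hT
  have hcomm : ∀ t : L ⧸ Subgroup.center L, orderOf t = 2 →
      IsMulCommutative ↥(Subgroup.centralizer ({t} : Set (L ⧸ Subgroup.center L))) := by
    intro t ht
    obtain ⟨P, hP⟩ := (IsPGroup.of_card (p := 2) (n := 1) (G := Subgroup.zpowers t)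
      (by rw [Nat.card_zpowers, ht, pow_one])).exists_le_sylow
    obtain ⟨g, hg⟩ := MulAction.exists_smul_eq (L ⧸ Subgroup.center L) P D.Sbar
    have hmem : g * t * g⁻¹ ∈ T := by
      rw [hT, ← hg, CfsgLib.TransferApps.mem_smul_iff, show g⁻¹ * (g * t * g⁻¹) * g = t by group]
      exact hP (Subgroup.mem_zpowers t)
    obtain ⟨s, hs, hst⟩ := D.mem_Sbar.mp hmem
    have hsZ : s ∉ Subgroup.center L := fun e => by
      rw [π_eq_one.mpr e, eq_comm, conj_eq_one_iff] at hst
      rw [hst, orderOf_one] at ht; norm_num at ht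
    set D' := D.change hel hs hsZ
    have hw' := D.elementary_all hel hw hs hsZ
    have hin : ∀ c : L ⧸ Subgroup.center L, c * t = t * c → ∃ d ∈ D'.Dg, π d = g * c * g⁻¹ := by
      intro c hc
      obtain ⟨d, hd⟩ := QuotientGroup.mk'_surjective (Subgroup.center L) (g * c * g⁻¹)
      refine ⟨d, ?_, hd⟩
      show π d ∈ Subgroup.centralizer ({π s} : Set (L ⧸ Subgroup.center L))
      rw [Subgroup.mem_centralizer_singleton_iff, show π d = g * c * g⁻¹ from hd, hst,
        show g * c * g⁻¹ * (g * t * g⁻¹) = g * (c * t) * g⁻¹ by group, hc]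
      group
    refine ⟨⟨fun a b => Subtype.ext ?_⟩⟩
    obtain ⟨d₁, hd₁, e₁⟩ := hin a (Subgroup.mem_centralizer_singleton_iff.mp a.2)
    obtain ⟨d₂, hd₂, e₂⟩ := hin b (Subgroup.mem_centralizer_singleton_iff.mp b.2)
    have h := D'.Dg_π_comm hel hw' hd₁ hd₂
    rw [e₁, e₂, show g * (a : L ⧸ Subgroup.center L) * g⁻¹ * (g * b * g⁻¹) = g * (a * b) * g⁻¹ by group,
      show g * (b : L ⧸ Subgroup.center L) * g⁻¹ * (g * a * g⁻¹) = g * (b * a) * g⁻¹ by group] at h
    exact mul_left_cancel (mul_right_cancel h)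
  have hdvd : 2 ∣ Nat.card (L ⧸ Subgroup.center L) := by
    have h := orderOf_dvd_natCard (π D.a)
    rwa [CfsgLib.Involutions.orderOf_eq_two_iff'.mpr ⟨D.π_a, fun e => D.haZ (π_eq_one.mp e)⟩] at h
  obtain ⟨x, hx, y, hy, hxa, hya, hxya⟩ := id hw
  have hx1 : π x ≠ (1 : L ⧸ Subgroup.center L) := fun e =>
    D.π_ne hxa (show (1 : L) * D.a = D.a * 1 by group) (e.trans (map_one π).symm)
  have hy1 : π y ≠ (1 : L ⧸ Subgroup.center L) := fun e =>
    D.π_ne hya (show (1 : L) * D.a = D.a * 1 by group) (e.trans (map_one π).symm)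
  have hsq : ∀ c ∈ T, c * c = 1 := fun c hc => by
    obtain ⟨s, hs, rfl⟩ := D.mem_Sbar.mp hc
    rw [← map_mul, π_eq_one.mpr (hel s hs)]
  rcases Cfsg.Agent.S2202.result (even_iff_two_dvd.mpr hdvd) hcomm with hcyc | hnorm |
    ⟨F, iF, iF', A, iA, iA', hchar, -, ⟨e⟩⟩
  · haveI : IsCyclic T := hcyc D.Sbar
    refine D.π_ne hxa (u := D.a) rfl (CfsgLib.BSW.unique_involution_of_cyclic T (D.mem_Sbar.mpr ⟨x, hx, rfl⟩)
      (D.mem_Sbar.mpr ⟨D.a, D.ha, rfl⟩) (CfsgLib.Involutions.orderOf_eq_two_iff'.mpr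
        ⟨hsq _ (D.mem_Sbar.mpr ⟨x, hx, rfl⟩), hx1⟩)
      (CfsgLib.Involutions.orderOf_eq_two_iff'.mpr ⟨D.π_a, fun e => D.haZ (π_eq_one.mp e)⟩))
  · rcases (hnorm D.Sbar).eq_bot_or_eq_top with e | e
    · exact hx1 (Subgroup.mem_bot.mp (e ▸ D.mem_Sbar.mpr ⟨x, hx, rfl⟩))
    · refine D.q.not_comm_quotient fun a b => ?_
      obtain ⟨s, hs, rfl⟩ := D.mem_Sbar.mp (e.ge (Subgroup.mem_top a))
      obtain ⟨t, ht, rfl⟩ := D.mem_Sbar.mp (e.ge (Subgroup.mem_top b))
      exact D.π_comm_S hel hs ht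
  · haveI := iA'
    -- the second factor is trivial
    set f := (MonoidHom.snd (Matrix.SpecialLinearGroup (Fin 2) F) A).comp e.toMonoidHom
    have hA1 : ∀ a : A, a = 1 := by
      intro a
      have hker : f.ker = ⊤ := (f.normal_ker).eq_bot_or_eq_top.resolve_left fun hb => by
        refine D.q.not_comm_quotient fun c d => (f.ker_eq_bot_iff.mp hb) ?_
        rw [map_mul, map_mul, mul_comm]
      have h2 : (e (e.symm (1, a))).2 = 1 := MonoidHom.mem_ker.mp (hker.ge (Subgroup.mem_top (e.symm (1, a))))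
      rwa [e.apply_symm_apply] at h2
    haveI : Subsingleton A := ⟨fun a b => (hA1 a).trans (hA1 b).symm⟩
    letI : Unique A := uniqueOfSubsingleton 1
    let e' : (L ⧸ Subgroup.center L) ≃* Matrix.SpecialLinearGroup (Fin 2) F :=
      { e.toEquiv.trans ((Equiv.prodUnique _ _ : Matrix.SpecialLinearGroup (Fin 2) F × A ≃ _)) with
        map_mul' := fun x y => by
          show (e (x * y)).1 = (e x).1 * (e y).1
          rw [map_mul, Prod.fst_mul] }
    have hcard := (Nat.card_congr e'.toEquiv).trans CfsgLib.SLCard.card_SL_two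
    -- the field has at least five elements
    obtain ⟨k, -, hk⟩ := FiniteField.card F 2
    obtain ⟨n, hn⟩ := D.Sbar.2.exists_card_eq
    have hn5 : 5 ≤ Nat.card T := by
      haveI := Fintype.ofFinite T
      let f : Fin 5 → T := ![1, ⟨π D.a, D.mem_Sbar.mpr ⟨D.a, D.ha, rfl⟩⟩, ⟨π x, D.mem_Sbar.mpr ⟨x, hx, rfl⟩⟩,
        ⟨π y, D.mem_Sbar.mpr ⟨y, hy, rfl⟩⟩, ⟨π (x⁻¹ * y), D.mem_Sbar.mpr ⟨_, mul_mem (inv_mem hx) hy, rfl⟩⟩]
      have e1 : π D.a ≠ (1 : L ⧸ Subgroup.center L) := fun e => D.haZ (π_eq_one.mp e)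
      have e4 : π (x⁻¹ * y) ≠ (1 : L ⧸ Subgroup.center L) := fun e =>
        D.π_ne hxya (show (1 : L) * D.a = D.a * 1 by group) (e.trans (map_one π).symm)
      have n1 := D.π_ne hxa (u := D.a) rfl
      have n2 := D.π_ne hya (u := D.a) rfl
      have n3 := D.π_ne hxya (u := D.a) rfl
      have n4 : π x ≠ π y := fun e => e4 (by rw [map_mul, map_inv, e, inv_mul_cancel])
      have n5 : π x ≠ π (x⁻¹ * y) := fun e => hy1 (by
        rw [map_mul, map_inv, eq_inv_mul_iff_mul_eq, ← map_mul, π_eq_one.mpr (hel x hx)] at e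
        exact e.symm)
      have n6 : π y ≠ π (x⁻¹ * y) := fun e => hx1 (by
        rw [map_mul, map_inv] at e
        exact inv_eq_one.mp (right_eq_mul.mp e))
      have hf : Function.Injective f := by
        intro i j e
        have e' := congrArg Subtype.val e
        fin_cases i <;> fin_cases j <;>
          first
          | rfl
          | exact absurd e' e1
          | exact absurd e'.symm e1
          | exact absurd e' hx1
          | exact absurd e'.symm hx1
          | exact absurd e' hy1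
          | exact absurd e'.symm hy1
          | exact absurd e' e4
          | exact absurd e'.symm e4
          | exact absurd e' n1
          | exact absurd e'.symm n1
          | exact absurd e' n2
          | exact absurd e'.symm n2
          | exact absurd e' n3
          | exact absurd e'.symm n3
          | exact absurd e' n4
          | exact absurd e'.symm n4
          | exact absurd e' n5
          | exact absurd e'.symm n5
          | exact absurd e' n6
          | exact absurd e'.symm n6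
      simpa using Nat.card_le_card_of_injective f hf
    have h5 : 5 ≤ Fintype.card F := by
      have hTd : Nat.card T ∣ Fintype.card F := by
        have h1 : Nat.card T ∣ Fintype.card F * (Fintype.card F ^ 2 - 1) := hcard ▸ T.card_subgroup_dvd_card
        refine Nat.Coprime.dvd_of_dvd_mul_right ?_ h1
        rw [hn]
        refine Nat.Coprime.pow_left n ((Nat.prime_two.coprime_iff_not_dvd).mpr fun hd => ?_)
        have h2 : 2 ∣ Fintype.card F ^ 2 := dvd_pow (hk ▸ dvd_pow_self 2 k.pos.ne') two_ne_zero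
        have h3 : 1 ≤ Fintype.card F ^ 2 := Nat.one_le_pow _ _ Fintype.card_pos
        omega
      exact hn5.trans (Nat.le_of_dvd Fintype.card_pos hTd)
    -- the projective group
    let p : Matrix.SpecialLinearGroup (Fin 2) F →* Matrix.ProjectiveSpecialLinearGroup (Fin 2) F :=
      QuotientGroup.mk' (Subgroup.center (Matrix.SpecialLinearGroup (Fin 2) F))
    have hp : Function.Injective p := by
      rw [← MonoidHom.ker_eq_bot_iff, QuotientGroup.ker_mk', ← Subgroup.card_eq_one,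
        CfsgLib.SLCard.card_SL_center (by norm_num), hk]
      refine (Nat.prime_two.coprime_iff_not_dvd).mpr fun hd => ?_
      have h2 : 2 ∣ 2 ^ (k : ℕ) := dvd_pow_self 2 k.pos.ne'
      have h3 : 1 ≤ 2 ^ (k : ℕ) := Nat.one_le_two_pow
      omega
    let E := e'.trans (MulEquiv.ofBijective p ⟨hp, QuotientGroup.mk'_surjective _⟩)
    have h9 : Fintype.card F ≠ 9 := fun e9 => by
      have h2 : 2 ∣ Fintype.card F := hk ▸ dvd_pow_self 2 k.pos.ne'
      omega
    have hZ := D.q.center_dvd_two h5 h9 E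
    have hgcd : Nat.gcd 2 (Fintype.card F - 1) = 1 := (Nat.prime_two.coprime_iff_not_dvd).mpr fun hd => by
      have h2 : 2 ∣ Fintype.card F := hk ▸ dvd_pow_self 2 k.pos.ne'
      omega
    rw [hgcd] at hZ
    have := (D.q.two_dvd_center D.S D.hS).trans hZ
    omega

/-- The dihedral shape. -/
theorem shape :
    (∀ x ∈ (D.S : Subgroup L), ∀ y ∈ (D.S : Subgroup L), x * D.a ≠ D.a * x → y * D.a ≠ D.a * y →
      (x⁻¹ * y) * D.a = D.a * (x⁻¹ * y)) ∧
    ∀ b ∈ (D.S : Subgroup L), b * D.a = D.a * b → b * b ∈ Subgroup.center L →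
      b ∈ Subgroup.center L ∨ D.a * b ∈ Subgroup.center L := by
  rcases D.index_or_elementary with h | ⟨hel, hw⟩
  · exact ⟨h, fun b => D.no_second h⟩
  · exact (D.not_elementary hel hw).elim

end TwoData

end CfsgLib.MinNonCA
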