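import Cfsg.Agent.Lib.MinNonCA.Quasi
import Cfsg.Agent.Lib.TransferApps

/-!
Perfect groups with all proper subgroups CA: the centre of a non-abelian Sylow 2-subgroup is central.
-/

set_option autoImplicit false
set_option linter.style.haveILetI false
set_option linter.unusedSectionVars false

namespace CfsgLib.MinNonCA

open Subgroup

universe u

variable {L : Type u} [Group L] [Finite L]

/-- A proper subgroup of a 2-group is properly contained in its normaliser. -/
theorem exists_normalizing {S D : Subgroup L} (hp : IsPGroup 2 S) (hlt : D < S) :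
    ∃ x ∈ S, x ∉ D ∧ ∀ d ∈ D, x * d * x⁻¹ ∈ D := by
  haveI : Fact (Nat.Prime 2) := ⟨Nat.prime_two⟩
  haveI : Group.IsNilpotent S := hp.isNilpotent
  have htop : D.subgroupOf S < ⊤ := lt_top_iff_ne_top.mpr fun e => hlt.not_ge (Subgroup.subgroupOf_eq_top.mp e)
  obtain ⟨x, hx, hxD⟩ := SetLike.exists_of_lt (Group.normalizerCondition_of_isNilpotent (D.subgroupOf S) htop)
  exact ⟨x, x.2, hxD, fun d hd => (Subgroup.mem_normalizer_iff.mp hx ⟨d, hlt.le hd⟩).mp hd⟩

/-- A 2-subgroup of a subgroup containing a conjugate of a Sylow subgroup, is conjugate there into that Sylow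
subgroup. -/
theorem exists_conj_mem (S : Sylow 2 L) {H P : Subgroup L} {g : L}
    (hS : ∀ x ∈ (S : Subgroup L), g * x * g⁻¹ ∈ H) (hP : IsPGroup 2 P) (hPH : P ≤ H) :
    ∃ k ∈ H, ∀ x ∈ P, (k * g)⁻¹ * x * (k * g) ∈ (S : Subgroup L) := by
  haveI : Fact (Nat.Prime 2) := ⟨Nat.prime_two⟩
  have hle : ((g • S : Sylow 2 L) : Subgroup L) ≤ H := fun x hx => by
    have := hS _ (CfsgLib.TransferApps.mem_smul_iff.mp hx)
    rwa [show g * (g⁻¹ * x * g) * g⁻¹ = x by group] at this
  let T0 : Sylow 2 H := (g • S).subtype hle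
  obtain ⟨T', hT'⟩ := (hP.of_equiv (Subgroup.subgroupOfEquivOfLe hPH).symm).exists_le_sylow
  obtain ⟨k, hk⟩ := MulAction.exists_smul_eq H T0 T'
  refine ⟨k, k.2, fun x hx => ?_⟩
  have h1 : (⟨x, hPH hx⟩ : H) ∈ (T' : Subgroup H) := hT' hx
  rw [← hk, CfsgLib.TransferApps.mem_smul_iff] at h1
  have h2 := CfsgLib.TransferApps.mem_smul_iff.mp
    (show ((k⁻¹ * ⟨x, hPH hx⟩ * k : H) : L) ∈ ((g • S : Sylow 2 L) : Subgroup L) from h1)
  rw [show ((k : L) * g)⁻¹ * x * ((k : L) * g) = g⁻¹ * ((k : L)⁻¹ * x * k) * g by group]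
  exact h2

namespace Quasi

variable (q : Quasi L) (S : Sylow 2 L) (hS : ∃ x ∈ (S : Subgroup L), ∃ y ∈ (S : Subgroup L), x * y ≠ y * x)

include q hS in
/-- Elements central in a non-abelian Sylow 2-subgroup are weakly closed. -/
theorem weaklyClosed_of_central {a : L} (ha : a ∈ (S : Subgroup L))
    (hac : ∀ s ∈ (S : Subgroup L), s * a = a * s) {g : L} (hg : g * a * g⁻¹ ∈ (S : Subgroup L)) :
    g * a * g⁻¹ = a := by
  classical
  haveI : Fact (Nat.Prime 2) := ⟨Nat.prime_two⟩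
  haveI := Fintype.ofFinite L
  obtain ⟨x₀, hx₀, y₀, hy₀, hne₀⟩ := hS
  by_cases haZ : a ∈ Subgroup.center L
  · rw [Subgroup.mem_center_iff.mp haZ g, mul_inv_cancel_right]
  by_contra hne
  set Bad : Finset L := Finset.univ.filter fun b => b ∈ (S : Subgroup L) ∧ b ≠ a ∧ IsConj a b with hBad
  obtain ⟨b, hbB, hmax⟩ := Finset.exists_max_image Bad
    (fun b => Nat.card ↥((S : Subgroup L) ⊓ Subgroup.centralizer ({b} : Set L)))
    ⟨g * a * g⁻¹, by simp [hBad, hg, hne]⟩
  simp only [hBad, Finset.mem_filter, Finset.mem_univ, true_and] at hbB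
  obtain ⟨hb, hba, hconj⟩ := hbB
  obtain ⟨g, rfl⟩ := isConj_iff.mp hconj
  set b := g * a * g⁻¹ with hbdef
  set D := (S : Subgroup L) ⊓ Subgroup.centralizer ({b} : Set L) with hD
  have hmemD : ∀ {x}, x ∈ D ↔ x ∈ (S : Subgroup L) ∧ x * b = b * x := fun {x} => by
    rw [hD, Subgroup.mem_inf, Subgroup.mem_centralizer_singleton_iff]
  have hbZ : b ∉ Subgroup.center L := fun e => hba (by
    have e1 := Subgroup.mem_center_iff.mp e g
    rw [hbdef] at e1 ⊢
    have e2 : g * a = g * (g * a * g⁻¹) := by rw [e1]; group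
    exact (mul_left_cancel e2).symm)
  -- `D` is abelian
  have hDab : ∀ x ∈ D, ∀ y ∈ D, x * y = y * x := by
    intro x hx y hy
    by_contra hxy
    apply hba
    have hle := q.cent_le haZ (hac x (hmemD.mp hx).1) (hac y (hmemD.mp hy).1)
      (hac b hb) (hmemD.mp hx).2 (hmemD.mp hy).2 hxy
    have hga : g * a = a * g := by
      refine q.cent_self_normalizing haZ (hac x₀ hx₀) (hac y₀ hy₀) hne₀ fun c hc => ?_
      have hcb : ∀ d, d * b = b * d → d * a = a * d := fun d hd => by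
        have e := q.cent_eq (hac x₀ hx₀) (hac y₀ hy₀) hne₀ (q.cent_ne_top hbZ) hle
        exact Subgroup.mem_centralizer_singleton_iff.mp (e.le (Subgroup.mem_centralizer_singleton_iff.mpr hd))
      exact hcb _ (by
        rw [hbdef, show g * c * g⁻¹ * (g * a * g⁻¹) = g * (c * a) * g⁻¹ by group, hc]; group)
    rw [hbdef, hga, mul_inv_cancel_right]
  have haD : a ∈ D := hmemD.mpr ⟨ha, (hac b hb).symm⟩
  have hbD : b ∈ D := hmemD.mpr ⟨hb, rfl⟩
  have hDS : D < (S : Subgroup L) := lt_of_le_of_ne inf_le_left fun e =>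
    hne₀ (hDab _ (e.symm ▸ hx₀) _ (e.symm ▸ hy₀))
  set N := Subgroup.normalizer (D : Set L)
  have hN : N ≠ ⊤ := fun e => by
    haveI : D.Normal := Subgroup.normalizer_eq_top_iff.mp e
    exact haZ (q.hyp.solvable_normal_le_center D inferInstance
      (isSolvable_of_le inf_le_left (isSolvable_of_isPGroup S.2)) haD)
  -- `a` is central in `N`
  obtain ⟨w, hwS, hwD, hwn⟩ := exists_normalizing S.2 hDS
  have hcenN : ∀ c ∈ N, c * a = a * c := by
    by_contra hc
    push Not at hc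
    obtain ⟨c, hcN, hca⟩ := hc
    exact hwD (hmemD.mpr ⟨hwS, (q.hyp.comm hN (Subgroup.le_normalizer haD) (Subgroup.le_normalizer hbD)
      (mem_normalizer_of_conj hwn) hcN (hac b hb) (hac w hwS) hca).symm⟩)
  -- a Sylow subgroup of the centraliser of `b` above `D`
  have hgS : ∀ x ∈ (S : Subgroup L), g * x * g⁻¹ ∈ Subgroup.centralizer ({b} : Set L) := fun x hx => by
    rw [Subgroup.mem_centralizer_singleton_iff, hbdef,
      show g * x * g⁻¹ * (g * a * g⁻¹) = g * (x * a) * g⁻¹ by group, hac x hx]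
    group
  obtain ⟨k, hk, hkD⟩ := exists_conj_mem S hgS (S.2.to_le (inf_le_left : D ≤ _))
    (inf_le_right : D ≤ Subgroup.centralizer ({b} : Set L))
  set h := k * g with hh
  let D' : Subgroup L := D.map (MulAut.conj h⁻¹).toMonoidHom
  have hD'mem : ∀ x ∈ D, h⁻¹ * x * h ∈ D' := fun x hx => ⟨x, hx, by simp⟩
  have hD'S : D' ≤ (S : Subgroup L) := by
    rintro _ ⟨x, hx, rfl⟩
    simpa [MulAut.conj_apply] using hkD x hx
  have hD'card : Nat.card D' = Nat.card D :=
    (Nat.card_congr (D.equivMapOfInjective _ (MulAut.conj h⁻¹).injective).toEquiv).symm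
  have hD'lt : D' < (S : Subgroup L) := lt_of_le_of_ne hD'S fun e => by
    apply hDS.ne
    refine Subgroup.eq_of_le_of_card_ge inf_le_left ?_
    rw [← e, hD'card]
  obtain ⟨y, hyS, hyD', hyn⟩ := exists_normalizing S.2 hD'lt
  set e := h * y * h⁻¹ with he
  have heN : e ∈ N := mem_normalizer_of_conj fun x hx => by
    obtain ⟨z, hz, hze⟩ := hyn _ (hD'mem x hx)
    have hze' : z = h * (y * (h⁻¹ * x * h) * y⁻¹) * h⁻¹ := by
      rw [← hze]
      simp [mul_assoc]
    rw [show e * x * e⁻¹ = z by rw [hze', he]; group]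
    exact hz
  have heD : e ∉ D := fun hh' => hyD' (by
    have := hD'mem e hh'
    rwa [he, show h⁻¹ * (h * y * h⁻¹) * h = y by group] at this)
  have heb : e * b = b * e := by
    have hbh : h * a * h⁻¹ = b := by
      rw [hh, show k * g * a * (k * g)⁻¹ = k * (g * a * g⁻¹) * k⁻¹ by group, ← hbdef,
        Subgroup.mem_centralizer_singleton_iff.mp hk, mul_inv_cancel_right]
    rw [he, ← hbh, show h * y * h⁻¹ * (h * a * h⁻¹) = h * (y * a) * h⁻¹ by group, hac y hyS]
    group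
  let E : Subgroup L := (S : Subgroup L).map (MulAut.conj h).toMonoidHom ⊓
    (Subgroup.centralizer ({b} : Set L) ⊓ Subgroup.centralizer ({a} : Set L))
  have hDE : D ≤ E := fun x hx => Subgroup.mem_inf.mpr ⟨⟨h⁻¹ * x * h, hD'S (hD'mem x hx), by
    simp [MulAut.conj_apply, mul_assoc]⟩, Subgroup.mem_inf.mpr ⟨(Subgroup.mem_inf.mp hx).2,
    Subgroup.mem_centralizer_singleton_iff.mpr (hac x (hmemD.mp hx).1)⟩⟩
  have heE : e ∈ E := Subgroup.mem_inf.mpr ⟨⟨y, hyS, rfl⟩, Subgroup.mem_inf.mpr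
    ⟨Subgroup.mem_centralizer_singleton_iff.mpr heb, Subgroup.mem_centralizer_singleton_iff.mpr (hcenN e heN)⟩⟩
  have hEp : IsPGroup 2 E := (S.2.map _).to_le inf_le_left
  obtain ⟨c, hc, hcE⟩ := exists_conj_mem S (g := 1) (H := Subgroup.centralizer ({a} : Set L))
    (fun x hx => Subgroup.mem_centralizer_singleton_iff.mpr (by simpa using hac x hx)) hEp
    (fun x hx => (Subgroup.mem_inf.mp (Subgroup.mem_inf.mp hx).2).2)
  simp only [mul_one] at hcE
  have hca : c * a = a * c := Subgroup.mem_centralizer_singleton_iff.mp hc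
  set b' := c⁻¹ * b * c with hb'
  have hb'B : b' ∈ Bad := by
    simp only [hBad, Finset.mem_filter, Finset.mem_univ, true_and]
    refine ⟨hcE b (hDE hbD), fun e => hba ?_, ?_⟩
    · calc b = c * b' * c⁻¹ := by rw [hb']; group
        _ = a := by rw [e, hca, mul_inv_cancel_right]
    · exact hconj.trans (isConj_iff.mpr ⟨c⁻¹, by rw [hb']; group⟩)
  have hle : E.map (MulAut.conj c⁻¹).toMonoidHom ≤ (S : Subgroup L) ⊓ Subgroup.centralizer ({b'} : Set L) := by
    rintro _ ⟨x, hx, rfl⟩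
    refine Subgroup.mem_inf.mpr ⟨by simpa [MulAut.conj_apply] using hcE x hx, ?_⟩
    have hxb := Subgroup.mem_centralizer_singleton_iff.mp (Subgroup.mem_inf.mp (Subgroup.mem_inf.mp hx).2).1
    rw [Subgroup.mem_centralizer_singleton_iff]
    show c⁻¹ * x * c⁻¹⁻¹ * b' = b' * (c⁻¹ * x * c⁻¹⁻¹)
    rw [hb', inv_inv, show c⁻¹ * x * c * (c⁻¹ * b * c) = c⁻¹ * (x * b) * c by group, hxb]
    group
  have h1 := (Nat.card_congr (E.equivMapOfInjective _ (MulAut.conj c⁻¹).injective).toEquiv).le.trans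
    (Nat.le_of_dvd Nat.card_pos (Subgroup.card_dvd_of_le hle))
  exact heD ((Subgroup.eq_of_le_of_card_ge hDE (h1.trans (hmax b' hb'B))).symm ▸ heE)

include q hS in
/-- The centre of `S` is central. -/
theorem central_of_central {a : L} (ha : a ∈ (S : Subgroup L)) (hac : ∀ s ∈ (S : Subgroup L), s * a = a * s) :
    a ∈ Subgroup.center L :=
  q.central_of_weaklyClosed S ha fun i _ hg => q.weaklyClosed_of_central S hS (pow_mem ha i)
    (fun s hs => ((show Commute s a from hac s hs).pow_right i).eq) hg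

include q hS in
theorem two_dvd_center : 2 ∣ Nat.card (Subgroup.center L) := by
  haveI : Fact (Nat.Prime 2) := ⟨Nat.prime_two⟩
  obtain ⟨x₀, hx₀, y₀, hy₀, hne₀⟩ := id hS
  haveI : Nontrivial (S : Subgroup L) := ⟨⟨x₀, hx₀⟩, 1, fun e => hne₀ (by
    rw [show x₀ = 1 from congrArg Subtype.val e, one_mul, mul_one])⟩
  haveI := S.2.center_nontrivial
  obtain ⟨z, hz⟩ := exists_ne (1 : Subgroup.center (S : Subgroup L))
  have hzc := q.central_of_central S hS (z : (S : Subgroup L)).2 fun s hs =>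
    congrArg Subtype.val (Subgroup.mem_center_iff.mp z.2 ⟨s, hs⟩)
  obtain ⟨k, hk⟩ := S.2 (z : (S : Subgroup L))
  obtain ⟨j, -, hj⟩ := (Nat.dvd_prime_pow Nat.prime_two).mp (orderOf_dvd_of_pow_eq_one hk)
  have hj0 : j ≠ 0 := fun e => hz (Subtype.ext (orderOf_eq_one_iff.mp (by rw [hj, e, pow_zero])))
  refine dvd_trans ?_ (Subgroup.orderOf_dvd_natCard _ hzc)
  rw [Subgroup.orderOf_coe, hj]
  exact dvd_pow_self 2 hj0

end Quasi

end CfsgLib.MinNonCA
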