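import Cfsg.Agent.Lib.MinNonCA.TwoSylowCases
import Cfsg.Agent.Lib.DihedralShape
import Cfsg.Agent.Lib.DihedralTransfer

/-!
A dihedral Sylow 2-subgroup modulo the centre: elements moving `a` invert the odd part of its centraliser.
-/

set_option autoImplicit false
set_option linter.style.haveILetI false
set_option linter.unusedSectionVars false

namespace CfsgLib.MinNonCA

open Subgroup

universe u

variable {L : Type u} [Group L] [Finite L]

namespace TwoData

variable (D : TwoData L)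

/-- `C_S(a)` modulo the centre. -/
def Abar : Subgroup (L ⧸ Subgroup.center L) :=
  ((D.S : Subgroup L) ⊓ Subgroup.centralizer ({D.a} : Set L)).map π

theorem mem_Abar {c : L ⧸ Subgroup.center L} :
    c ∈ D.Abar ↔ ∃ s ∈ (D.S : Subgroup L), s * D.a = D.a * s ∧ π s = c := by
  constructor
  · rintro ⟨s, hs, rfl⟩
    exact ⟨s, (Subgroup.mem_inf.mp hs).1, Subgroup.mem_centralizer_singleton_iff.mp (Subgroup.mem_inf.mp hs).2, rfl⟩
  · rintro ⟨s, hs, hsa, rfl⟩
    exact ⟨s, Subgroup.mem_inf.mpr ⟨hs, Subgroup.mem_centralizer_singleton_iff.mpr hsa⟩, rfl⟩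

theorem a_mem_Abar : π D.a ∈ D.Abar := D.mem_Abar.mpr ⟨D.a, D.ha, rfl, rfl⟩

theorem Abar_le : D.Abar ≤ (D.Sbar : Subgroup (L ⧸ Subgroup.center L)) := fun c hc => by
  obtain ⟨s, hs, -, rfl⟩ := D.mem_Abar.mp hc
  exact D.mem_Sbar.mpr ⟨s, hs, rfl⟩

theorem Abar_cyclic : IsCyclic D.Abar := by
  haveI : Fact (Nat.Prime 2) := ⟨Nat.prime_two⟩
  haveI : IsMulCommutative D.Abar := ⟨⟨fun c d => by
    obtain ⟨s, -, hsa, hs⟩ := D.mem_Abar.mp c.2
    obtain ⟨t, -, hta, ht⟩ := D.mem_Abar.mp d.2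
    refine Subtype.ext ?_
    show (c : L ⧸ Subgroup.center L) * d = d * c
    rw [← hs, ← ht, ← map_mul, ← map_mul, D.cent_comm hsa hta]⟩⟩
  by_contra hcyc
  obtain ⟨q, hq, c, d, hc, hd, hcd⟩ := CfsgLib.exists_two_generators_of_not_cyclic hcyc
  have hAp : IsPGroup 2 D.Abar := D.Sbar.2.to_le D.Abar_le
  have hq2 : q = 2 := by
    obtain ⟨j, hj⟩ := hAp c
    have h := orderOf_dvd_of_pow_eq_one hj
    rw [hc] at h
    exact (Nat.prime_dvd_prime_iff_eq hq Nat.prime_two).mp (hq.dvd_of_dvd_pow h)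
  subst hq2
  have key : ∀ e : D.Abar, orderOf e = 2 → (e : L ⧸ Subgroup.center L) = π D.a := by
    intro e he
    obtain ⟨he2, he1⟩ := CfsgLib.Involutions.orderOf_eq_two_iff'.mp he
    obtain ⟨s, hs, hsa, hse⟩ := D.mem_Abar.mp e.2
    have hs2 : s * s ∈ Subgroup.center L := π_eq_one.mp (by
      rw [map_mul, hse]; exact congrArg Subtype.val he2)
    rcases D.shape.2 s hs hsa hs2 with h | h
    · exact absurd (Subtype.ext (hse.symm.trans (π_eq_one.mpr h))) he1
    · rw [← hse]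
      have h1 : π D.a * π s = 1 := by rw [← map_mul]; exact π_eq_one.mpr h
      exact mul_left_cancel (h1.trans D.π_a.symm)
  exact hcd (by rw [show d = c from Subtype.ext ((key d hd).trans (key c hc).symm)]; exact Subgroup.mem_zpowers c)

theorem split {x c : L ⧸ Subgroup.center L} (hxT : x ∈ (D.Sbar : Subgroup (L ⧸ Subgroup.center L)))
    (hxA : x ∉ D.Abar) (hc : c ∈ (D.Sbar : Subgroup (L ⧸ Subgroup.center L))) (hcA : c ∉ D.Abar) :
    x⁻¹ * c ∈ D.Abar := by
  obtain ⟨s, hs, rfl⟩ := D.mem_Sbar.mp hxT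
  obtain ⟨t, ht, rfl⟩ := D.mem_Sbar.mp hc
  have hsa : s * D.a ≠ D.a * s := fun e => hxA (D.mem_Abar.mpr ⟨s, hs, e, rfl⟩)
  have hta : t * D.a ≠ D.a * t := fun e => hcA (D.mem_Abar.mpr ⟨t, ht, e, rfl⟩)
  exact D.mem_Abar.mpr ⟨s⁻¹ * t, mul_mem (inv_mem hs) ht, D.shape.1 s hs t ht hsa hta, by rw [map_mul, map_inv]⟩

theorem moving_notMem {x : L} (hxa : x * D.a ≠ D.a * x) : π x ∉ D.Abar := fun h => by
  obtain ⟨s, -, hsa, e⟩ := D.mem_Abar.mp h
  exact D.π_ne hxa hsa e.symm

theorem Abar_relIndex : D.Abar.relIndex (D.Sbar : Subgroup (L ⧸ Subgroup.center L)) = 2 := by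
  obtain ⟨x, hx, hxa⟩ := D.exists_moving
  have hxA := D.moving_notMem hxa
  have hxT : π x ∈ (D.Sbar : Subgroup (L ⧸ Subgroup.center L)) := D.mem_Sbar.mpr ⟨x, hx, rfl⟩
  refine Subgroup.index_eq_two_iff.mpr ⟨⟨π x, hxT⟩, ?_⟩
  rintro ⟨c, hc⟩
  rw [Subgroup.mem_subgroupOf, Subgroup.mem_subgroupOf]
  show Xor (c * π x ∈ D.Abar) (c ∈ D.Abar)
  by_cases hcA : c ∈ D.Abar
  · exact Or.inr ⟨hcA, fun h => hxA (by simpa using mul_mem (inv_mem hcA) h)⟩
  · refine Or.inl ⟨?_, hcA⟩
    have := D.split (inv_mem hc) (fun h => hcA (by simpa using inv_mem h)) hxT hxA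
    rwa [inv_inv] at this

/-- The Sylow subgroup of the quotient is dihedral. -/
theorem exists_dihedral : ∃ n : ℕ, 2 ≤ n ∧
    Nonempty ((D.Sbar : Subgroup (L ⧸ Subgroup.center L)) ≃* DihedralGroup n) := by
  haveI := D.Abar_cyclic
  obtain ⟨⟨c, hc⟩, hgen⟩ := IsCyclic.exists_generator (α := D.Abar)
  obtain ⟨x, hx, hxa⟩ := D.exists_moving
  have hA : D.Abar = Subgroup.zpowers c := by
    refine le_antisymm (fun y hy => ?_) (Subgroup.zpowers_le.mpr hc)
    obtain ⟨j, hj⟩ := Subgroup.mem_zpowers_iff.mp (hgen ⟨y, hy⟩)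
    exact Subgroup.mem_zpowers_iff.mpr ⟨j, congrArg Subtype.val hj⟩
  have hn : Nat.card D.Abar = orderOf c := by rw [hA, Nat.card_zpowers]
  refine ⟨orderOf c, ?_, ?_⟩
  · have h1 : π D.a ≠ (1 : L ⧸ Subgroup.center L) := fun e => D.haZ (π_eq_one.mp e)
    haveI : Nontrivial D.Abar := ⟨⟨_, D.a_mem_Abar⟩, 1, fun e => h1 (congrArg Subtype.val e)⟩
    rw [← hn]
    exact Finite.one_lt_card
  · have hcT := D.Abar_le hc
    refine CfsgLib.DihedralShape.equiv_dihedral (c := (⟨c, hcT⟩ : (D.Sbar : Subgroup (L ⧸ Subgroup.center L))))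
      (t := ⟨π x, D.mem_Sbar.mpr ⟨x, hx, rfl⟩⟩) (Subgroup.orderOf_mk c hcT) ?_ ?_ ?_ ?_
    · have h := (D.Abar.subgroupOf (D.Sbar : Subgroup (L ⧸ Subgroup.center L))).index_mul_card
      rw [Nat.card_congr (Subgroup.subgroupOfEquivOfLe D.Abar_le).toEquiv, hn] at h
      rw [← h]
      congr 1
      exact D.Abar_relIndex
    · exact Subtype.ext (show π x * π x = 1 by rw [← map_mul, π_eq_one.mpr (D.sq_center hx hxa)])
    · intro h
      obtain ⟨j, hj⟩ := Subgroup.mem_zpowers_iff.mp h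
      refine D.moving_notMem hxa (hA.ge ?_)
      exact Subgroup.mem_zpowers_iff.mpr ⟨j, congrArg Subtype.val hj⟩
    · obtain ⟨s, hs, hsa, rfl⟩ := D.mem_Abar.mp hc
      refine Subtype.ext ?_
      show π x * π s * (π x)⁻¹ = (π s)⁻¹
      have := D.inverts hs hsa hx hxa
      rwa [map_mul, map_mul, map_inv] at this

include D in
/-- One class of involutions. -/
theorem conj_all {u v : L ⧸ Subgroup.center L} (hu : orderOf u = 2) (hv : orderOf v = 2) : IsConj u v := by
  haveI : Fact (Nat.Prime 2) := ⟨Nat.prime_two⟩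
  haveI := D.q.simple
  obtain ⟨n, hn, ⟨eS⟩⟩ := D.exists_dihedral
  refine CfsgLib.DihedralFusion.all_conj_of_not_lacking eS hn (fun U hU hK hL => ?_) u v hu hv
  obtain ⟨H, hH⟩ := CfsgLib.DihedralFusion.exists_index_two_of_lacking eS hn hU hK hL
  haveI := Subgroup.normal_of_index_eq_two hH
  exact CfsgLib.RankTwoSimple.not_index_two D.four_le_card (K := H) inferInstance hH

/-- An element moving `a` fixes only central elements of `O`. -/
theorem fixed_le_center {x o : L} (hx : x ∈ (D.S : Subgroup L)) (hxa : x * D.a ≠ D.a * x) (ho : o ∈ D.O)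
    (hxo : x * o = o * x) : o ∈ Subgroup.center L := by
  classical
  haveI : Fact (Nat.Prime 2) := ⟨Nat.prime_two⟩
  by_contra hoZ
  set M := Subgroup.centralizer ({o} : Set L)
  have hMmem : ∀ {g}, g ∈ M ↔ g * o = o * g := fun {g} => Subgroup.mem_centralizer_singleton_iff
  have hoa := (D.mem_O.mp ho).1
  have hSo : ∀ s ∈ (D.S : Subgroup L), s * o = o * s := by
    intro s hs
    by_cases hsa : s * D.a = D.a * s
    · exact D.cent_comm hsa hoa
    · have h1 : Commute (x⁻¹ * s) o := D.cent_comm (D.shape.1 x hx s hs hxa hsa) hoa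
      have := (show Commute x o from hxo).mul_left h1
      rw [mul_inv_cancel_left] at this
      exact this.eq
  set Mb := M.map π with hMb
  have hback : ∀ {g : L}, π g ∈ Mb → g ∈ M := by
    rintro g ⟨m, hm, e⟩
    obtain ⟨z, hz, rfl⟩ := π_eq e.symm
    exact mul_mem hm (hMmem.mpr (Subgroup.mem_center_iff.mp hz o).symm)
  have hSM : ∀ c ∈ (D.Sbar : Subgroup (L ⧸ Subgroup.center L)), c ∈ Mb := by
    intro c hc
    obtain ⟨s, hs, rfl⟩ := D.mem_Sbar.mp hc
    exact ⟨s, hMmem.mpr (hSo s hs), rfl⟩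
  -- local facts for involutions of the Sylow subgroup
  have hloc : ∀ i ∈ (D.S : Subgroup L), i ∉ Subgroup.center L → π i * π i = 1 →
      (∀ g : L, π g * π i = π i * π g → g ∈ M) ∧ ∃ r ∈ (D.S : Subgroup L),
        D.a * r ≠ r * D.a ∧ π D.a * π i = π i * π D.a ∧ π r * π i = π i * π r := by
    intro i hi hiZ hi2
    have hmove : ∀ {y g : L}, g * D.a * g⁻¹ * D.a⁻¹ ∈ Subgroup.center L → y = D.a → π y * π g = π g * π y := by
      rintro y g hg rfl
      have h := π_eq_one.mpr hg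
      simp only [map_mul, map_inv] at h
      exact (mul_inv_eq_iff_eq_mul.mp (mul_inv_eq_one.mp h)).symm
    by_cases hia : i * D.a = D.a * i
    · have hi2' : i * i ∈ Subgroup.center L := π_eq_one.mp (by rw [map_mul]; exact hi2)
      have hia' : π i = π D.a := by
        rcases D.shape.2 i hi hia hi2' with h | h
        · exact absurd h hiZ
        · have h1 : π D.a * π i = 1 := by rw [← map_mul]; exact π_eq_one.mpr h
          exact mul_left_cancel (h1.trans D.π_a.symm)
      refine ⟨fun g hg => ?_, x, hx, fun e => hxa e.symm, by rw [hia'], ?_⟩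
      · rw [hia'] at hg
        refine hMmem.mpr (D.fixed_central ho hx hxa hxo ?_)
        exact Subgroup.mem_centralizer_singleton_iff.mpr hg
      · rw [hia']
        exact (hmove (D.hsa x hx) rfl).symm
    · have hai : π D.a * π i = π i * π D.a := hmove (D.hsa i hi) rfl
      refine ⟨fun g hg => hMmem.mpr ?_, i, hi, fun e => hia e.symm, hai, rfl⟩
      let H := (Subgroup.centralizer ({π i} : Set (L ⧸ Subgroup.center L))).comap π
      have hmemH : ∀ {y}, π y * π i = π i * π y → y ∈ H := fun {y} hy =>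
        Subgroup.mem_centralizer_singleton_iff.mpr hy
      have hH : H ≠ ⊤ := fun e => hiZ (D.q.mem_center_of_mod fun y => by
        have h1 : π y * π i = π i * π y :=
          Subgroup.mem_centralizer_singleton_iff.mp (e.ge (Subgroup.mem_top y) : y ∈ H)
        rw [← π_eq_one]
        simp only [map_mul, map_inv]
        rw [h1, mul_inv_cancel_right, mul_inv_cancel])
      refine D.q.hyp.move hH (x := o) (a := D.a) (b := i) (hmemH ?_) (hmemH hai) (hmemH rfl) hoa.symm (hSo i hi)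
        (fun e => hia e.symm) g (hmemH hg)
      rw [← map_mul, ← map_mul, hSo i hi]
  -- involutions of `Mb` are conjugate into the Sylow subgroup
  have hinto : ∀ t ∈ Mb, orderOf t = 2 → ∃ k ∈ Mb, ∃ i ∈ (D.S : Subgroup L), i ∉ Subgroup.center L ∧
      π i * π i = 1 ∧ k * π i * k⁻¹ = t := by
    intro t htM ht
    obtain ⟨k, hk, hkS⟩ := exists_conj_mem D.Sbar (g := 1) (H := Mb) (fun c hc => by simpa using hSM c hc)
      (IsPGroup.of_card (p := 2) (n := 1) (G := Subgroup.zpowers t) (by rw [Nat.card_zpowers, ht, pow_one]))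
      (Subgroup.zpowers_le.mpr htM)
    have h1 := hkS t (Subgroup.mem_zpowers t)
    rw [mul_one] at h1
    obtain ⟨i, hi, hie⟩ := D.mem_Sbar.mp h1
    obtain ⟨ht2, ht1⟩ := CfsgLib.Involutions.orderOf_eq_two_iff'.mp ht
    refine ⟨k, hk, i, hi, fun e => ht1 ?_, ?_, by rw [hie]; group⟩
    · rw [π_eq_one.mpr e, eq_comm, mul_assoc, inv_mul_eq_iff_eq_mul, mul_one] at hie
      exact mul_eq_right.mp hie
    · rw [hie, show k⁻¹ * t * k * (k⁻¹ * t * k) = k⁻¹ * (t * t) * k by group, ht2]; group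
  have hcentM : ∀ t ∈ Mb, orderOf t = 2 → ∀ c, c * t = t * c → c ∈ Mb := by
    intro t htM ht c hc
    obtain ⟨k, hk, i, hi, hiZ, hi2, rfl⟩ := hinto t htM ht
    obtain ⟨g, hg⟩ := QuotientGroup.mk'_surjective (Subgroup.center L) (k⁻¹ * c * k)
    have hgi : π g * π i = π i * π g := by
      rw [show π g = k⁻¹ * c * k from hg,
        show k⁻¹ * c * k * π i = k⁻¹ * (c * (k * π i * k⁻¹)) * k by group, hc]
      group
    have h2 : k⁻¹ * c * k ∈ Mb := ⟨g, (hloc i hi hiZ hi2).1 g hgi, hg⟩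
    have := mul_mem (mul_mem hk h2) (inv_mem hk)
    rwa [show k * (k⁻¹ * c * k) * k⁻¹ = c by group] at this
  have hTI : ∀ t ∈ Mb, orderOf t = 2 → ∀ g, g * t * g⁻¹ ∈ Mb → g ∈ Mb := by
    intro t htM ht g hg
    have hg2 : orderOf (g * t * g⁻¹) = 2 := by rw [CfsgLib.Involutions.orderOf_conj, ht]
    obtain ⟨k, hk, i, hi, hiZ, hi2, rfl⟩ := hinto t htM ht
    obtain ⟨r, hr, hpr, hpi, hri⟩ := (hloc i hi hiZ hi2).2
    obtain ⟨h, hh⟩ := QuotientGroup.mk'_surjective (Subgroup.center L) (g * k)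
    have hh' : π h = g * k := hh
    have hpush : ∀ y : L, π y * π i = π i * π y → y * o = o * y → (h * y * h⁻¹) * o = o * (h * y * h⁻¹) ∧
        (h * y * h⁻¹) * (h * o * h⁻¹) = h * o * h⁻¹ * (h * y * h⁻¹) := by
      intro y hy hyo
      constructor
      · refine hMmem.mp (hback (hcentM _ hg hg2 _ ?_))
        rw [map_mul, map_mul, map_inv, hh',
          show g * k * π y * (g * k)⁻¹ * (g * (k * π i * k⁻¹) * g⁻¹) = g * k * (π y * π i) * (g * k)⁻¹ by group, hy]
        group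
      · rw [show h * y * h⁻¹ * (h * o * h⁻¹) = h * (y * o) * h⁻¹ by group, hyo]; group
    obtain ⟨hpo, hpo'⟩ := hpush D.a hpi (hSo D.a D.ha)
    obtain ⟨hro, hro'⟩ := hpush r hri (hSo r hr)
    have hne : h * D.a * h⁻¹ * (h * r * h⁻¹) ≠ h * r * h⁻¹ * (h * D.a * h⁻¹) := fun e => hpr (by
      rw [show h * D.a * h⁻¹ * (h * r * h⁻¹) = h * (D.a * r) * h⁻¹ by group,
        show h * r * h⁻¹ * (h * D.a * h⁻¹) = h * (r * D.a) * h⁻¹ by group] at e
      exact mul_left_cancel (mul_right_cancel e))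
    set o' := h * o * h⁻¹ with ho'
    have ho'Z : o' ∉ Subgroup.center L := fun e => hoZ (by
      have := (inferInstance : (Subgroup.center L).Normal).conj_mem _ e h⁻¹
      rwa [ho', show h⁻¹ * (h * o * h⁻¹) * h⁻¹⁻¹ = o by group] at this)
    have hoM : M ≠ ⊤ := D.q.cent_ne_top hoZ
    -- `o'` is central in the centraliser of `o`
    have hoo' : o' * o = o * o' := by
      have hback' : ∀ y, y * (h * D.a * h⁻¹) = h * D.a * h⁻¹ * y → (h⁻¹ * y * h) * D.a = D.a * (h⁻¹ * y * h) :=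
        fun y hy => by
          calc h⁻¹ * y * h * D.a = h⁻¹ * (y * (h * D.a * h⁻¹)) * h := by group
            _ = h⁻¹ * (h * D.a * h⁻¹ * y) * h := by rw [hy]
            _ = D.a * (h⁻¹ * y * h) := by group
      have e := D.cent_comm (hback' o' hpo'.symm) (hback' o hpo.symm)
      calc o' * o = h * (h⁻¹ * o' * h * (h⁻¹ * o * h)) * h⁻¹ := by group
        _ = o * o' := by rw [e]; group
    have hle := D.q.cent_le hoZ hpo hro hoo' hpo' hro' hne
    have heq := D.q.cent_eq hpo hro hne (D.q.cent_ne_top ho'Z) hle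
    have hhM : h ∈ M := by
      refine hMmem.mpr (D.q.cent_self_normalizing hoZ hpo hro hne fun c hc => ?_)
      refine Subgroup.mem_centralizer_singleton_iff.mp (heq.le (Subgroup.mem_centralizer_singleton_iff.mpr ?_))
      rw [ho', show h * c * h⁻¹ * (h * o * h⁻¹) = h * (c * o) * h⁻¹ by group, hc]; group
    have h3 : g * k ∈ Mb := ⟨h, hhM, hh⟩
    have := mul_mem h3 (inv_mem hk)
    rwa [mul_inv_cancel_right] at this
  set Cb := Subgroup.centralizer ({π D.a} : Set (L ⧸ Subgroup.center L))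
  have hā : orderOf (π D.a) = 2 :=
    CfsgLib.Involutions.orderOf_eq_two_iff'.mpr ⟨D.π_a, fun e => D.haZ (π_eq_one.mp e)⟩
  have haM : π D.a ∈ Mb := ⟨D.a, hMmem.mpr hoa.symm, rfl⟩
  have hCM : Cb ≤ Mb := fun c hc => hcentM _ haM hā c (Subgroup.mem_centralizer_singleton_iff.mp hc)
  have hoD : ∀ g ∈ D.Dg, g * o = o * g := fun g hg => D.fixed_central ho hx hxa hxo hg
  -- no elements of `Cb` are inverted from outside
  have hinv : ∀ v, orderOf v = 2 → v ∉ Mb → ∀ d ∈ Cb, v * d * v⁻¹ = d⁻¹ → d = 1 := by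
    intro v hv hvM d hd hvd
    by_contra hd1
    have hfix : ∀ e ∈ Mb, e ≠ 1 → e * e = 1 → v * e * v⁻¹ = e⁻¹ → False := fun e he he1 he2 hve =>
      hvM (hcentM e he (CfsgLib.Involutions.orderOf_eq_two_iff'.mpr ⟨he2, he1⟩) v (by
        rw [inv_eq_of_mul_eq_one_right he2] at hve
        exact mul_inv_eq_iff_eq_mul.mp hve))
    have hd2 : d * d ≠ 1 := fun e => hfix d (hCM hd) hd1 e hvd
    have hvd2 : v * (d * d) * v⁻¹ = (d * d)⁻¹ := by
      rw [show v * (d * d) * v⁻¹ = (v * d * v⁻¹) * (v * d * v⁻¹) by group, hvd, mul_inv_rev]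
    have hd4 : d * d * (d * d) ≠ 1 := fun e => hfix _ (mul_mem (hCM hd) (hCM hd)) hd2 e hvd2
    obtain ⟨e, he⟩ := QuotientGroup.mk'_surjective (Subgroup.center L) d
    have he' : π e = d := he
    have heD : e ∈ D.Dg := by
      show π e ∈ Cb
      rwa [he']
    have he2a : e * e * D.a = D.a * (e * e) := by
      have h1 := D.mem_Dg.mp heD
      have hsq := D.comm_sq h1
      set z := e * D.a * e⁻¹ * D.a⁻¹ with hz
      have hzc := Subgroup.mem_center_iff.mp h1
      have e1 : e * D.a * e⁻¹ = z * D.a := by rw [hz]; group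
      clear_value z
      rw [← mul_inv_eq_iff_eq_mul, show e * e * D.a * (e * e)⁻¹ = e * (e * D.a * e⁻¹) * e⁻¹ by group, e1,
        show e * (z * D.a) * e⁻¹ = e * z * e⁻¹ * (e * D.a * e⁻¹) by group, hzc e, mul_inv_cancel_right, e1,
        ← mul_assoc, hsq, one_mul]
    obtain ⟨w, hw⟩ := QuotientGroup.mk'_surjective (Subgroup.center L) v
    have hw' : π w = v := hw
    have hπe : π (e * e) = d * d := by rw [map_mul, he']
    obtain ⟨z, hz, ez⟩ := π_eq (show π (w * (e * e) * w⁻¹) = π (e * e)⁻¹ by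
      rw [map_mul, map_mul, map_inv, map_inv, hw', hπe, hvd2])
    have he2Z : e * e ∉ Subgroup.center L := fun h => hd2 (by rw [← hπe, π_eq_one.mpr h])
    have hwe : w * (e * e) ≠ e * e * w := fun h => hd4 (by
      rw [mul_inv_eq_iff_eq_mul.mpr h] at ez
      have h1 := congrArg π ez
      rw [map_mul π (e * e)⁻¹, π_eq_one.mpr hz, mul_one, map_inv, hπe] at h1
      exact eq_inv_iff_mul_eq_one.mp h1)
    have hwa : (w * D.a * w⁻¹) * (e * e) = e * e * (w * D.a * w⁻¹) := by
      have h1 : Commute (w * D.a * w⁻¹) ((e * e)⁻¹ * z) := by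
        rw [← ez]
        show w * D.a * w⁻¹ * (w * (e * e) * w⁻¹) = w * (e * e) * w⁻¹ * (w * D.a * w⁻¹)
        rw [show w * D.a * w⁻¹ * (w * (e * e) * w⁻¹) = w * (D.a * (e * e)) * w⁻¹ by group, ← he2a]; group
      have h2 := h1.mul_right (show Commute (w * D.a * w⁻¹) z from Subgroup.mem_center_iff.mp hz _).inv_right
      rw [mul_inv_cancel_right] at h2
      simpa using h2.inv_right.eq
    have h3 := D.q.abelian_of_real he2Z hz ez hwe hwa (hoD _ (mul_mem heD heD)).symm
    have hmem : v * π D.a * v⁻¹ ∈ Mb := ⟨w * D.a * w⁻¹, hMmem.mpr h3, by rw [map_mul, map_mul, map_inv, hw']⟩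
    exact hvM (hTI _ haM hā v hmem)
  -- counting involutions in the cosets
  let φ : (L ⧸ Subgroup.center L) ⧸ Cb → L ⧸ Subgroup.center L := fun q => q.out * π D.a * q.out⁻¹
  have hφ : ∀ g : L ⧸ Subgroup.center L, φ (QuotientGroup.mk g) = g * π D.a * g⁻¹ := by
    intro g
    obtain ⟨c, hc⟩ := QuotientGroup.mk_out_eq_mul Cb g
    show (QuotientGroup.mk g : (L ⧸ Subgroup.center L) ⧸ Cb).out * π D.a * _⁻¹ = _
    rw [hc, show g * (c : L ⧸ Subgroup.center L) * π D.a * (g * (c : L ⧸ Subgroup.center L))⁻¹ =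
      g * ((c : L ⧸ Subgroup.center L) * π D.a * (c : L ⧸ Subgroup.center L)⁻¹) * g⁻¹ by group,
      Subgroup.mem_centralizer_singleton_iff.mp c.2, mul_inv_cancel_right]
  have hφinj : Function.Injective φ := by
    intro q q'
    induction q using QuotientGroup.induction_on with
    | H g =>
      induction q' using QuotientGroup.induction_on with
      | H g' =>
        intro e
        rw [hφ, hφ] at e
        refine QuotientGroup.eq.mpr (Subgroup.mem_centralizer_singleton_iff.mpr ?_)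
        calc g⁻¹ * g' * π D.a = g⁻¹ * (g' * π D.a * g'⁻¹) * g' := by group
          _ = g⁻¹ * (g * π D.a * g⁻¹) * g' := by rw [e]
          _ = π D.a * (g⁻¹ * g') := by group
  have hφ2 : ∀ q, orderOf (φ q) = 2 := fun q => by rw [CfsgLib.Involutions.orderOf_conj, hā]
  have hφout : ∀ q, φ q = q.out * π D.a * q.out⁻¹ := fun q => rfl
  clear_value φ
  let r : (L ⧸ Subgroup.center L) ⧸ Cb → (L ⧸ Subgroup.center L) ⧸ Mb := fun q => QuotientGroup.mk (φ q)
  haveI := Fintype.ofFinite ((L ⧸ Subgroup.center L) ⧸ Cb)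
  haveI := Fintype.ofFinite ((L ⧸ Subgroup.center L) ⧸ Mb)
  haveI := Fintype.ofFinite (↥Mb ⧸ Cb.subgroupOf Mb)
  set k := Fintype.card (↥Mb ⧸ Cb.subgroupOf Mb) with hk
  have hle : ∀ w, (Finset.univ.filter fun q => r q = w).card ≤ k := by
    intro w
    rcases Finset.eq_empty_or_nonempty (Finset.univ.filter fun q => r q = w) with e | ⟨q₀, hq₀⟩
    · rw [e]; exact Nat.zero_le _
    by_cases hw : w = QuotientGroup.mk 1
    · -- the involutions in `Mb`
      refine Finset.card_le_card_of_injOn (fun q => QuotientGroup.mk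
        (if hq : q.out ∈ Mb then (⟨q.out, hq⟩ : Mb) else 1)) (fun q _ => Finset.mem_univ _) ?_
      intro q hq q' hq' e
      have hout : ∀ {q}, r q = w → q.out ∈ Mb := by
        intro q hq
        rw [hw] at hq
        have h1 : φ q ∈ Mb := by
          have := QuotientGroup.eq.mp hq.symm
          rwa [inv_one, one_mul] at this
        rw [hφout] at h1
        exact hTI _ haM hā _ h1
      simp only [Finset.coe_filter, Finset.mem_univ, true_and, Set.mem_ofPred_eq] at hq hq'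
      simp only [dif_pos (hout hq), dif_pos (hout hq')] at e
      have h2 := QuotientGroup.eq.mp e
      rw [Subgroup.mem_subgroupOf] at h2
      rw [← QuotientGroup.out_eq' q, ← QuotientGroup.out_eq' q']
      exact QuotientGroup.eq.mpr h2
    · simp only [Finset.mem_filter, Finset.mem_univ, true_and] at hq₀
      have hmem : ∀ {q}, r q = w → φ q₀ * φ q ∈ Mb := by
        intro q hq
        have := QuotientGroup.eq.mp (hq₀.trans hq.symm)
        rwa [CfsgLib.Involutions.inv_eq_self_of_orderOf (hφ2 q₀)] at this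
      refine Finset.card_le_card_of_injOn (fun q => QuotientGroup.mk
        (if hq : φ q₀ * φ q ∈ Mb then (⟨_, hq⟩ : Mb) else 1)) (fun q _ => Finset.mem_univ _) ?_
      intro q hq q' hq' e
      simp only [Finset.coe_filter, Finset.mem_univ, true_and, Set.mem_ofPred_eq] at hq hq'
      simp only [dif_pos (hmem hq), dif_pos (hmem hq')] at e
      have h2 := QuotientGroup.eq.mp e
      rw [Subgroup.mem_subgroupOf] at h2
      change (φ q₀ * φ q)⁻¹ * (φ q₀ * φ q') ∈ Cb at h2
      rw [show (φ q₀ * φ q)⁻¹ * (φ q₀ * φ q') = (φ q)⁻¹ * φ q' by group,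
        CfsgLib.Involutions.inv_eq_self_of_orderOf (hφ2 q)] at h2
      have hqM : φ q ∉ Mb := fun hqM => hw (by
        rw [← hq]
        exact QuotientGroup.eq.mpr (by simpa using inv_mem hqM))
      have hd := hinv (φ q) (hφ2 q) hqM _ h2 (by
        rw [← mul_assoc, CfsgLib.Involutions.mul_self_eq_one_of_orderOf (hφ2 q), one_mul, mul_inv_rev,
          CfsgLib.Involutions.inv_eq_self_of_orderOf (hφ2 q),
          CfsgLib.Involutions.inv_eq_self_of_orderOf (hφ2 q')])
      exact hφinj (by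
        rw [← CfsgLib.Involutions.inv_eq_self_of_orderOf (hφ2 q)]
        exact inv_eq_of_mul_eq_one_right hd)
  have htot : ∑ w, (Finset.univ.filter fun q => r q = w).card =
      ∑ _w : (L ⧸ Subgroup.center L) ⧸ Mb, k := by
    rw [← Finset.card_eq_sum_card_fiberwise (fun q _ => Finset.mem_univ (r q)), Finset.sum_const, Finset.card_univ,
      Finset.card_univ, smul_eq_mul]
    have h1 : Cb.relIndex Mb * Mb.index = Cb.index := Subgroup.relIndex_mul_index hCM
    rw [Subgroup.relIndex, Subgroup.index_eq_card, Subgroup.index_eq_card, Subgroup.index_eq_card,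
      Nat.card_eq_fintype_card, Nat.card_eq_fintype_card, Nat.card_eq_fintype_card, mul_comm] at h1
    exact h1.symm
  have hexact : ∀ w, (Finset.univ.filter fun q => r q = w).card = k := fun w =>
    (Finset.sum_eq_sum_iff_of_le fun w _ => hle w).mp htot w (Finset.mem_univ w)
  have hk2 : 1 < k := by
    rw [hk, Fintype.one_lt_card_iff_nontrivial]
    obtain ⟨hxx, hx1⟩ : π x * π x = 1 ∧ π x ≠ 1 := ⟨by rw [← map_mul, π_eq_one.mpr (D.sq_center hx hxa)],
      fun e => D.π_ne hxa (show (1 : L) * D.a = D.a * 1 by group) (e.trans (map_one π).symm)⟩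
    obtain ⟨g, hg⟩ := isConj_iff.mp (D.conj_all hā (CfsgLib.Involutions.orderOf_eq_two_iff'.mpr ⟨hxx, hx1⟩))
    have hgM : g ∈ Mb := hTI _ haM hā g (by rw [hg]; exact hSM _ (D.mem_Sbar.mpr ⟨x, hx, rfl⟩))
    refine ⟨QuotientGroup.mk ⟨g, hgM⟩, QuotientGroup.mk 1, fun e => D.π_ne hxa (u := D.a) rfl ?_⟩
    have h2 := QuotientGroup.eq.mp e.symm
    rw [inv_one, one_mul, Subgroup.mem_subgroupOf] at h2
    rw [← hg, Subgroup.mem_centralizer_singleton_iff.mp h2, mul_inv_cancel_right]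
  -- all conjugates of `o` commute
  have hcomm : ∀ g : L, g * o * g⁻¹ * o = o * (g * o * g⁻¹) := by
    intro g
    by_cases hgM : g ∈ M
    · rw [hMmem.mp hgM, mul_inv_cancel_right]
    have hlt : 1 < (Finset.univ.filter fun q => r q = QuotientGroup.mk (π g)).card := by rw [hexact]; exact hk2
    obtain ⟨q₁, hq₁, q₂, hq₂, hne⟩ := Finset.one_lt_card.mp hlt
    simp only [Finset.mem_filter, Finset.mem_univ, true_and] at hq₁ hq₂
    set v := φ q₁
    set v' := φ q₂
    have hvv : v⁻¹ = v := CfsgLib.Involutions.inv_eq_self_of_orderOf (hφ2 q₁)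
    have hvv' : v'⁻¹ = v' := CfsgLib.Involutions.inv_eq_self_of_orderOf (hφ2 q₂)
    have hvM : v ∉ Mb := fun h => hgM (hback (by
      have h1 := QuotientGroup.eq.mp hq₁
      have h2 := mul_mem h h1
      rwa [mul_inv_cancel_left] at h2))
    set m := v * v' with hm
    have hmM : m ∈ Mb := by
      have := QuotientGroup.eq.mp (hq₁.trans hq₂.symm)
      rwa [hvv] at this
    have hm1 : m ≠ 1 := fun e => hne (hφinj (hvv.symm.trans (inv_eq_of_mul_eq_one_right e)))
    have hvm : v * m * v⁻¹ = m⁻¹ := by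
      rw [hm, mul_inv_rev, ← mul_assoc, CfsgLib.Involutions.mul_self_eq_one_of_orderOf (hφ2 q₁), one_mul, hvv']
    have hm2 : m * m ≠ 1 := fun e => hvM (hcentM m hmM (CfsgLib.Involutions.orderOf_eq_two_iff'.mpr ⟨e, hm1⟩) v (by
      rw [inv_eq_of_mul_eq_one_right e] at hvm
      exact mul_inv_eq_iff_eq_mul.mp hvm))
    obtain ⟨w, hw⟩ := QuotientGroup.mk'_surjective (Subgroup.center L) v
    have hw' : π w = v := hw
    obtain ⟨m₁, hm₁, hm₁'⟩ := hmM
    obtain ⟨z, hz, ez⟩ := π_eq (show π (w * m₁ * w⁻¹) = π m₁⁻¹ by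
      rw [map_mul, map_mul, map_inv, map_inv, hw', hm₁', hvm])
    have hm₁Z : m₁ ∉ Subgroup.center L := fun h => hm1 (by rw [← hm₁', π_eq_one.mpr h])
    have hwm : w * m₁ ≠ m₁ * w := fun h => hm2 (by
      rw [mul_inv_eq_iff_eq_mul.mpr h] at ez
      have h1 := congrArg π ez
      rw [map_mul π m₁⁻¹, π_eq_one.mpr hz, mul_one, map_inv, hm₁'] at h1
      exact eq_inv_iff_mul_eq_one.mp h1)
    have hwo : (w * o * w⁻¹) * m₁ = m₁ * (w * o * w⁻¹) := by
      have h1 : Commute (w * o * w⁻¹) (m₁⁻¹ * z) := by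
        rw [← ez]
        show w * o * w⁻¹ * (w * m₁ * w⁻¹) = w * m₁ * w⁻¹ * (w * o * w⁻¹)
        rw [show w * o * w⁻¹ * (w * m₁ * w⁻¹) = w * (o * m₁) * w⁻¹ by group, ← hMmem.mp hm₁]; group
      have h2 := h1.mul_right (show Commute (w * o * w⁻¹) z from Subgroup.mem_center_iff.mp hz _).inv_right
      rw [mul_inv_cancel_right] at h2
      simpa using h2.inv_right.eq
    have h3 := D.q.abelian_of_real hm₁Z hz ez hwm hwo (hMmem.mp hm₁).symm
    have hgw : w⁻¹ * g ∈ M := hback (by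
      rw [map_mul, map_inv, hw']
      exact QuotientGroup.eq.mp hq₁)
    have hgo : g * o * g⁻¹ = w * o * w⁻¹ := by
      calc g * o * g⁻¹ = w * ((w⁻¹ * g) * o * (w⁻¹ * g)⁻¹) * w⁻¹ := by group
        _ = w * o * w⁻¹ := by rw [hMmem.mp hgw, mul_inv_cancel_right]
    rw [hgo]
    exact h3
  -- hence a commutative normal subgroup
  apply hoZ
  set N := Subgroup.normalClosure ({o} : Set L) with hN
  have hgen : ∀ c ∈ Group.conjugatesOfSet ({o} : Set L), ∀ d ∈ Group.conjugatesOfSet ({o} : Set L), c * d = d * c := by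
    intro c hc d hd
    obtain ⟨c₀, hc₀, hcc⟩ := Group.mem_conjugatesOfSet_iff.mp hc
    obtain ⟨d₀, hd₀, hdd⟩ := Group.mem_conjugatesOfSet_iff.mp hd
    rw [Set.mem_singleton_iff] at hc₀ hd₀
    rw [hc₀] at hcc
    rw [hd₀] at hdd
    obtain ⟨g, rfl⟩ := isConj_iff.mp hcc
    obtain ⟨g', rfl⟩ := isConj_iff.mp hdd
    have h := hcomm (g'⁻¹ * g)
    calc g * o * g⁻¹ * (g' * o * g'⁻¹) = g' * ((g'⁻¹ * g) * o * (g'⁻¹ * g)⁻¹ * o) * g'⁻¹ := by group
      _ = _ := by rw [h]; group
  have hle1 : N ≤ Subgroup.centralizer (Group.conjugatesOfSet ({o} : Set L)) :=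
    (Subgroup.closure_le _).mpr fun c hc => Subgroup.mem_centralizer_iff.mpr fun d hd => hgen d hd c hc
  have hle2 : N ≤ Subgroup.centralizer (N : Set L) := (Subgroup.closure_le _).mpr fun c hc =>
    Subgroup.mem_centralizer_iff.mpr fun d hd => (Subgroup.mem_centralizer_iff.mp (hle1 hd) c hc).symm
  exact D.q.hyp.solvable_normal_le_center N inferInstance
    (Group.isSolvable_of_comm fun c d => Subtype.ext (Subgroup.mem_centralizer_iff.mp (hle2 d.2) c c.2))
    (Subgroup.subset_normalClosure (Set.mem_singleton o))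

end TwoData

end CfsgLib.MinNonCA
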