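import Cfsg.Agent.Lib.MinNonCA.TwoSylowCenter

/-!
A non-abelian Sylow 2-subgroup: an element central modulo the centre, and its centraliser modulo the centre.
-/

set_option autoImplicit false
set_option linter.style.haveILetI false
set_option linter.unusedSectionVars false

namespace CfsgLib.MinNonCA

open Subgroup

universe u

variable {L : Type u} [Group L] [Finite L]

/-- An element of a non-abelian Sylow 2-subgroup, an involution central in it modulo the centre. -/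
structure TwoData (L : Type u) [Group L] where
  q : Quasi L
  S : Sylow 2 L
  hS : ∃ x ∈ (S : Subgroup L), ∃ y ∈ (S : Subgroup L), x * y ≠ y * x
  a : L
  ha : a ∈ (S : Subgroup L)
  haZ : a ∉ Subgroup.center L
  ha2 : a * a ∈ Subgroup.center L
  hsa : ∀ s ∈ (S : Subgroup L), s * a * s⁻¹ * a⁻¹ ∈ Subgroup.center L

namespace TwoData

variable (D : TwoData L)

/-- The map to the simple quotient. -/
abbrev π : L →* L ⧸ Subgroup.center L := QuotientGroup.mk' (Subgroup.center L)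

theorem π_eq_one {x : L} : π x = 1 ↔ x ∈ Subgroup.center L := QuotientGroup.eq_one_iff x

theorem π_eq {x y : L} (h : π x = π y) : ∃ z ∈ Subgroup.center L, x = y * z := by
  refine ⟨y⁻¹ * x, ?_, by group⟩
  rw [← π_eq_one, map_mul, map_inv, h, inv_mul_cancel]

theorem π_comm_of_eq {x y z : L} (h : π x = π y) (hz : z * y = y * z) : z * x = x * z := by
  obtain ⟨w, hw, rfl⟩ := π_eq h
  exact ((show Commute z y from hz).mul_right (Subgroup.mem_center_iff.mp hw z)).eq

theorem S_ne_top : (D.S : Subgroup L) ≠ ⊤ :=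
  ne_top_of_solvable D.q.hyp.nonsolv (isSolvable_of_isPGroup D.S.2)

/-- Elements of `S` commuting with a non-central element of `S` commute. -/
theorem S_comm {c x y : L} (hc : c ∈ (D.S : Subgroup L)) (hcZ : c ∉ Subgroup.center L)
    (hx : x ∈ (D.S : Subgroup L)) (hy : y ∈ (D.S : Subgroup L)) (hxc : x * c = c * x) (hyc : y * c = c * y) :
    x * y = y * x := by
  obtain ⟨w, hw, hwc⟩ : ∃ w ∈ (D.S : Subgroup L), w * c ≠ c * w := by
    by_contra hall
    push Not at hall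
    exact hcZ (D.q.central_of_central D.S D.hS hc hall)
  exact D.q.hyp.comm D.S_ne_top hc hx hy hw hxc hyc hwc

theorem exists_moving : ∃ x ∈ (D.S : Subgroup L), x * D.a ≠ D.a * x := by
  by_contra hall
  push Not at hall
  exact D.haZ (D.q.central_of_central D.S D.hS D.ha hall)

/-- The centraliser of `a` is abelian. -/
theorem cent_comm {u v : L} (hu : u * D.a = D.a * u) (hv : v * D.a = D.a * v) : u * v = v * u := by
  obtain ⟨x, hx, hxa⟩ := D.exists_moving
  exact D.q.abelian_of_moved (D.hsa x hx) hxa hu hv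

theorem π_a : π D.a * π D.a = 1 := by rw [← map_mul, π_eq_one.mpr D.ha2]

/-- The commutator with `a` squares to one. -/
theorem comm_sq {g : L} (hg : g * D.a * g⁻¹ * D.a⁻¹ ∈ Subgroup.center L) :
    g * D.a * g⁻¹ * D.a⁻¹ * (g * D.a * g⁻¹ * D.a⁻¹) = 1 := by
  set z := g * D.a * g⁻¹ * D.a⁻¹ with hz
  have hzc := Subgroup.mem_center_iff.mp hg
  have e1 : g * D.a * g⁻¹ = z * D.a := by rw [hz]; group
  have e2 : g * D.a * g⁻¹ * (g * D.a * g⁻¹) = D.a * D.a := by
    rw [show g * D.a * g⁻¹ * (g * D.a * g⁻¹) = g * (D.a * D.a) * g⁻¹ by group, Subgroup.mem_center_iff.mp D.ha2 g,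
      mul_inv_cancel_right]
  rw [e1, show z * D.a * (z * D.a) = z * (D.a * z) * D.a by group, hzc D.a,
    show z * (z * D.a) * D.a = z * z * (D.a * D.a) by group] at e2
  exact mul_eq_right.mp e2

/-- Squares of elements of `S` moving `a` are central. -/
theorem sq_center {x : L} (hx : x ∈ (D.S : Subgroup L)) (hxa : x * D.a ≠ D.a * x) : x * x ∈ Subgroup.center L := by
  by_contra hc
  apply hxa
  refine D.S_comm (mul_mem hx hx) hc hx D.ha (mul_assoc x x x).symm ?_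
  have h := D.comm_sq (D.hsa x hx)
  set z := x * D.a * x⁻¹ * D.a⁻¹ with hz
  have hzc := Subgroup.mem_center_iff.mp (D.hsa x hx)
  have e1 : x * D.a = z * D.a * x := by rw [hz]; group
  calc D.a * (x * x) = (z * z) * (D.a * (x * x)) := by rw [h, one_mul]
    _ = z * ((z * D.a * x) * x) := by group
    _ = z * (x * D.a * x) := by rw [← e1]
    _ = (z * x) * D.a * x := by group
    _ = x * (z * D.a * x) := by rw [← hzc x, ← hz]; simp only [mul_assoc]
    _ = x * x * D.a := by rw [← e1]; group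

theorem fix_center {c x : L} (hc : c ∈ (D.S : Subgroup L)) (hca : c * D.a = D.a * c) (hx : x ∈ (D.S : Subgroup L))
    (hxa : x * D.a ≠ D.a * x) (hxc : x * c = c * x) : c ∈ Subgroup.center L := by
  by_contra hcZ
  exact hxa (D.S_comm hc hcZ hx D.ha hxc hca.symm)

theorem conj_cent {g u : L} (hg : g * D.a * g⁻¹ * D.a⁻¹ ∈ Subgroup.center L) (hu : u * D.a = D.a * u) :
    (g * u * g⁻¹) * D.a = D.a * (g * u * g⁻¹) := by
  set z := g * D.a * g⁻¹ * D.a⁻¹ with hz
  have hzc := Subgroup.mem_center_iff.mp hg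
  have e1 : D.a = z⁻¹ * (g * D.a * g⁻¹) := by rw [hz]; group
  have h1 : Commute (g * u * g⁻¹) (g * D.a * g⁻¹) := by
    show g * u * g⁻¹ * (g * D.a * g⁻¹) = g * D.a * g⁻¹ * (g * u * g⁻¹)
    rw [show g * u * g⁻¹ * (g * D.a * g⁻¹) = g * (u * D.a) * g⁻¹ by group, hu]; group
  rw [e1]
  exact ((show Commute (g * u * g⁻¹) z from hzc _).inv_right.mul_right h1).eq

/-- Elements moving `a` invert `C_S(a)` modulo the centre. -/
theorem inverts {b x : L} (hb : b ∈ (D.S : Subgroup L)) (hba : b * D.a = D.a * b) (hx : x ∈ (D.S : Subgroup L))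
    (hxa : x * D.a ≠ D.a * x) : π (x * b * x⁻¹) = (π b)⁻¹ := by
  have hb' := D.conj_cent (D.hsa x hx) hba
  suffices h : x * b * x⁻¹ * b ∈ Subgroup.center L by
    rw [eq_inv_iff_mul_eq_one, ← map_mul, π_eq_one]
    exact h
  refine D.fix_center (mul_mem (mul_mem (mul_mem hx hb) (inv_mem hx)) hb)
    ((show Commute _ D.a from hb').mul_left hba).eq hx hxa ?_
  have hxx := Subgroup.mem_center_iff.mp (D.sq_center hx hxa) b
  calc x * (x * b * x⁻¹ * b) = (x * x * b) * x⁻¹ * b := by group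
    _ = (b * (x * x)) * x⁻¹ * b := by rw [hxx]
    _ = b * (x * b * x⁻¹) * x := by group
    _ = (x * b * x⁻¹) * b * x := by rw [D.cent_comm hba hb']

/-- Either `C_S(a)` has index two, or `S` is elementary modulo the centre. -/
theorem index_or_elementary :
    (∀ x ∈ (D.S : Subgroup L), ∀ y ∈ (D.S : Subgroup L), x * D.a ≠ D.a * x → y * D.a ≠ D.a * y →
      (x⁻¹ * y) * D.a = D.a * (x⁻¹ * y)) ∨
    ((∀ s ∈ (D.S : Subgroup L), s * s ∈ Subgroup.center L) ∧
      ∃ x ∈ (D.S : Subgroup L), ∃ y ∈ (D.S : Subgroup L), x * D.a ≠ D.a * x ∧ y * D.a ≠ D.a * y ∧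
        (x⁻¹ * y) * D.a ≠ D.a * (x⁻¹ * y)) := by
  by_cases h : ∀ x ∈ (D.S : Subgroup L), ∀ y ∈ (D.S : Subgroup L), x * D.a ≠ D.a * x → y * D.a ≠ D.a * y →
      (x⁻¹ * y) * D.a = D.a * (x⁻¹ * y)
  · exact Or.inl h
  · right
    push Not at h
    obtain ⟨x, hx, y, hy, hxa, hya, hxya⟩ := h
    refine ⟨fun s hs => ?_, x, hx, y, hy, hxa, hya, hxya⟩
    by_cases hsa : s * D.a = D.a * s
    · have h1 := D.inverts hs hsa hx hxa
      have h2 := D.inverts hs hsa hy hya
      have h3 := D.inverts hs hsa (mul_mem (inv_mem hx) hy) hxya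
      simp only [map_mul, map_inv] at h1 h2 h3
      have h4 : π y * π s * (π y)⁻¹ = π x * ((π x)⁻¹ * π y * π s * ((π x)⁻¹ * π y)⁻¹) * (π x)⁻¹ := by group
      rw [h3, h2, ← conj_inv, h1, inv_inv] at h4
      rw [← π_eq_one, map_mul]
      exact inv_eq_iff_mul_eq_one.mp h4
    · exact D.sq_center hs hsa

theorem π_comm_S (hel : ∀ s ∈ (D.S : Subgroup L), s * s ∈ Subgroup.center L) {u v : L}
    (hu : u ∈ (D.S : Subgroup L)) (hv : v ∈ (D.S : Subgroup L)) : π u * π v = π v * π u := by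
  have key : ∀ s ∈ (D.S : Subgroup L), (π s)⁻¹ = π s := fun s hs =>
    inv_eq_of_mul_eq_one_right (by rw [← map_mul, π_eq_one.mpr (hel s hs)])
  have h := key _ (mul_mem hu hv)
  rw [map_mul, mul_inv_rev, key v hv, key u hu] at h
  exact h.symm

/-- Moving to another element when `S` is elementary modulo the centre. -/
def change (hel : ∀ s ∈ (D.S : Subgroup L), s * s ∈ Subgroup.center L) {t : L} (ht : t ∈ (D.S : Subgroup L))
    (htZ : t ∉ Subgroup.center L) : TwoData L where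
  q := D.q
  S := D.S
  hS := D.hS
  a := t
  ha := ht
  haZ := htZ
  ha2 := hel t ht
  hsa := fun s hs => by
    rw [← π_eq_one]
    simp only [map_mul, map_inv]
    rw [D.π_comm_S hel hs ht, mul_inv_cancel_right, mul_inv_cancel]

/-- The elements fixing `a` modulo the centre. -/
def Dg : Subgroup L := (Subgroup.centralizer ({π D.a} : Set (L ⧸ Subgroup.center L))).comap π

theorem mem_Dg {g : L} : g ∈ D.Dg ↔ g * D.a * g⁻¹ * D.a⁻¹ ∈ Subgroup.center L := by
  rw [Dg, Subgroup.mem_comap, Subgroup.mem_centralizer_singleton_iff, ← π_eq_one]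
  simp only [map_mul, map_inv]
  rw [mul_inv_eq_one, mul_inv_eq_iff_eq_mul]

theorem S_le_Dg : (D.S : Subgroup L) ≤ D.Dg := fun s hs => D.mem_Dg.mpr (D.hsa s hs)

theorem cent_le_Dg {g : L} (hg : g * D.a = D.a * g) : g ∈ D.Dg := by
  rw [D.mem_Dg, hg, mul_inv_cancel_right, mul_inv_cancel]
  exact one_mem _

theorem Dg_ne_top : D.Dg ≠ ⊤ := fun e => D.haZ (D.q.mem_center_of_mod fun g => D.mem_Dg.mp (e ▸ Subgroup.mem_top g))

/-- Odd elements centralising `a`. -/
def O : Subgroup L where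
  carrier := {u | u * D.a = D.a * u ∧ Odd (orderOf u)}
  one_mem' := ⟨by rw [one_mul, mul_one], by rw [orderOf_one]; exact odd_one⟩
  mul_mem' := by
    rintro u v ⟨hu, hu'⟩ ⟨hv, hv'⟩
    exact ⟨((show Commute u D.a from hu).mul_left hv).eq, (hu'.mul hv').of_dvd_nat
      ((show Commute u v from D.cent_comm hu hv).orderOf_mul_dvd_mul_orderOf)⟩
  inv_mem' := by
    rintro u ⟨hu, hu'⟩
    exact ⟨(show Commute u D.a from hu).inv_left.eq, by rwa [orderOf_inv]⟩

theorem mem_O {u : L} : u ∈ D.O ↔ u * D.a = D.a * u ∧ Odd (orderOf u) := Iff.rfl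

theorem O_le_Dg : D.O ≤ D.Dg := fun _ hu => D.cent_le_Dg (D.mem_O.mp hu).1

theorem conj_O {g u : L} (hg : g ∈ D.Dg) (hu : u ∈ D.O) : g * u * g⁻¹ ∈ D.O := by
  obtain ⟨hu1, hu2⟩ := D.mem_O.mp hu
  exact D.mem_O.mpr ⟨D.conj_cent (D.mem_Dg.mp hg) hu1, by rwa [CfsgLib.Involutions.orderOf_conj]⟩

/-- Odd elements fixing `a` modulo the centre centralise `a`. -/
theorem odd_mem_O {g : L} (hg : g ∈ D.Dg) (ho : Odd (orderOf g)) : g ∈ D.O := by
  refine D.mem_O.mpr ⟨?_, ho⟩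
  have h := D.mem_Dg.mp hg
  set z := g * D.a * g⁻¹ * D.a⁻¹ with hz
  have hzc := Subgroup.mem_center_iff.mp h
  have e1 : g * D.a * g⁻¹ = z * D.a := by rw [hz]; group
  have hpow : ∀ n : ℕ, g ^ n * D.a * (g ^ n)⁻¹ = z ^ n * D.a := by
    intro n
    induction n with
    | zero => simp
    | succ n ih =>
      rw [pow_succ' g, show g * g ^ n * D.a * (g * g ^ n)⁻¹ = g * (g ^ n * D.a * (g ^ n)⁻¹) * g⁻¹ by group, ih,
        show g * (z ^ n * D.a) * g⁻¹ = g * z ^ n * g⁻¹ * (g * D.a * g⁻¹) by group,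
        Subgroup.mem_center_iff.mp (pow_mem h n) g, mul_inv_cancel_right, e1, ← mul_assoc, ← pow_succ]
  have h2 := hpow (orderOf g)
  rw [pow_orderOf_eq_one, one_mul, inv_one, mul_one] at h2
  have hz1 : z ^ orderOf g = 1 := (mul_eq_right.mp h2.symm)
  obtain ⟨j, hj⟩ := ho
  rw [hj, pow_succ, pow_mul, pow_two, D.comm_sq h, one_pow, one_mul] at hz1
  rw [hz1, one_mul] at e1
  exact mul_inv_eq_iff_eq_mul.mp e1

/-- The product `O S`. -/
def OS : Subgroup L where
  carrier := {g | ∃ u ∈ D.O, ∃ s ∈ (D.S : Subgroup L), g = u * s}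
  one_mem' := ⟨1, one_mem _, 1, one_mem _, (one_mul 1).symm⟩
  mul_mem' := by
    rintro _ _ ⟨u, hu, s, hs, rfl⟩ ⟨v, hv, t, ht, rfl⟩
    exact ⟨u * (s * v * s⁻¹), mul_mem hu (D.conj_O (D.S_le_Dg hs) hv), s * t, mul_mem hs ht, by group⟩
  inv_mem' := by
    rintro _ ⟨u, hu, s, hs, rfl⟩
    exact ⟨s⁻¹ * u⁻¹ * s⁻¹⁻¹, D.conj_O (D.S_le_Dg (inv_mem hs)) (inv_mem hu), s⁻¹, inv_mem hs, by group⟩

theorem Dg_decomp {g : L} (hg : g ∈ D.Dg) : ∃ u ∈ D.O, ∃ s ∈ (D.S : Subgroup L), g = u * s := by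
  have hle : D.OS ≤ D.Dg := by
    rintro _ ⟨u, hu, s, hs, rfl⟩
    exact mul_mem (D.O_le_Dg hu) (D.S_le_Dg hs)
  have hdvd : Nat.card D.Dg ∣ Nat.card D.OS := by
    rw [Nat.dvd_iff_prime_pow_dvd_dvd]
    intro p k hp hpk
    haveI : Fact p.Prime := ⟨hp⟩
    rcases hp.eq_two_or_odd' with rfl | hodd
    · exact (D.S.pow_dvd_card_of_pow_dvd_card (hpk.trans (Subgroup.card_subgroup_dvd_card _))).trans
        (Subgroup.card_dvd_of_le fun s hs => ⟨1, one_mem _, s, hs, (one_mul s).symm⟩)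
    · obtain ⟨P⟩ : Nonempty (Sylow p D.Dg) := inferInstance
      refine (P.pow_dvd_card_of_pow_dvd_card hpk).trans ?_
      rw [← Subgroup.card_map_of_injective D.Dg.subtype_injective]
      refine Subgroup.card_dvd_of_le ?_
      rintro _ ⟨x, hx, rfl⟩
      refine ⟨x, D.odd_mem_O x.2 ?_, 1, one_mem _, (mul_one _).symm⟩
      obtain ⟨j, hj⟩ := P.2 ⟨x, hx⟩
      rw [Subgroup.orderOf_coe]
      exact (hodd.pow).of_dvd_nat (orderOf_dvd_of_pow_eq_one (congrArg Subtype.val hj))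
  exact (Subgroup.eq_of_le_of_card_ge hle (Nat.le_of_dvd Nat.card_pos hdvd)).ge hg

/-- Elements of `O` fixed by an element moving `a` are central in `Dg`. -/
theorem fixed_central {v x g : L} (hv : v ∈ D.O) (hx : x ∈ (D.S : Subgroup L)) (hxa : x * D.a ≠ D.a * x)
    (hxv : x * v = v * x) (hg : g ∈ D.Dg) : g * v = v * g :=
  D.q.hyp.move D.Dg_ne_top (D.O_le_Dg hv) (D.S_le_Dg D.ha) (D.S_le_Dg hx) ((D.mem_O.mp hv).1).symm hxv
    (fun e => hxa e.symm) g hg

end TwoData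

/-- The data exists. -/
theorem Quasi.exists_twoData (q : Quasi L) (S : Sylow 2 L)
    (hS : ∃ x ∈ (S : Subgroup L), ∃ y ∈ (S : Subgroup L), x * y ≠ y * x) :
    ∃ D : TwoData L, D.q = q := by
  haveI : Fact (Nat.Prime 2) := ⟨Nat.prime_two⟩
  obtain ⟨x₀, hx₀, y₀, hy₀, hne₀⟩ := id hS
  set P := (S : Subgroup L).map (QuotientGroup.mk' (Subgroup.center L)) with hP
  have hPp : IsPGroup 2 P := S.2.map _
  haveI : Nontrivial P := ⟨⟨_, x₀, hx₀, rfl⟩, 1, fun e => hne₀ (by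
    have h1 : x₀ ∈ Subgroup.center L := (QuotientGroup.eq_one_iff x₀).mp (congrArg Subtype.val e)
    exact (Subgroup.mem_center_iff.mp h1 y₀).symm)⟩
  haveI := hPp.center_nontrivial
  obtain ⟨k, hk⟩ := (hPp.to_subgroup (Subgroup.center P)).exists_card_eq
  have hk0 : k ≠ 0 := fun e => by
    have := Finite.one_lt_card (α := Subgroup.center P)
    rw [hk, e, pow_zero] at this
    omega
  obtain ⟨c, hc⟩ := exists_prime_orderOf_dvd_card' (G := Subgroup.center P) 2 (hk ▸ dvd_pow_self 2 hk0)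
  obtain ⟨⟨c1, a, ha, rfl⟩, hcc⟩ := c
  rw [← Subgroup.orderOf_coe, ← Subgroup.orderOf_coe] at hc
  obtain ⟨hc2, hc1⟩ := CfsgLib.Involutions.orderOf_eq_two_iff'.mp hc
  refine ⟨⟨q, S, hS, a, ha, fun e => hc1 ((QuotientGroup.eq_one_iff a).mpr e), ?_, fun s hs => ?_⟩, rfl⟩
  · exact (QuotientGroup.eq_one_iff (a * a)).mp hc2
  · have h := congrArg Subtype.val (Subgroup.mem_center_iff.mp hcc ⟨_, s, hs, rfl⟩)
    rw [← TwoData.π_eq_one]
    simp only [map_mul, map_inv]
    rw [mul_inv_eq_one, mul_inv_eq_iff_eq_mul]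
    exact h

end CfsgLib.MinNonCA
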